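import Mathlib

set_option autoImplicit false

namespace Cfsg.Agent.H8

theorem prime_dvd_mlcm {t : ℕ} (ht : t.Prime) (S : Multiset ℕ) (h : t ∣ S.lcm) : ∃ a ∈ S, t ∣ a := by
  induction S using Multiset.induction_on with
  | empty => simp at h; exact absurd h ht.one_lt.ne'
  | cons a S ih =>
    rw [Multiset.lcm_cons] at h
    rcases (Nat.Prime.dvd_lcm ht).1 h with h1 | h1
    · exact ⟨a, Multiset.mem_cons_self _ _, h1⟩
    · obtain ⟨b, hb, hb2⟩ := ih h1
      exact ⟨b, Multiset.mem_cons_of_mem hb, hb2⟩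

theorem exists_cycle_dvd {α : Type*} [Fintype α] [DecidableEq α] (σ : Equiv.Perm α) {t : ℕ} (ht : t.Prime)
    (h : t ∣ orderOf σ) : ∃ a ∈ σ.cycleType, t ∣ a := by
  rw [← Equiv.Perm.lcm_cycleType] at h
  exact prime_dvd_mlcm ht _ h

theorem prime_pow_dvd_mlcm {t k : ℕ} (ht : t.Prime) (hk : k ≠ 0) (S : Multiset ℕ) (h : t ^ k ∣ S.lcm) : ∃ a ∈ S, t ^ k ∣ a := by
  induction S using Multiset.induction_on with
  | empty =>
    simp at h
    exact absurd (h.resolve_right hk) ht.one_lt.ne'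
  | cons a S ih =>
    rw [Multiset.lcm_cons] at h
    have h2 : t ^ k ∣ a ∨ t ^ k ∣ S.lcm := by
      rcases Nat.eq_zero_or_pos a with ha | ha
      · left; rw [ha]; exact dvd_zero _
      rcases Nat.eq_zero_or_pos S.lcm with hS | hS
      · right; rw [hS]; exact dvd_zero _
      have h3 : (Nat.lcm a S.lcm) ≠ 0 := Nat.lcm_ne_zero ha.ne' hS.ne'
      have h4 := (ht.pow_dvd_iff_le_factorization h3).1 h
      rw [Nat.factorization_lcm ha.ne' hS.ne'] at h4
      simp only [Finsupp.sup_apply, le_sup_iff] at h4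
      rcases h4 with h5 | h5
      · left; exact (ht.pow_dvd_iff_le_factorization ha.ne').2 h5
      · right; exact (ht.pow_dvd_iff_le_factorization hS.ne').2 h5
    rcases h2 with h1 | h1
    · exact ⟨a, Multiset.mem_cons_self _ _, h1⟩
    · obtain ⟨b, hb, hb2⟩ := ih h1
      exact ⟨b, Multiset.mem_cons_of_mem hb, hb2⟩

theorem exists_cycle_dvd_pow {α : Type*} [Fintype α] [DecidableEq α] (σ : Equiv.Perm α) {t k : ℕ} (ht : t.Prime)
    (hk : k ≠ 0 := by norm_num) (h : t ^ k ∣ orderOf σ) : ∃ a ∈ σ.cycleType, t ^ k ∣ a := by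
  rw [← Equiv.Perm.lcm_cycleType] at h
  exact prime_pow_dvd_mlcm ht hk _ h

theorem sum_cycleType_fin_le {n : ℕ} (σ : Equiv.Perm (Fin n)) : σ.cycleType.sum ≤ n := by
  have := Equiv.Perm.sum_cycleType_le σ
  simpa using this

/-- lists of parts `≥ 2`, `≤ k`, nonincreasing, sum `≤ s` -/
def enumParts : ℕ → ℕ → ℕ → List (List ℕ)
  | 0, _, _ => [[]]
  | f + 1, s, k => [] :: ((List.range (min s k + 1)).filter (fun a => decide (2 ≤ a))).flatMap
      (fun a => (enumParts f (s - a) a).map (fun l => a :: l))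

theorem mem_enumParts (f s k : ℕ) (l : List ℕ) (hs : l.sum ≤ s) (hf : s ≤ f) (hk : ∀ a ∈ l, a ≤ k)
    (h2 : ∀ a ∈ l, 2 ≤ a) (hsort : l.Pairwise (· ≥ ·)) : l ∈ enumParts f s k := by
  induction f generalizing s k l with
  | zero =>
    cases l with
    | nil => simp [enumParts]
    | cons a l =>
      have := h2 a (by simp)
      simp at hs
      omega
  | succ f ih =>
    cases l with
    | nil => simp [enumParts]
    | cons a l =>
      have ha := h2 a (by simp)
      have hak := hk a (by simp)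
      rw [List.sum_cons] at hs
      rw [enumParts, List.mem_cons]
      right
      rw [List.mem_flatMap]
      refine ⟨a, ?_, ?_⟩
      · rw [List.mem_filter, List.mem_range]
        exact ⟨by omega, by simpa using ha⟩
      · rw [List.mem_map]
        refine ⟨l, ?_, rfl⟩
        rw [List.pairwise_cons] at hsort
        exact ih (s - a) a l (by omega) (by omega) (fun b hb => hsort.1 b hb)
          (fun b hb => h2 b (by simp [hb])) hsort.2

theorem foldr_lcm (l : List ℕ) : (l : Multiset ℕ).lcm = l.foldr Nat.lcm 1 := by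
  induction l with
  | nil => rfl
  | cons a l ih => rw [← Multiset.cons_coe, Multiset.lcm_cons, ih]; rfl

/-- cycle type as a sorted list -/
theorem exists_list_type {n : ℕ} (σ : Equiv.Perm (Fin n)) : ∃ l ∈ enumParts n n n, (l : Multiset ℕ) = σ.cycleType ∧
    orderOf σ = l.foldr Nat.lcm 1 ∧ Equiv.Perm.sign σ = (-1) ^ (l.sum + l.length) := by
  refine ⟨σ.cycleType.sort (· ≥ ·), ?_, Multiset.sort_eq _ _, ?_, ?_⟩
  · have hs : (σ.cycleType.sort (· ≥ ·)).sum ≤ n := by
      rw [← Multiset.sum_coe, Multiset.sort_eq]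
      exact sum_cycleType_fin_le σ
    refine mem_enumParts n n n _ hs le_rfl ?_ ?_ (Multiset.pairwise_sort _ _)
    · intro a ha
      rw [Multiset.mem_sort] at ha
      exact (Multiset.le_sum_of_mem ha).trans (sum_cycleType_fin_le σ)
    · intro a ha
      rw [Multiset.mem_sort] at ha
      exact Equiv.Perm.two_le_of_mem_cycleType ha
  · rw [← foldr_lcm, Multiset.sort_eq, Equiv.Perm.lcm_cycleType]
  · rw [Equiv.Perm.sign_of_cycleType, ← Multiset.sum_coe, ← Multiset.coe_card, Multiset.sort_eq]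

theorem exists_alt_of_list {n : ℕ} (l : List ℕ) (h : l.sum ≤ n) (h2 : ∀ a ∈ l, 2 ≤ a)
    (he : Even (l.sum + l.length)) : l.foldr Nat.lcm 1 ∈ Set.range (orderOf : alternatingGroup (Fin n) → ℕ) := by
  obtain ⟨σ, hσ⟩ := (Equiv.Perm.exists_with_cycleType_iff (Fin n) (m := (l : Multiset ℕ))).2
      (by
        refine ⟨by simpa using h, ?_⟩
        intro a ha
        exact h2 a (by simpa using ha))
  have hsg : Equiv.Perm.sign σ = 1 := by
    rw [Equiv.Perm.sign_of_cycleType, hσ, Multiset.sum_coe, Multiset.coe_card]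
    exact he.neg_one_pow
  refine ⟨⟨σ, Equiv.Perm.mem_alternatingGroup.2 hsg⟩, ?_⟩
  rw [← Subgroup.orderOf_coe, ← Equiv.Perm.lcm_cycleType, hσ, foldr_lcm]

end Cfsg.Agent.H8
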