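import Mathlib

set_option autoImplicit false

namespace Cfsg.Agent.H8.SLn

open Matrix Matrix.SpecialLinearGroup

variable {ι F : Type*} [DecidableEq ι] [Fintype ι] [Field F]

theorem abstract_w {R : Type*} [Ring R] [Algebra F R] (E G P Q : R) (hEE : E * E = 0) (hGG : G * G = 0)
    (hEG : E * G = P) (hGE : G * E = Q) (hPE : P * E = E) (hQG : Q * G = G) (hPG : P * G = 0) (hQE : Q * E = 0)
    (a : F) (ha : a ≠ 0) :
    (1 + a • E) * (1 + (-a⁻¹) • G) * (1 + a • E) * ((1 + (-1 : F) • E) * (1 + (1 : F) • G) * (1 + (-1 : F) • E)) =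
      1 + (a - 1) • P + (a⁻¹ - 1) • Q := by
  have h1 : (1 + a • E) * (1 + (-a⁻¹) • G) * (1 + a • E) = 1 - P - Q + a • E - a⁻¹ • G := by
    simp only [add_mul, mul_add, one_mul, mul_one, smul_mul_assoc, mul_smul_comm, hEE, hGG, hEG, hGE, hPE, hQG, hPG, hQE, smul_zero]
    have e1 : a • (-a⁻¹) • P = (-1 : F) • P := by
      rw [smul_smul, mul_neg, mul_inv_cancel₀ ha]
    have e2 : (-a⁻¹) • a • Q = (-1 : F) • Q := by
      rw [smul_smul, neg_mul, inv_mul_cancel₀ ha]
    have e3 : a • (-a⁻¹) • a • E = (-a) • E := by
      rw [smul_smul, smul_smul]; congr 1; field_simp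
    simp only [smul_smul, smul_add]
    match_scalars <;> field_simp <;> ring
  have h2 : (1 + (-1 : F) • E) * (1 + (1 : F) • G) * (1 + (-1 : F) • E) = 1 - P - Q - E + G := by
    simp only [add_mul, mul_add, one_mul, mul_one, smul_mul_assoc, mul_smul_comm, hEE, hGG, hEG, hGE, hPE, hQG, hPG, hQE, smul_zero]
    module
  rw [h1, h2]
  have hPP : P * P = P := by nth_rw 2 [← hEG]; rw [← mul_assoc, hPE, hEG]
  have hQQ : Q * Q = Q := by nth_rw 2 [← hGE]; rw [← mul_assoc, hQG, hGE]
  have hPQ : P * Q = 0 := by rw [← hGE, ← mul_assoc, hPG, zero_mul]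
  have hQP : Q * P = 0 := by rw [← hEG, ← mul_assoc, hQE, zero_mul]
  have hEP : E * P = 0 := by rw [← hEG, ← mul_assoc, hEE, zero_mul]
  have hEQ : E * Q = E := by rw [← hGE, ← mul_assoc, hEG, hPE]
  have hGP : G * P = G := by rw [← hEG, ← mul_assoc, hGE, hQG]
  have hGQ : G * Q = 0 := by rw [← hGE, ← mul_assoc, hGG, zero_mul]
  simp only [sub_mul, add_mul, mul_add, mul_sub, one_mul, mul_one, smul_mul_assoc, mul_smul_comm, hEE, hGG, hEG, hGE, hPE, hQG, hPG, hQE,
    hPP, hQQ, hPQ, hQP, hEP, hEQ, hGP, hGQ, smul_zero]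
  module

theorem diag2n_eq {i j : ι} (hij : i ≠ j) (a : F) (ha : a ≠ 0) :
    diag2n hij a ha = transvection hij a * transvection hij.symm (-a⁻¹) * transvection hij a *
      (transvection hij (-1) * transvection hij.symm 1 * transvection hij (-1)) := by
  apply coeMonoidHom_injective
  have hd : (diag2n hij a ha).1 = 1 + (a - 1) • single i i (1 : F) + (a⁻¹ - 1) • single j j (1 : F) := by
    rw [diag2n_coe]
    ext k l
    by_cases hkl : k = l
    · subst hkl
      simp only [Matrix.diagonal_apply_eq, Matrix.add_apply, Matrix.one_apply_eq, Matrix.smul_apply, Matrix.single_apply]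
      by_cases hki : k = i
      · subst hki; simp [hij.symm]
      · by_cases hkj : k = j
        · subst hkj; simp [hki, Ne.symm hki]
        · simp [hki, hkj, Ne.symm hki, Ne.symm hkj]
    · rw [Matrix.diagonal_apply_ne _ hkl, Matrix.add_apply, Matrix.add_apply, Matrix.one_apply_ne hkl,
        Matrix.smul_apply, Matrix.smul_apply,
        Matrix.single_apply, Matrix.single_apply, if_neg, if_neg]
      · simp
      · rintro ⟨h1, h2⟩; exact hkl (h1.symm.trans h2)
      · rintro ⟨h1, h2⟩; exact hkl (h1.symm.trans h2)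
  have s : ∀ (r t : ι) (x : F), single r t x = x • single r t (1 : F) := by
    intro r t x; rw [Matrix.smul_single]; simp
  simp only [map_mul, coeMonoidHom_apply, transvection_coe]
  rw [hd, s i j a, s j i (-a⁻¹), s i j (-1)]
  have h := abstract_w (F := F) (single i j (1 : F)) (single j i (1 : F)) (single i i (1 : F)) (single j j (1 : F))
    (single_mul_single_of_ne _ _ _ _ hij.symm _)
    (single_mul_single_of_ne _ _ _ _ hij _)
    (by simp) (by simp) (by simp) (by simp)
    (single_mul_single_of_ne _ _ _ _ hij _)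
    (single_mul_single_of_ne _ _ _ _ hij.symm _) a ha
  rw [← h, one_smul]

theorem transvection_induction [Nontrivial ι] (P : SpecialLinearGroup ι F → Prop)
    (htransvec : ∀ (i j : ι) (hij : i ≠ j) (a : F), P (transvection hij a))
    (hmul : ∀ A B, P A → P B → P (A * B)) (M : SpecialLinearGroup ι F) : P M := by
  apply diagonal_transvection_induction' P M
  · intro i j hij c hc
    rw [diag2n_eq]
    refine hmul _ _ (hmul _ _ (hmul _ _ (htransvec _ _ _ _) (htransvec _ _ _ _)) (htransvec _ _ _ _))
      (hmul _ _ (hmul _ _ (htransvec _ _ _ _) (htransvec _ _ _ _)) (htransvec _ _ _ _))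
  · exact fun i j hij a => htransvec i j hij a
  · exact hmul

theorem mem_of_transvections [Nontrivial ι] (H : Subgroup (SpecialLinearGroup ι F))
    (h : ∀ (i j : ι) (hij : i ≠ j) (a : F), transvection hij a ∈ H) : H = ⊤ := by
  rw [eq_top_iff]
  intro g _
  exact transvection_induction (fun g => g ∈ H) h (fun A B hA hB => H.mul_mem hA hB) g

theorem transvection_add {i j : ι} (hij : i ≠ j) (a b : F) :
    transvection hij (a + b) = transvection hij a * transvection hij b := by
  apply coeMonoidHom_injective
  simp only [map_mul, coeMonoidHom_apply, transvection_coe]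
  have e1 : ∀ x y : F, single i j x * single i j y = 0 := fun x y => single_mul_single_of_ne _ _ _ _ hij.symm _
  simp only [add_mul, mul_add, one_mul, mul_one, e1, add_zero, Matrix.single_add]
  abel

/-- commutator relation `[x_ij(a), x_jk(b)] = x_ik(ab)` -/
theorem transvection_comm {i j k : ι} (hij : i ≠ j) (hjk : j ≠ k) (hik : i ≠ k) (a b : F) :
    transvection hij a * transvection hjk b * (transvection hij a)⁻¹ * (transvection hjk b)⁻¹ =
      transvection hik (a * b) := by
  rw [transvection_inv, transvection_inv]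
  apply coeMonoidHom_injective
  simp only [map_mul, coeMonoidHom_apply, transvection_coe]
  have e1 : ∀ x y : F, single i j x * single i j y = 0 := fun x y => single_mul_single_of_ne _ _ _ _ hij.symm _
  have e2 : ∀ x y : F, single j k x * single j k y = 0 := fun x y => single_mul_single_of_ne _ _ _ _ hjk.symm _
  have e3 : ∀ x y : F, single i j x * single j k y = single i k (x * y) := fun x y => single_mul_single_same _ _ _ _ _
  have e4 : ∀ x y : F, single j k x * single i j y = 0 := fun x y => single_mul_single_of_ne _ _ _ _ hik.symm _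
  have e5 : ∀ x y : F, single i k x * single i j y = 0 := fun x y => single_mul_single_of_ne _ _ _ _ hik.symm _
  have e6 : ∀ x y : F, single i k x * single j k y = 0 := fun x y => single_mul_single_of_ne _ _ _ _ hjk.symm _
  simp only [add_mul, mul_add, one_mul, mul_one, e1, e2, e3, e4, e5, e6, add_zero, zero_add]
  ext r s
  simp only [Matrix.add_apply, Matrix.single_apply]
  split_ifs <;> first | ring1 | (exfalso; simp_all; done) | (simp_all; done)

/-- for `n ≥ 3`, `SL_n` is perfect -/
theorem commutator_eq_top (h3 : 3 ≤ Fintype.card ι) : commutator (SpecialLinearGroup ι F) = ⊤ := by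
  have : Nontrivial ι := Fintype.one_lt_card_iff_nontrivial.1 (by omega)
  apply mem_of_transvections
  intro i j hij a
  obtain ⟨k, hk1, hk2⟩ : ∃ k : ι, k ≠ i ∧ k ≠ j := by
    by_contra hcon
    push Not at hcon
    have : (Finset.univ : Finset ι) ⊆ {i, j} := by
      intro k _
      by_cases h : k = i
      · simp [h]
      · simp [hcon k h]
    have h4 := Finset.card_le_card this
    have h5 : ({i, j} : Finset ι).card ≤ 2 := Finset.card_le_two
    rw [Finset.card_univ] at h4
    omega
  have h := transvection_comm (F := F) (Ne.symm hk1) hk2 hij a 1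
  rw [mul_one] at h
  rw [← h, ← commutatorElement_def]
  exact Subgroup.commutator_mem_commutator (Subgroup.mem_top _) (Subgroup.mem_top _)

end Cfsg.Agent.H8.SLn
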