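import Mathlib
import Cfsg.Agent.H8.SL2c
import Cfsg.Agent.H8.SLn

set_option autoImplicit false

namespace Cfsg.Agent.H8.AutPSL

open Matrix

variable {F : Type*} [Field F] {n : ℕ}

/-- upper unitriangular matrices in `SL_n` -/
def U (n : ℕ) (F : Type*) [Field F] : Subgroup (SpecialLinearGroup (Fin n) F) where
  carrier := {s | (∀ i j, j < i → s.1 i j = 0) ∧ ∀ i, s.1 i i = 1}
  mul_mem' := by
    rintro s t ⟨hs, hs'⟩ ⟨ht, ht'⟩
    constructor
    · intro i j hij
      show (s.1 * t.1) i j = 0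
      rw [Matrix.mul_apply]
      apply Finset.sum_eq_zero
      intro k _
      by_cases hk : k < i
      · rw [hs i k hk, zero_mul]
      · rw [ht k j (lt_of_lt_of_le hij (not_lt.1 hk)), mul_zero]
    · intro i
      show (s.1 * t.1) i i = 1
      rw [Matrix.mul_apply, Finset.sum_eq_single i]
      · rw [hs', ht', one_mul]
      · intro k _ hk
        rcases lt_or_gt_of_ne hk with h | h
        · rw [hs i k h, zero_mul]
        · rw [ht k i h, mul_zero]
      · intro h; exact absurd (Finset.mem_univ _) h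
  one_mem' := by
    constructor
    · intro i j hij
      exact Matrix.one_apply_ne hij.ne'
    · intro i
      exact Matrix.one_apply_eq i
  inv_mem' := by
    rintro s ⟨hs, hs'⟩
    have hbt : Matrix.BlockTriangular s.1 id := fun i j h => hs i j h
    have hinv : (s⁻¹ : SpecialLinearGroup (Fin n) F).1 = (s.1)⁻¹ := by
      have h1 : s.1 * (s⁻¹ : SpecialLinearGroup (Fin n) F).1 = 1 := congrArg Subtype.val (mul_inv_cancel s)
      exact (Matrix.inv_eq_right_inv h1).symm
    have hu : IsUnit s.1.det := by rw [s.2]; exact isUnit_one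
    haveI : Invertible s.1 := Matrix.invertibleOfIsUnitDet _ hu
    have h2 := Matrix.blockTriangular_inv_of_blockTriangular hbt
    have h3 : ∀ i j, j < i → (s⁻¹ : SpecialLinearGroup (Fin n) F).1 i j = 0 := by
      intro i j hij
      rw [hinv]
      exact h2 hij
    refine ⟨h3, ?_⟩
    intro i
    have h4 : s.1 * (s⁻¹ : SpecialLinearGroup (Fin n) F).1 = 1 := congrArg Subtype.val (mul_inv_cancel s)
    have h5 := congrFun (congrFun h4 i) i
    rw [Matrix.mul_apply, Matrix.one_apply_eq, Finset.sum_eq_single i, hs', one_mul] at h5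
    · exact h5
    · intro k _ hk
      rcases lt_or_gt_of_ne hk with h | h
      · rw [hs i k h, zero_mul]
      · rw [h3 k i h, mul_zero]
    · intro h; exact absurd (Finset.mem_univ _) h

theorem mem_U (s : SpecialLinearGroup (Fin n) F) : s ∈ U n F ↔ (∀ i j, j < i → s.1 i j = 0) ∧ ∀ i, s.1 i i = 1 := Iff.rfl

noncomputable def UEquiv (n : ℕ) (F : Type*) [Field F] : U n F ≃ ((j : Fin n) → {i : Fin n // i < j} → F) where
  toFun s := fun j i => s.1.1 i.1 j
  invFun f := ⟨⟨Matrix.of fun i j => if h : i < j then f j ⟨i, h⟩ else if i = j then 1 else 0, by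
      rw [Matrix.det_of_upperTriangular]
      · apply Finset.prod_eq_one
        intro i _
        simp
      · intro i j hij
        have hij' : j < i := hij
        simp [not_lt.2 hij'.le, hij'.ne']⟩, by
      constructor
      · intro i j hij
        simp [not_lt.2 hij.le, hij.ne']
      · intro i
        simp⟩
  left_inv s := by
    apply Subtype.ext
    apply Subtype.ext
    ext i j
    show (if h : i < j then s.1.1 i j else if i = j then (1 : F) else 0) = s.1.1 i j
    by_cases h : i < j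
    · rw [dif_pos h]
    · rw [dif_neg h]
      by_cases h2 : i = j
      · rw [if_pos h2, h2, s.2.2]
      · rw [if_neg h2, s.2.1 i j (lt_of_le_of_ne (not_lt.1 h) (Ne.symm h2))]
  right_inv f := by
    funext j i
    show (if h : i.1 < j then f j ⟨i.1, h⟩ else if i.1 = j then (1 : F) else 0) = f j i
    rw [dif_pos i.2]

theorem card_U (n : ℕ) (F : Type*) [Field F] [Finite F] : Nat.card (U n F) = ∏ j : Fin n, Nat.card F ^ (j : ℕ) := by
  rw [Nat.card_congr (UEquiv n F), Nat.card_pi]
  apply Finset.prod_congr rfl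
  intro j _
  rw [Nat.card_fun]
  congr 1
  have : Nat.card (Finset.Iio j) = j := by rw [Nat.card_eq_fintype_card, Fintype.card_coe, Fin.card_Iio]
  rw [← this]
  exact Nat.card_congr (Equiv.subtypeEquivRight (fun i => by simp))

variable (p : ℕ) [Fact p.Prime] [CharP F p]

theorem isPGroup_U [Finite F] : IsPGroup p (U n F) := by
  haveI := Fintype.ofFinite F
  obtain ⟨k, hk1, hk2⟩ := FiniteField.card F p
  apply IsPGroup.of_card (n := (k : ℕ) * ∑ j : Fin n, (j : ℕ))
  rw [card_U, Nat.card_eq_fintype_card, hk2]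
  rw [Finset.prod_pow_eq_pow_sum, pow_mul]

theorem index_U [Finite F] (hn : 1 ≤ n) : ¬ p ∣ (U n F).index := by
  haveI := Fintype.ofFinite F
  have hp : p.Prime := Fact.out
  intro hdvd
  have h1 := (U n F).card_mul_index
  have h2 := SL2.card_SLn_mul (F := F) n hn
  rw [Matrix.card_GL_field, ← h1, card_U, ← Nat.card_eq_fintype_card] at h2
  have h3 : ∏ i : Fin n, (Nat.card F ^ n - Nat.card F ^ (i : ℕ)) = (∏ j : Fin n, Nat.card F ^ (j : ℕ)) * ∏ i : Fin n, (Nat.card F ^ (n - (i : ℕ)) - 1) := by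
    rw [← Finset.prod_mul_distrib]
    apply Finset.prod_congr rfl
    intro i _
    rw [Nat.mul_sub, mul_one, ← pow_add]
    congr 2
    have := i.2
    omega
  rw [h3, mul_assoc] at h2
  have h4 : (U n F).index * (Nat.card F - 1) = ∏ i : Fin n, (Nat.card F ^ (n - (i : ℕ)) - 1) := by
    apply Nat.eq_of_mul_eq_mul_left _ h2
    apply Finset.prod_pos
    intro i _
    exact pow_pos Nat.card_pos _
  have h5 : p ∣ ∏ i : Fin n, (Nat.card F ^ (n - (i : ℕ)) - 1) := by
    rw [← h4]; exact hdvd.mul_right _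
  rw [hp.prime.dvd_finset_prod_iff] at h5
  obtain ⟨i, -, hi⟩ := h5
  have hpq : p ∣ Nat.card F := by
    obtain ⟨k, hk1, hk2⟩ := FiniteField.card F p
    rw [Nat.card_eq_fintype_card, hk2]
    exact dvd_pow_self p k.pos.ne'
  have h6 : p ∣ Nat.card F ^ (n - (i : ℕ)) := by
    apply hpq.trans
    apply dvd_pow_self
    have := i.2
    omega
  have h7 := Nat.dvd_sub h6 hi
  have h8 : Nat.card F ^ (n - (i : ℕ)) - (Nat.card F ^ (n - (i : ℕ)) - 1) = 1 := by
    have : 0 < Nat.card F ^ (n - (i : ℕ)) := pow_pos Nat.card_pos _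
    omega
  rw [h8] at h7
  exact hp.one_lt.ne' (Nat.dvd_one.1 h7)

/-- projection -/
abbrev pr (n : ℕ) (F : Type*) [Field F] : SpecialLinearGroup (Fin n) F →* ProjectiveSpecialLinearGroup (Fin n) F :=
  QuotientGroup.mk' _

theorem pr_surj : Function.Surjective (pr n F) := QuotientGroup.mk'_surjective _

theorem pr_eq_iff (s t : SpecialLinearGroup (Fin n) F) : pr n F s = pr n F t ↔ ∃ c : F, c ^ n = 1 ∧ t.1 = c • s.1 := by
  have h1 : pr n F s = pr n F t ↔ s⁻¹ * t ∈ Subgroup.center (SpecialLinearGroup (Fin n) F) := QuotientGroup.eq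
  rw [h1, Matrix.SpecialLinearGroup.mem_center_iff]
  constructor
  · rintro ⟨c, hc, h⟩
    rw [Fintype.card_fin] at hc
    refine ⟨c, hc, ?_⟩
    have h2 : t = s * (s⁻¹ * t) := by group
    have h3 : t.1 = s.1 * (s⁻¹ * t).1 := congrArg Subtype.val h2
    rw [h3, ← h, Matrix.scalar_apply, ← Matrix.smul_eq_mul_diagonal]
  · rintro ⟨c, hc, h⟩
    refine ⟨c, by rw [Fintype.card_fin]; exact hc, ?_⟩
    show _ = (s⁻¹ : SpecialLinearGroup (Fin n) F).1 * t.1
    have h2 : (s⁻¹ : SpecialLinearGroup (Fin n) F).1 * s.1 = 1 := congrArg Subtype.val (inv_mul_cancel s)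
    rw [h, Matrix.mul_smul, h2, Matrix.scalar_apply, Matrix.smul_one_eq_diagonal]

/-- unique `p`-lifts -/
theorem pr_inj_of_pow (s t : SpecialLinearGroup (Fin n) F) (k : ℕ) (hs : s ^ p ^ k = 1) (ht : t ^ p ^ k = 1)
    (h : pr n F s = pr n F t) : s = t := by
  rcases Nat.eq_zero_or_pos n with hn | hn
  · subst hn
    apply Subtype.ext
    ext i; exact i.elim0
  obtain ⟨c, hc, hct⟩ := (pr_eq_iff s t).1 h
  have h1 : t.1 ^ p ^ k = 1 := by
    have := congrArg Subtype.val ht
    exact this
  have h2 : s.1 ^ p ^ k = 1 := by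
    have := congrArg Subtype.val hs
    exact this
  rw [hct, smul_pow, h2] at h1
  have h3 : c ^ p ^ k = 1 := by
    have := congrFun (congrFun h1 ⟨0, hn⟩) ⟨0, hn⟩
    simpa using this
  have h4 : c = 1 := by
    have h5 : (c - 1) ^ p ^ k = 0 := by
      rw [sub_pow_char_pow, h3, one_pow, sub_self]
    exact sub_eq_zero.1 (pow_eq_zero_iff (pow_ne_zero _ (Fact.out : p.Prime).ne_zero)|>.1 h5)
  apply Subtype.ext
  rw [hct, h4, one_smul]

end Cfsg.Agent.H8.AutPSL
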