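import Mathlib
import Cfsg.Agent.H8.AutA

set_option autoImplicit false

namespace Cfsg.Agent.H8.AutPSL

open Matrix Matrix.SpecialLinearGroup
open scoped Pointwise

variable {F : Type*} [Field F] {n : ℕ}

/-- the root element in terms of single -/
theorem tr_val {i j : Fin n} (hij : i ≠ j) (a : F) : (transvection hij a).1 = 1 + single i j a := rfl

theorem tr_mul_single {i j : Fin n} (hij : i ≠ j) (a : F) (s : SpecialLinearGroup (Fin n) F) :
    s * transvection hij a = transvection hij a * s ↔ s.1 * single i j a = single i j a * s.1 := by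
  constructor
  · intro h
    have h1 : s.1 * (1 + single i j a) = (1 + single i j a) * s.1 := congrArg Subtype.val h
    rw [mul_add, add_mul, mul_one, one_mul] at h1
    exact add_left_cancel h1
  · intro h
    apply Subtype.ext
    show s.1 * (1 + single i j a) = (1 + single i j a) * s.1
    rw [mul_add, add_mul, mul_one, one_mul, h]

theorem tr_mem_U {i j : Fin n} (hij : i < j) (a : F) : transvection hij.ne a ∈ U n F := by
  rw [mem_U]
  constructor
  · intro k l hkl
    rw [tr_val, Matrix.add_apply, Matrix.one_apply_ne hkl.ne', zero_add]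
    apply Matrix.single_apply_of_ne
    rintro ⟨rfl, rfl⟩
    exact lt_asymm hij hkl
  · intro k
    rw [tr_val, Matrix.add_apply, Matrix.one_apply_eq]
    rw [Matrix.single_apply_of_ne, add_zero]
    rintro ⟨rfl, h⟩
    exact hij.ne h.symm

theorem center_U_eq {i₀ il : Fin n} (h0 : (i₀ : ℕ) = 0) (hl : (il : ℕ) + 1 = n) (hne : i₀ ≠ il) (s : SpecialLinearGroup (Fin n) F) (hs : s ∈ U n F)
    (hc : ∀ u ∈ U n F, s * u = u * s) : s = transvection hne (s.1 i₀ il) := by
  have hcom : ∀ i j : Fin n, i < j → Commute (single i j (1 : F)) s.1 := by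
    intro i j hij
    exact ((tr_mul_single hij.ne 1 s).1 (hc _ (tr_mem_U hij 1))).symm
  have hrow : ∀ j k : Fin n, i₀ < j → k ≠ j → s.1 j k = 0 := fun j k hj hk =>
    row_eq_zero_of_commute_single (hcom i₀ j hj) hk
  have hcol : ∀ i k : Fin n, i < il → k ≠ i → s.1 k i = 0 := fun i k hi hk =>
    col_eq_zero_of_commute_single (hcom i il hi) hk
  apply Subtype.ext
  rw [tr_val]
  ext a b
  rw [Matrix.add_apply]
  by_cases hab : a = b
  · subst hab
    rw [hs.2, Matrix.one_apply_eq, Matrix.single_apply_of_ne, add_zero]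
    rintro ⟨h1, h2⟩
    exact hne (h1.trans h2.symm)
  · rw [Matrix.one_apply_ne hab, zero_add]
    by_cases ha : a = i₀
    · by_cases hb : b = il
      · rw [ha, hb, Matrix.single_apply_same]
      · rw [Matrix.single_apply_of_ne]
        · apply hcol b a _ hab
          rw [Fin.lt_def]
          have := b.2
          have h3 : (b : ℕ) ≠ il := fun h => hb (Fin.ext h)
          omega
        · rintro ⟨-, h⟩; exact hb h.symm
    · rw [Matrix.single_apply_of_ne]
      · apply hrow a b _ (Ne.symm hab)
        rw [Fin.lt_def, h0]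
        have h3 : (a : ℕ) ≠ i₀ := fun h => ha (Fin.ext h)
        omega
      · rintro ⟨h, -⟩; exact ha h.symm

variable (p : ℕ) [Fact p.Prime] [CharP F p]
include p

theorem U_pow [Finite F] (u : SpecialLinearGroup (Fin n) F) (hu : u ∈ U n F) : ∃ k : ℕ, u ^ p ^ k = 1 := by
  obtain ⟨k, hk⟩ := isPGroup_U (n := n) (F := F) p ⟨u, hu⟩
  exact ⟨k, congrArg Subtype.val hk⟩

/-- image of the highest root group -/
theorem base_image [Finite F] (α : MulAut (ProjectiveSpecialLinearGroup (Fin n) F)) {i₀ il : Fin n} (h0 : (i₀ : ℕ) = 0) (hl : (il : ℕ) + 1 = n) (hne : i₀ ≠ il) :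
    ∃ h : SpecialLinearGroup (Fin n) F, ∀ a : F, ∃ b : F, α (pr n F (transvection hne a)) = pr n F (h * transvection hne b * h⁻¹) := by
  have hn : 1 ≤ n := by omega
  have hidx : ¬ p ∣ ((U n F).map (pr n F)).index := by
    intro h
    exact index_U p hn (h.trans (Subgroup.index_map_dvd _ pr_surj))
  let S : Sylow p (ProjectiveSpecialLinearGroup (Fin n) F) := ((isPGroup_U (n := n) (F := F) p).map (pr n F)).toSylow hidx
  have hS : (S : Subgroup (ProjectiveSpecialLinearGroup (Fin n) F)) = (U n F).map (pr n F) := rfl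
  obtain ⟨g, hg⟩ := MulAction.exists_smul_eq (ProjectiveSpecialLinearGroup (Fin n) F) (α • S) S
  have hg' : MulAut.conj g • (α • (S : Subgroup (ProjectiveSpecialLinearGroup (Fin n) F))) = S := by
    have := congrArg (fun P : Sylow p (ProjectiveSpecialLinearGroup (Fin n) F) => (P : Subgroup (ProjectiveSpecialLinearGroup (Fin n) F))) hg
    rw [Sylow.smul_def] at this
    exact this
  have hmem1 : ∀ x ∈ (U n F).map (pr n F), g * α x * g⁻¹ ∈ (U n F).map (pr n F) := by
    intro x hx
    rw [← hS, ← hg', hS]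
    exact Subgroup.smul_mem_pointwise_smul _ _ _ (Subgroup.smul_mem_pointwise_smul _ _ _ hx)
  have hmem2 : ∀ y ∈ (U n F).map (pr n F), ∃ x ∈ (U n F).map (pr n F), g * α x * g⁻¹ = y := by
    intro y hy
    rw [← hS, ← hg', hS] at hy
    obtain ⟨z, hz, hzy⟩ := (Subgroup.mem_smul_pointwise_iff_exists _ _ _).1 hy
    obtain ⟨x, hx, hxz⟩ := (Subgroup.mem_smul_pointwise_iff_exists _ _ _).1 hz
    exact ⟨x, hx, by rw [← hzy, ← hxz]; rfl⟩
  obtain ⟨h, hh⟩ := pr_surj (n := n) (F := F) g⁻¹
  refine ⟨h, ?_⟩
  intro a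
  have hlt : i₀ < il := by
    rw [Fin.lt_def]
    have : (i₀ : ℕ) ≠ il := fun h => hne (Fin.ext h)
    omega
  have ha := tr_mem_U hlt a
  obtain ⟨u, hu, huz⟩ := hmem1 (pr n F (transvection hne a)) ⟨_, ha, rfl⟩
  -- the root element is central in U
  have hcentral : ∀ u ∈ U n F, transvection hne a * u = u * transvection hne a := by
    intro u hu
    rw [eq_comm, tr_mul_single]
    ext k l
    by_cases hk : k = i₀
    · by_cases hlx : l = il
      · rw [hk, hlx, Matrix.mul_single_apply_same, Matrix.single_mul_apply_same, hu.2, hu.2]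
        ring
      · rw [Matrix.mul_single_apply_of_ne (hbj := hlx), hk, Matrix.single_mul_apply_same, hu.1 il l, mul_zero]
        rw [Fin.lt_def]
        have := l.2
        have h3 : (l : ℕ) ≠ il := fun h => hlx (Fin.ext h)
        omega
    · rw [Matrix.single_mul_apply_of_ne (h := hk)]
      by_cases hlx : l = il
      · rw [hlx, Matrix.mul_single_apply_same, hu.1 k i₀, zero_mul]
        rw [Fin.lt_def, h0]
        have h3 : (k : ℕ) ≠ i₀ := fun h => hk (Fin.ext h)
        omega
      · rw [Matrix.mul_single_apply_of_ne (hbj := hlx)]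
  have huc : ∀ w ∈ U n F, u * w = w * u := by
    intro w hw
    obtain ⟨x, ⟨x', hx', rfl⟩, hxw⟩ := hmem2 (pr n F w) ⟨w, hw, rfl⟩
    have h1 : pr n F (u * w) = pr n F (w * u) := by
      rw [map_mul, map_mul, huz, ← hxw]
      have h2 : pr n F (transvection hne a) * pr n F x' = pr n F x' * pr n F (transvection hne a) := by
        rw [← map_mul, ← map_mul, hcentral x' hx']
      have h3 := congrArg α h2
      rw [map_mul, map_mul] at h3
      have e1 : g * α (pr n F (transvection hne a)) * g⁻¹ * (g * α (pr n F x') * g⁻¹) = g * (α (pr n F (transvection hne a)) * α (pr n F x')) * g⁻¹ := by group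
      have e2 : g * α (pr n F x') * g⁻¹ * (g * α (pr n F (transvection hne a)) * g⁻¹) = g * (α (pr n F x') * α (pr n F (transvection hne a))) * g⁻¹ := by group
      rw [e1, e2, h3]
    obtain ⟨k1, hk1⟩ := U_pow p (u * w) ((U n F).mul_mem hu hw)
    obtain ⟨k2, hk2⟩ := U_pow p (w * u) ((U n F).mul_mem hw hu)
    apply pr_inj_of_pow p _ _ (k1 + k2) _ _ h1
    · rw [pow_add, pow_mul, hk1, one_pow]
    · rw [pow_add, mul_comm, pow_mul, hk2, one_pow]
  have huv := center_U_eq h0 hl hne u hu huc
  refine ⟨u.1 i₀ il, ?_⟩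
  rw [map_mul, map_mul, ← huv, map_inv, hh, huz]
  group

omit p in
theorem exists_perm {ι : Type*} [DecidableEq ι] (a b i j : ι) (hab : a ≠ b) (hij : i ≠ j) : ∃ π : Equiv.Perm ι, π a = i ∧ π b = j := by
  refine ⟨(Equiv.swap a i).trans (Equiv.swap (Equiv.swap a i b) j), ?_, ?_⟩
  · rw [Equiv.trans_apply, Equiv.swap_apply_left, Equiv.swap_apply_of_ne_of_ne _ hij]
    intro h
    have : Equiv.swap a i a = Equiv.swap a i b := by rw [Equiv.swap_apply_left]; exact h
    exact hab ((Equiv.swap a i).injective this)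
  · rw [Equiv.trans_apply, Equiv.swap_apply_left]

omit p in
/-- conjugacy of root elements -/
theorem root_conj {i₀ il i j : Fin n} (hne : i₀ ≠ il) (hij : i ≠ j) : ∃ (k : SpecialLinearGroup (Fin n) F) (δ : F), δ ≠ 0 ∧
    ∀ a : F, transvection hij a = k * transvection hne (δ * a) * k⁻¹ := by
  obtain ⟨π, hπ1, hπ2⟩ := exists_perm i₀ il i j hne hij
  set M : Matrix (Fin n) (Fin n) F := Equiv.Perm.permMatrix F π⁻¹ with hM
  set δ : F := M.det with hδ
  have hδ2 : δ * δ = 1 := by
    rw [hδ, hM, Matrix.det_permutation]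
    rcases Int.units_eq_one_or (Equiv.Perm.sign π⁻¹) with h | h <;> rw [h] <;> simp
  have hδ0 : δ ≠ 0 := by intro h; rw [h, mul_zero] at hδ2; exact zero_ne_one hδ2
  set D : Matrix (Fin n) (Fin n) F := Matrix.diagonal (Function.update (fun _ => (1 : F)) il δ) with hD
  have hDdet : D.det = δ := by
    rw [hD, Matrix.det_diagonal, Finset.prod_update_of_mem (Finset.mem_univ _)]
    simp
  let k : SpecialLinearGroup (Fin n) F := ⟨M * D, by rw [Matrix.det_mul, hDdet, ← hδ, hδ2]⟩
  refine ⟨k, δ, hδ0, ?_⟩
  intro a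
  rw [eq_mul_inv_iff_mul_eq]
  apply Subtype.ext
  show (1 + single i j a) * (M * D) = (M * D) * (1 + single i₀ il (δ * a))
  rw [add_mul, mul_add, one_mul, mul_one]
  congr 1
  have hMapp : ∀ x y, M x y = if x = π y then 1 else 0 := by
    intro x y
    rw [hM, Equiv.Perm.permMatrix, PEquiv.toMatrix_apply]
    simp only [Equiv.toPEquiv_apply, Option.mem_def, Option.some.injEq]
    by_cases h : x = π y
    · rw [if_pos h, if_pos]; rw [h]; exact π.symm_apply_apply y
    · rw [if_neg h, if_neg]
      intro h2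
      apply h
      rw [← h2]; exact (π.apply_symm_apply x).symm
  have e1 : single i j a * M = single i il a := by
    ext x y
    by_cases hx : x = i
    · rw [hx, Matrix.single_mul_apply_same, hMapp]
      by_cases hy : y = il
      · rw [hy, if_pos hπ2.symm, Matrix.single_apply_same, mul_one]
      · rw [if_neg, mul_zero, Matrix.single_apply_of_ne]
        · rintro ⟨-, h⟩; exact hy h.symm
        · intro h; apply hy; apply π.injective; rw [hπ2, ← h]
    · rw [Matrix.single_mul_apply_of_ne (h := hx), Matrix.single_apply_of_ne]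
      rintro ⟨h, -⟩; exact hx h.symm
  have e2 : M * single i₀ il (δ * a) = single i il (δ * a) := by
    ext x y
    by_cases hy : y = il
    · rw [hy, Matrix.mul_single_apply_same, hMapp]
      by_cases hx : x = i
      · rw [hx, if_pos hπ1.symm, Matrix.single_apply_same, one_mul]
      · rw [if_neg, zero_mul, Matrix.single_apply_of_ne]
        · rintro ⟨h, -⟩; exact hx h.symm
        · intro h; apply hx; rw [h, hπ1]
    · rw [Matrix.mul_single_apply_of_ne (hbj := hy), Matrix.single_apply_of_ne]
      rintro ⟨-, h⟩; exact hy h.symm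
  have e3 : D * single i₀ il (δ * a) = single i₀ il (δ * a) := by
    rw [hD]
    ext x y
    rw [Matrix.diagonal_mul]
    by_cases hx : x = il
    · rw [hx, Matrix.single_apply_of_ne, mul_zero]
      rintro ⟨h, -⟩; exact hne h
    · rw [Function.update_of_ne hx, one_mul]
  have e4 : single i il a * D = single i il (δ * a) := by
    rw [hD]
    ext x y
    rw [Matrix.mul_diagonal]
    by_cases hy : y = il
    · rw [hy, Function.update_self]
      by_cases hx : x = i
      · rw [hx, Matrix.single_apply_same, Matrix.single_apply_same, mul_comm]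
      · rw [Matrix.single_apply_of_ne, Matrix.single_apply_of_ne, zero_mul]
        · rintro ⟨h, -⟩; exact hx h.symm
        · rintro ⟨h, -⟩; exact hx h.symm
    · rw [Matrix.single_apply_of_ne, Matrix.single_apply_of_ne, zero_mul]
      · rintro ⟨-, h⟩; exact hy h.symm
      · rintro ⟨-, h⟩; exact hy h.symm
  rw [← mul_assoc, e1, e4, mul_assoc, e3, e2]

theorem root_image [Finite F] (hn : 2 ≤ n) (α : MulAut (ProjectiveSpecialLinearGroup (Fin n) F)) {i j : Fin n} (hij : i ≠ j) :
    ∃ (W : SpecialLinearGroup (Fin n) F) (i₀ il : Fin n) (hne : i₀ ≠ il), ∀ a : F, ∃ b : F, α (pr n F (transvection hij a)) = pr n F (W * transvection hne b * W⁻¹) := by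
  let i₀ : Fin n := ⟨0, by omega⟩
  let il : Fin n := ⟨n - 1, by omega⟩
  have hne : i₀ ≠ il := by
    intro h
    have := congrArg Fin.val h
    simp only [i₀, il] at this
    omega
  obtain ⟨k, δ, hδ, hk⟩ := root_conj (F := F) hne hij
  obtain ⟨h, hh⟩ := base_image p α (i₀ := i₀) (il := il) rfl (by simp only [il]; omega) hne
  obtain ⟨k', hk'⟩ := pr_surj (n := n) (F := F) (α (pr n F k))
  refine ⟨k' * h, i₀, il, hne, ?_⟩
  intro a
  obtain ⟨b, hb⟩ := hh (δ * a)
  refine ⟨b, ?_⟩
  rw [hk a, map_mul, map_mul, map_inv, map_mul, map_mul, map_inv, hb, ← hk', ← map_inv, ← map_mul, ← map_mul]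
  congr 1
  group

end Cfsg.Agent.H8.AutPSL
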