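import Mathlib
import Cfsg.Agent.H8.AutB

set_option autoImplicit false

namespace Cfsg.Agent.H8.AutPSL

open Matrix Matrix.SpecialLinearGroup
open scoped Pointwise

variable {F : Type*} [Field F] {n : ℕ}

def Par (u w : Fin n → F) : Prop := ∃ c : F, c ≠ 0 ∧ u = c • w

theorem Par.refl (u : Fin n → F) : Par u u := ⟨1, one_ne_zero, (one_smul _ _).symm⟩

theorem Par.symm {u w : Fin n → F} (h : Par u w) : Par w u := by
  obtain ⟨c, hc, rfl⟩ := h
  exact ⟨c⁻¹, inv_ne_zero hc, by rw [smul_smul, inv_mul_cancel₀ hc, one_smul]⟩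

theorem Par.trans {u w z : Fin n → F} (h : Par u w) (h' : Par w z) : Par u z := by
  obtain ⟨c, hc, rfl⟩ := h
  obtain ⟨d, hd, rfl⟩ := h'
  exact ⟨c * d, mul_ne_zero hc hd, by rw [smul_smul]⟩

theorem Par.dot_left {u w z : Fin n → F} (h : Par u w) (h' : u ⬝ᵥ z = 0) : w ⬝ᵥ z = 0 := by
  obtain ⟨c, hc, rfl⟩ := h
  rw [smul_dotProduct, smul_eq_mul] at h'
  exact (mul_eq_zero.1 h').resolve_left hc

theorem Par.dot_right {u w z : Fin n → F} (h : Par u w) (h' : z ⬝ᵥ u = 0) : z ⬝ᵥ w = 0 := by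
  rw [dotProduct_comm] at h' ⊢
  exact h.dot_left h'

theorem vmv_zero {v f : Fin n → F} (h : vecMulVec v f = 0) : v = 0 ∨ f = 0 := by
  by_contra hcon
  push Not at hcon
  obtain ⟨h1, h2⟩ := hcon
  obtain ⟨i, hi⟩ := Function.ne_iff.1 h1
  obtain ⟨j, hj⟩ := Function.ne_iff.1 h2
  have h3 := congrFun (congrFun h i) j
  rw [vecMulVec_apply] at h3
  exact mul_ne_zero hi hj h3

theorem vmv_par {v f v' f' : Fin n → F} (A : F) (h : A • vecMulVec v f = vecMulVec v' f') (hv : v' ≠ 0) (hf : f' ≠ 0) :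
    Par v' v ∧ Par f' f := by
  obtain ⟨i, hi⟩ := Function.ne_iff.1 hv
  obtain ⟨j, hj⟩ := Function.ne_iff.1 hf
  have e : ∀ k l, A * (v k * f l) = v' k * f' l := by
    intro k l
    have := congrFun (congrFun h k) l
    rwa [Matrix.smul_apply, vecMulVec_apply, vecMulVec_apply, smul_eq_mul] at this
  have hi' : v' i ≠ 0 := hi
  have hj' : f' j ≠ 0 := hj
  have e0 := e i j
  have hne : A * (v i * f j) ≠ 0 := by rw [e0]; exact mul_ne_zero hi' hj'
  have hA : A ≠ 0 := left_ne_zero_of_mul hne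
  have hvi : v i ≠ 0 := left_ne_zero_of_mul (right_ne_zero_of_mul hne)
  have hfj : f j ≠ 0 := right_ne_zero_of_mul (right_ne_zero_of_mul hne)
  constructor
  · refine ⟨A * f j / f' j, div_ne_zero (mul_ne_zero hA hfj) hj', ?_⟩
    funext k
    rw [Pi.smul_apply, smul_eq_mul, div_mul_eq_mul_div, eq_div_iff hj', ← e k j]
    ring
  · refine ⟨A * v i / v' i, div_ne_zero (mul_ne_zero hA hvi) hi', ?_⟩
    funext k
    rw [Pi.smul_apply, smul_eq_mul, div_mul_eq_mul_div, eq_div_iff hi', mul_comm (f' k), ← e i k]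
    ring

theorem vmv_mul (v f v' f' : Fin n → F) : vecMulVec v f * vecMulVec v' f' = (f ⬝ᵥ v') • vecMulVec v f' := by
  rw [Matrix.vecMulVec_mul_vecMulVec, Matrix.vecMulVec_smul]

/-- combinatorial core, type A -/
theorem comb_A (v f : Fin n → Fin n → (Fin n → F))
    (H1 : ∀ i j l, i ≠ j → j ≠ l → i ≠ l → ((f i j ⬝ᵥ v j l ≠ 0 ∧ f j l ⬝ᵥ v i j = 0 ∧ Par (v i l) (v i j) ∧ Par (f i l) (f j l)) ∨
      (f i j ⬝ᵥ v j l = 0 ∧ f j l ⬝ᵥ v i j ≠ 0 ∧ Par (v i l) (v j l) ∧ Par (f i l) (f i j))))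
    (H2 : ∀ i j k l, i ≠ j → k ≠ l → j ≠ k → i ≠ l → f i j ⬝ᵥ v k l = 0)
    (o j₁ : Fin n) (hoj : o ≠ j₁)
    (hA : ∀ j l, o ≠ j → o ≠ l → j ≠ l → Par (v o l) (v o j)) :
    ∃ w g : Fin n → (Fin n → F), (∀ i j, i ≠ j → Par (v i j) (w i) ∧ Par (f i j) (g j)) ∧
      (∀ i j l, i ≠ j → j ≠ l → i ≠ l → f i j ⬝ᵥ v j l ≠ 0) := by
  have E1 : ∀ i j l, i ≠ j → j ≠ l → i ≠ l → ¬ (Par (v i l) (v i j) ∧ Par (f i l) (f i j)) := by
    rintro i j l hij hjl hil ⟨h1, h2⟩
    have a1 := H2 i l j l hil hjl hjl.symm hil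
    have a2 := H2 j l i l hjl hil hil.symm hjl
    have b1 := h2.dot_left a1
    have b2 := h1.dot_right a2
    rcases H1 i j l hij hjl hil with h | h
    · exact h.1 b1
    · exact h.2.1 b2
  have E2 : ∀ i j l, i ≠ j → j ≠ l → i ≠ l → ¬ (Par (v i l) (v j l) ∧ Par (f i l) (f j l)) := by
    rintro i j l hij hjl hil ⟨h1, h2⟩
    have a1 := H2 i j i l hij hil hij.symm hil
    have a2 := H2 i l i j hil hij hil.symm hij
    have b1 := h1.dot_right a1
    have b2 := h2.dot_left a2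
    rcases H1 i j l hij hjl hil with h | h
    · exact h.1 b1
    · exact h.2.1 b2
  -- step 1
  have s1 : ∀ j l, o ≠ j → o ≠ l → j ≠ l → Par (f o l) (f j l) := by
    intro j l hj hl hjl
    rcases H1 o j l hj hjl hl with h | h
    · exact h.2.2.2
    · exact absurd ⟨hA j l hj hl hjl, h.2.2.2⟩ (E1 o j l hj hjl hl)
  -- step 2
  have s2 : ∀ j l, o ≠ j → o ≠ l → j ≠ l → Par (v j l) (v j o) := by
    intro j l hj hl hjl
    rcases H1 j o l hj.symm hl hjl with h | h
    · exact h.2.2.1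
    · exact absurd ⟨h.2.2.1, (s1 j l hj hl hjl).symm⟩ (E2 j o l hj.symm hl hjl)
  -- step 3
  have s3 : ∀ j l, o ≠ j → o ≠ l → j ≠ l → Par (f j o) (f l o) := by
    intro j l hj hl hjl
    rcases H1 j l o hjl hl.symm hj.symm with h | h
    · exact h.2.2.2
    · exact absurd ⟨(s2 j l hj hl hjl).symm, h.2.2.2⟩ (E1 j l o hjl hl.symm hj.symm)
  refine ⟨fun i => if i = o then v o j₁ else v i o, fun j => if j = o then f j₁ o else f o j, ?_, ?_⟩
  · intro i j hij
    constructor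
    · show Par (v i j) (if i = o then v o j₁ else v i o)
      by_cases hi : i = o
      · rw [if_pos hi]
        subst hi
        by_cases hj : j₁ = j
        · rw [hj]; exact Par.refl _
        · exact hA j₁ j hoj hij hj
      · rw [if_neg hi]
        by_cases hj : j = o
        · rw [hj]; exact Par.refl _
        · exact s2 i j (Ne.symm hi) (Ne.symm hj) hij
    · show Par (f i j) (if j = o then f j₁ o else f o j)
      by_cases hj : j = o
      · rw [if_pos hj]
        subst hj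
        by_cases hi : i = j₁
        · rw [hi]; exact Par.refl _
        · exact s3 i j₁ hij.symm hoj hi
      · rw [if_neg hj]
        by_cases hi : i = o
        · rw [hi]; exact Par.refl _
        · exact (s1 i j (Ne.symm hi) (Ne.symm hj) hij).symm
  · intro i j l hij hjl hil
    rcases H1 i j l hij hjl hil with h | h
    · exact h.1
    · exfalso
      apply E1 i j l hij hjl hil
      refine ⟨?_, h.2.2.2⟩
      by_cases hi : i = o
      · subst hi
        exact hA j l hij hil hjl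
      · by_cases hj : j = o
        · subst hj
          exact s2 i l (Ne.symm hi) hjl hil
        · by_cases hl : l = o
          · subst hl
            exact (s2 i j (Ne.symm hi) (Ne.symm hj) hij).symm
          · exact (s2 i l (Ne.symm hi) (Ne.symm hl) hil).trans (s2 i j (Ne.symm hi) (Ne.symm hj) hij).symm

theorem comb (v f : Fin n → Fin n → (Fin n → F))
    (H1 : ∀ i j l, i ≠ j → j ≠ l → i ≠ l → ((f i j ⬝ᵥ v j l ≠ 0 ∧ f j l ⬝ᵥ v i j = 0 ∧ Par (v i l) (v i j) ∧ Par (f i l) (f j l)) ∨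
      (f i j ⬝ᵥ v j l = 0 ∧ f j l ⬝ᵥ v i j ≠ 0 ∧ Par (v i l) (v j l) ∧ Par (f i l) (f i j))))
    (H2 : ∀ i j k l, i ≠ j → k ≠ l → j ≠ k → i ≠ l → f i j ⬝ᵥ v k l = 0)
    (o j₁ : Fin n) (hoj : o ≠ j₁) :
    (∃ w g : Fin n → (Fin n → F), (∀ i j, i ≠ j → Par (v i j) (w i) ∧ Par (f i j) (g j)) ∧
      (∀ i j l, i ≠ j → j ≠ l → i ≠ l → f i j ⬝ᵥ v j l ≠ 0)) ∨
    (∃ w g : Fin n → (Fin n → F), (∀ i j, i ≠ j → Par (f i j) (w i) ∧ Par (v i j) (g j)) ∧
      (∀ i j l, i ≠ j → j ≠ l → i ≠ l → v i j ⬝ᵥ f j l ≠ 0)) := by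
  by_cases hA : ∀ j l, o ≠ j → o ≠ l → j ≠ l → Par (v o l) (v o j)
  · left; exact comb_A v f H1 H2 o j₁ hoj hA
  · right
    apply comb_A f v _ _ o j₁ hoj
    · push Not at hA
      obtain ⟨j, l, hj, hl, hjl, hn⟩ := hA
      have hAB : ∀ j l, o ≠ j → o ≠ l → j ≠ l → Par (v o l) (v o j) ∨ Par (f o l) (f o j) := by
        intro j l hj hl hjl
        rcases H1 o j l hj hjl hl with h | h
        · left; exact h.2.2.1
        · right; exact h.2.2.2
      have hfjl : Par (f o l) (f o j) := (hAB j l hj hl hjl).resolve_left hn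
      have key : ∀ m, o ≠ m → Par (f o m) (f o j) := by
        intro m hm
        by_cases hmj : m = j
        · rw [hmj]; exact Par.refl _
        · by_cases hml : m = l
          · rw [hml]; exact hfjl
          · rcases hAB j m hj hm (Ne.symm hmj) with h1 | h1
            · rcases hAB m l hm hl hml with h2 | h2
              · exact absurd (h2.trans h1) hn
              · exact h2.symm.trans hfjl
            · exact h1
      intro a b ha hb _
      exact (key b hb).trans (key a ha).symm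
    · intro i j l hij hjl hil
      rcases H1 i j l hij hjl hil with h | h
      · right
        exact ⟨by rw [dotProduct_comm]; exact h.2.1, by rw [dotProduct_comm]; exact h.1, h.2.2.2, h.2.2.1⟩
      · left
        exact ⟨by rw [dotProduct_comm]; exact h.2.1, by rw [dotProduct_comm]; exact h.1, h.2.2.2, h.2.2.1⟩
    · intro i j k l hij hkl hjk hil
      rw [dotProduct_comm]
      exact H2 k l i j hkl hij hil.symm hjk.symm

end Cfsg.Agent.H8.AutPSL
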