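import Mathlib
import Cfsg.Agent.H8.AutC

set_option autoImplicit false

namespace Cfsg.Agent.H8.AutPSL

open Matrix Matrix.SpecialLinearGroup
open scoped Pointwise

variable {F : Type*} [Field F] {n : ℕ}

/-- `t` is the transvection `1 + v ⊗ f` -/
def IsTV (t : SpecialLinearGroup (Fin n) F) (v f : Fin n → F) : Prop :=
  v ≠ 0 ∧ f ≠ 0 ∧ f ⬝ᵥ v = 0 ∧ t.1 = 1 + vecMulVec v f

theorem one_add_pow {R : Type*} [Ring R] (N : R) (h : N * N = 0) (k : ℕ) : (1 + N) ^ k = 1 + (k : R) * N := by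
  induction k with
  | zero => simp
  | succ k ih =>
    rw [pow_succ, ih, add_mul, mul_add, mul_add, one_mul, one_mul, mul_one, mul_assoc, h, mul_zero, add_zero]
    push_cast
    rw [add_mul, one_mul]
    abel

theorem IsTV.pow {t : SpecialLinearGroup (Fin n) F} {v f : Fin n → F} (h : IsTV t v f) (p : ℕ) [Fact p.Prime] [CharP F p] : t ^ p = 1 := by
  obtain ⟨hv, hf, hfv, ht⟩ := h
  apply Subtype.ext
  have h1 : (t ^ p).1 = t.1 ^ p := rfl
  rw [h1, ht, one_add_pow _ (by rw [vmv_mul, hfv, zero_smul])]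
  have h2 : ((p : ℕ) : Matrix (Fin n) (Fin n) F) * vecMulVec v f = 0 := by
    rw [← nsmul_eq_mul]
    ext i j
    rw [Matrix.smul_apply, nsmul_eq_mul, CharP.cast_eq_zero, zero_mul, Matrix.zero_apply]
  rw [h2, add_zero]; rfl

theorem pow_conj_one {G : Type*} [Group G] (x y : G) (k : ℕ) (h : y ^ k = 1) : (x * y * x⁻¹) ^ k = 1 := by
  rw [conj_pow, h]; group

/-- commuting transvections in PSL -/
theorem comm_dot (p : ℕ) [Fact p.Prime] [CharP F p] {t t' : SpecialLinearGroup (Fin n) F} {v f v' f' : Fin n → F} (h : IsTV t v f) (h' : IsTV t' v' f')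
    (hc : pr n F t * pr n F t' = pr n F t' * pr n F t) : f ⬝ᵥ v' = 0 ∧ f' ⬝ᵥ v = 0 := by
  have h1 : t * t' * t⁻¹ = t' := by
    apply pr_inj_of_pow p _ _ 1
    · rw [pow_one]; exact pow_conj_one _ _ _ (h'.pow p)
    · rw [pow_one]; exact h'.pow p
    · rw [map_mul, map_mul, map_inv, hc]; group
  have h2 : t * t' = t' * t := by rw [← mul_inv_eq_iff_eq_mul]; exact h1
  obtain ⟨hv, hf, hfv, ht⟩ := h
  obtain ⟨hv', hf', hfv', ht'⟩ := h'
  have h3 : t.1 * t'.1 = t'.1 * t.1 := congrArg Subtype.val h2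
  rw [ht, ht'] at h3
  have h4 : (f ⬝ᵥ v') • vecMulVec v f' = (f' ⬝ᵥ v) • vecMulVec v' f := by
    rw [← vmv_mul, ← vmv_mul]
    generalize vecMulVec v f = N at *
    generalize vecMulVec v' f' = N' at *
    have e : N * N' - N' * N = (1 + N) * (1 + N') - (1 + N') * (1 + N) := by noncomm_ring
    rw [h3, sub_self] at e
    exact sub_eq_zero.1 e
  by_cases hA : f ⬝ᵥ v' = 0
  · refine ⟨hA, ?_⟩
    rw [hA, zero_smul] at h4
    by_contra hB
    rcases smul_eq_zero.1 h4.symm with h5 | h5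
    · exact hB h5
    · rcases vmv_zero h5 with h6 | h6
      · exact hv' h6
      · exact hf h6
  · exfalso
    -- v ∥ v'
    have hB : (f' ⬝ᵥ v) ≠ 0 := by
      intro hB
      rw [hB, zero_smul] at h4
      rcases smul_eq_zero.1 h4 with h5 | h5
      · exact hA h5
      · rcases vmv_zero h5 with h6 | h6
        · exact hv h6
        · exact hf' h6
    have h5 : (f' ⬝ᵥ v)⁻¹ • (f ⬝ᵥ v') • vecMulVec v f' = vecMulVec v' f := by
      rw [h4, smul_smul, inv_mul_cancel₀ hB, one_smul]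
    rw [smul_smul] at h5
    obtain ⟨h6, h7⟩ := vmv_par _ h5 hv' hf
    exact hB (h7.dot_left hfv)

theorem dot_comm {t t' : SpecialLinearGroup (Fin n) F} {v f v' f' : Fin n → F} (h : IsTV t v f) (h' : IsTV t' v' f')
    (h1 : f ⬝ᵥ v' = 0) (h2 : f' ⬝ᵥ v = 0) : t * t' = t' * t := by
  apply Subtype.ext
  show t.1 * t'.1 = t'.1 * t.1
  have e1 : vecMulVec v f * vecMulVec v' f' = 0 := by rw [vmv_mul, h1, zero_smul]
  have e2 : vecMulVec v' f' * vecMulVec v f = 0 := by rw [vmv_mul, h2, zero_smul]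
  rw [h.2.2.2, h'.2.2.2]
  generalize vecMulVec v f = N at *
  generalize vecMulVec v' f' = N' at *
  have e : (1 + N) * (1 + N') - (1 + N') * (1 + N) = N * N' - N' * N := by noncomm_ring
  rw [e1, e2, sub_self] at e
  exact sub_eq_zero.1 e

/-- the commutator relation for three transvections in PSL -/
theorem triple (p : ℕ) [Fact p.Prime] [CharP F p] {t t' t'' : SpecialLinearGroup (Fin n) F} {v f v' f' v'' f'' : Fin n → F} (h : IsTV t v f) (h' : IsTV t' v' f')
    (h'' : IsTV t'' v'' f'')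
    (hc : pr n F t'' * pr n F t = pr n F t * pr n F t'') (hc' : pr n F t'' * pr n F t' = pr n F t' * pr n F t'')
    (hrel : pr n F t * pr n F t' = pr n F t'' * pr n F t' * pr n F t) :
    (f ⬝ᵥ v' ≠ 0 ∧ f' ⬝ᵥ v = 0 ∧ Par v'' v ∧ Par f'' f') ∨ (f ⬝ᵥ v' = 0 ∧ f' ⬝ᵥ v ≠ 0 ∧ Par v'' v' ∧ Par f'' f) := by
  obtain ⟨a1, a2⟩ := comm_dot p h'' h hc
  obtain ⟨b1, b2⟩ := comm_dot p h'' h' hc'
  have hcc := dot_comm h'' h' b1 b2
  have h1 : t * t' * t⁻¹ = t'' * t' := by
    apply pr_inj_of_pow p _ _ 1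
    · rw [pow_one]; exact pow_conj_one _ _ _ (h'.pow p)
    · rw [pow_one, (show Commute t'' t' from hcc).mul_pow, h''.pow p, h'.pow p, one_mul]
    · rw [map_mul, map_mul, map_inv, hrel, map_mul]; group
  have h2 : t * t' = t'' * t' * t := by rw [← mul_inv_eq_iff_eq_mul]; exact h1
  obtain ⟨hv, hf, hfv, ht⟩ := h
  obtain ⟨hv', hf', hfv', ht'⟩ := h'
  obtain ⟨hv'', hf'', hfv'', ht''⟩ := h''
  have h3 : t.1 * t'.1 = t''.1 * t'.1 * t.1 := congrArg Subtype.val h2
  rw [ht, ht', ht''] at h3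
  have e1 : vecMulVec v'' f'' * vecMulVec v f = 0 := by rw [vmv_mul, a1, zero_smul]
  have e2 : vecMulVec v'' f'' * vecMulVec v' f' = 0 := by rw [vmv_mul, b1, zero_smul]
  have h4 : (f ⬝ᵥ v') • vecMulVec v f' - (f' ⬝ᵥ v) • vecMulVec v' f = vecMulVec v'' f'' := by
    rw [← vmv_mul, ← vmv_mul]
    generalize vecMulVec v f = N at *
    generalize vecMulVec v' f' = N' at *
    generalize vecMulVec v'' f'' = N'' at *
    have e3 : (N * N' - N' * N) - N'' = (1 + N) * (1 + N') - (1 + N'') * (1 + N') * (1 + N) + N'' * N' + N'' * N + N'' * N' * N := by noncomm_ring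
    rw [h3, e1, e2, sub_self, zero_mul, add_zero, add_zero, add_zero] at e3
    exact sub_eq_zero.1 e3
  by_cases hA : f ⬝ᵥ v' = 0
  · right
    refine ⟨hA, ?_, ?_⟩
    · intro hB
      rw [hA, hB, zero_smul, zero_smul, sub_zero] at h4
      rcases vmv_zero h4.symm with h6 | h6
      · exact hv'' h6
      · exact hf'' h6
    · rw [hA, zero_smul, zero_sub, ← neg_smul] at h4
      exact vmv_par _ h4 hv'' hf''
  · left
    have hB : f' ⬝ᵥ v = 0 := by
      by_contra hB
      have h5 := congrArg (fun M : Matrix (Fin n) (Fin n) F => M *ᵥ v') h4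
      simp only [Matrix.sub_mulVec, Matrix.smul_mulVec, Matrix.vecMulVec_mulVec, hfv', b1] at h5
      simp only [MulOpposite.op_zero, zero_smul, smul_zero, zero_sub, neg_eq_zero] at h5
      rcases smul_eq_zero.1 h5 with h6 | h6
      · exact hB h6
      · rcases smul_eq_zero.1 h6 with h7 | h7
        · exact hA (by simpa using h7)
        · exact hv' h7
    refine ⟨hA, hB, ?_⟩
    rw [hB, zero_smul, sub_zero] at h4
    exact vmv_par _ h4 hv'' hf''

/-- vectors attached to a root -/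
theorem root_vec (p : ℕ) [Fact p.Prime] [CharP F p] [Finite F] (hn : 2 ≤ n) (α : MulAut (ProjectiveSpecialLinearGroup (Fin n) F)) {i j : Fin n} (hij : i ≠ j) :
    ∃ v f : Fin n → F, v ≠ 0 ∧ f ≠ 0 ∧ f ⬝ᵥ v = 0 ∧ ∀ a : F, ∃ (b : F) (t : SpecialLinearGroup (Fin n) F), t.1 = 1 + b • vecMulVec v f ∧ α (pr n F (transvection hij a)) = pr n F t := by
  obtain ⟨W, i₀, il, hne, hW⟩ := root_image p hn α hij
  have hWW : (W⁻¹ : SpecialLinearGroup (Fin n) F).1 * W.1 = 1 := congrArg Subtype.val (inv_mul_cancel W)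
  have hWW' : W.1 * (W⁻¹ : SpecialLinearGroup (Fin n) F).1 = 1 := congrArg Subtype.val (mul_inv_cancel W)
  refine ⟨fun k => W.1 k i₀, fun k => (W⁻¹ : SpecialLinearGroup (Fin n) F).1 il k, ?_, ?_, ?_, ?_⟩
  · intro h
    have h1 := congrFun (congrFun hWW i₀) i₀
    rw [Matrix.mul_apply, Matrix.one_apply_eq, Finset.sum_eq_zero] at h1
    · exact zero_ne_one h1
    · intro k _
      have : W.1 k i₀ = 0 := congrFun h k
      rw [this, mul_zero]
  · intro h
    have h1 := congrFun (congrFun hWW il) il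
    rw [Matrix.mul_apply, Matrix.one_apply_eq, Finset.sum_eq_zero] at h1
    · exact zero_ne_one h1
    · intro k _
      have : (W⁻¹ : SpecialLinearGroup (Fin n) F).1 il k = 0 := congrFun h k
      rw [this, zero_mul]
  · have h1 := congrFun (congrFun hWW il) i₀
    rw [Matrix.mul_apply, Matrix.one_apply_ne hne.symm] at h1
    exact h1
  · intro a
    obtain ⟨b, hb⟩ := hW a
    refine ⟨b, W * transvection hne b * W⁻¹, ?_, hb⟩
    show W.1 * (1 + single i₀ il b) * (W⁻¹ : SpecialLinearGroup (Fin n) F).1 = _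
    rw [mul_add, mul_one, add_mul, hWW']
    congr 1
    ext k l
    rw [Matrix.smul_apply, vecMulVec_apply, Matrix.mul_apply, Finset.sum_eq_single il]
    · rw [Matrix.mul_single_apply_same, smul_eq_mul]; ring
    · intro m _ hm
      rw [Matrix.mul_single_apply_of_ne (hbj := hm), zero_mul]
    · intro h; exact absurd (Finset.mem_univ _) h

end Cfsg.Agent.H8.AutPSL
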