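import Mathlib
import Cfsg.Agent.H8.AutD

set_option autoImplicit false

namespace Cfsg.Agent.H8.AutPSL

open Matrix Matrix.SpecialLinearGroup
open scoped Pointwise

variable {F : Type*} [Field F] {n : ℕ}

/-- induced automorphism of the central quotient -/
noncomputable def ind {G : Type*} [Group G] : MulAut G →* MulAut (G ⧸ Subgroup.center G) where
  toFun e := QuotientGroup.congr (Subgroup.center G) (Subgroup.center G) e (Subgroup.characteristic_iff_map_eq.1 inferInstance e)
  map_one' := by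
    ext x
    obtain ⟨x, rfl⟩ := QuotientGroup.mk_surjective x
    rfl
  map_mul' e f := by
    ext x
    obtain ⟨x, rfl⟩ := QuotientGroup.mk_surjective x
    rfl

theorem ind_mk {G : Type*} [Group G] (e : MulAut G) (x : G) :
    ind e (QuotientGroup.mk x : G ⧸ Subgroup.center G) = QuotientGroup.mk (e x) := rfl

theorem ind_pr (e : MulAut (SpecialLinearGroup (Fin n) F)) (x : SpecialLinearGroup (Fin n) F) :
    ind e (pr n F x) = pr n F (e x) := rfl

theorem psl_ext {α β : MulAut (ProjectiveSpecialLinearGroup (Fin n) F)} (h : ∀ s, α (pr n F s) = β (pr n F s)) : α = β := by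
  ext x
  obtain ⟨s, rfl⟩ := pr_surj x
  exact h s

def cjFun (W : GL (Fin n) F) (s : SpecialLinearGroup (Fin n) F) : SpecialLinearGroup (Fin n) F :=
  ⟨(W : Matrix (Fin n) (Fin n) F) * s.1 * ((W⁻¹ : GL (Fin n) F) : Matrix (Fin n) (Fin n) F), by
    have h1 : (W : Matrix (Fin n) (Fin n) F) * ((W⁻¹ : GL (Fin n) F) : Matrix (Fin n) (Fin n) F) = 1 := congrArg Units.val (mul_inv_cancel W)
    rw [Matrix.det_mul, Matrix.det_mul, s.2, mul_one, ← Matrix.det_mul, h1, Matrix.det_one]⟩

theorem cjFun_val (W : GL (Fin n) F) (s : SpecialLinearGroup (Fin n) F) :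
    (cjFun W s).1 = (W : Matrix (Fin n) (Fin n) F) * s.1 * ((W⁻¹ : GL (Fin n) F) : Matrix (Fin n) (Fin n) F) := rfl

theorem val_mul_inv (W : GL (Fin n) F) : (W : Matrix (Fin n) (Fin n) F) * ((W⁻¹ : GL (Fin n) F) : Matrix (Fin n) (Fin n) F) = 1 := congrArg Units.val (mul_inv_cancel W)

theorem val_inv_mul (W : GL (Fin n) F) : ((W⁻¹ : GL (Fin n) F) : Matrix (Fin n) (Fin n) F) * (W : Matrix (Fin n) (Fin n) F) = 1 := congrArg Units.val (inv_mul_cancel W)

theorem cjFun_mul (W : GL (Fin n) F) (s t : SpecialLinearGroup (Fin n) F) : cjFun W (s * t) = cjFun W s * cjFun W t := by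
  apply Subtype.ext
  have h1 : (cjFun W s * cjFun W t).1 = (cjFun W s).1 * (cjFun W t).1 := rfl
  have h2 : (s * t).1 = s.1 * t.1 := rfl
  rw [h1, cjFun_val, cjFun_val, cjFun_val, h2]
  have h3 := val_inv_mul W
  generalize ((W⁻¹ : GL (Fin n) F) : Matrix (Fin n) (Fin n) F) = V at *
  calc _ = (W : Matrix (Fin n) (Fin n) F) * s.1 * 1 * t.1 * V := by rw [mul_one]; noncomm_ring
    _ = _ := by rw [← h3]; noncomm_ring

theorem cjFun_comp (W V : GL (Fin n) F) (s : SpecialLinearGroup (Fin n) F) : cjFun (W * V) s = cjFun W (cjFun V s) := by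
  apply Subtype.ext
  rw [cjFun_val, cjFun_val, cjFun_val, _root_.mul_inv_rev, Units.val_mul, Units.val_mul]
  noncomm_ring

theorem cjFun_one (s : SpecialLinearGroup (Fin n) F) : cjFun (1 : GL (Fin n) F) s = s := by
  apply Subtype.ext
  rw [cjFun_val, inv_one, Units.val_one, one_mul, mul_one]

/-- conjugation by `GL_n` on `SL_n` -/
def cj : GL (Fin n) F →* MulAut (SpecialLinearGroup (Fin n) F) where
  toFun W := { toFun := cjFun W, invFun := cjFun W⁻¹,
               left_inv := fun s => by rw [← cjFun_comp, inv_mul_cancel, cjFun_one],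
               right_inv := fun s => by rw [← cjFun_comp, mul_inv_cancel, cjFun_one],
               map_mul' := cjFun_mul W }
  map_one' := by
    ext1 s
    exact cjFun_one s
  map_mul' W V := by
    ext1 s
    exact cjFun_comp W V s

theorem cj_apply (W : GL (Fin n) F) (s : SpecialLinearGroup (Fin n) F) : cj W s = cjFun W s := rfl

theorem cj_val (W : GL (Fin n) F) (s : SpecialLinearGroup (Fin n) F) :
    (cj W s).1 = (W : Matrix (Fin n) (Fin n) F) * s.1 * ((W⁻¹ : GL (Fin n) F) : Matrix (Fin n) (Fin n) F) := rfl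

/-- field automorphisms on `SL_n` -/
def fld : (F ≃+* F) →* MulAut (SpecialLinearGroup (Fin n) F) where
  toFun σ := { toFun := fun s => SpecialLinearGroup.map (σ : F →+* F) s, invFun := fun s => SpecialLinearGroup.map (σ.symm : F →+* F) s,
               left_inv := fun s => by apply Subtype.ext; ext i j; exact σ.symm_apply_apply _
               right_inv := fun s => by apply Subtype.ext; ext i j; exact σ.apply_symm_apply _
               map_mul' := fun s t => map_mul _ s t }
  map_one' := by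
    ext1 s; apply Subtype.ext; ext i j; rfl
  map_mul' σ τ := by
    ext1 s; apply Subtype.ext; ext i j; rfl

theorem fld_val (σ : F ≃+* F) (s : SpecialLinearGroup (Fin n) F) : (fld σ s).1 = s.1.map σ := rfl

/-- inverse transpose -/
def iota : MulAut (SpecialLinearGroup (Fin n) F) where
  toFun s := SpecialLinearGroup.transpose s⁻¹
  invFun s := SpecialLinearGroup.transpose s⁻¹
  left_inv s := by
    apply Subtype.ext
    show Matrix.transpose (((SpecialLinearGroup.transpose s⁻¹)⁻¹ : SpecialLinearGroup (Fin n) F).1) = s.1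
    have h1 : (SpecialLinearGroup.transpose s⁻¹)⁻¹ = SpecialLinearGroup.transpose s := by
      apply inv_eq_of_mul_eq_one_left
      apply Subtype.ext
      show Matrix.transpose s.1 * Matrix.transpose (s⁻¹ : SpecialLinearGroup (Fin n) F).1 = 1
      rw [← Matrix.transpose_mul]
      have : (s⁻¹ : SpecialLinearGroup (Fin n) F).1 * s.1 = 1 := congrArg Subtype.val (inv_mul_cancel s)
      rw [this, Matrix.transpose_one]
    rw [h1]
    exact Matrix.transpose_transpose _
  right_inv s := by
    apply Subtype.ext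
    show Matrix.transpose (((SpecialLinearGroup.transpose s⁻¹)⁻¹ : SpecialLinearGroup (Fin n) F).1) = s.1
    have h1 : (SpecialLinearGroup.transpose s⁻¹)⁻¹ = SpecialLinearGroup.transpose s := by
      apply inv_eq_of_mul_eq_one_left
      apply Subtype.ext
      show Matrix.transpose s.1 * Matrix.transpose (s⁻¹ : SpecialLinearGroup (Fin n) F).1 = 1
      rw [← Matrix.transpose_mul]
      have : (s⁻¹ : SpecialLinearGroup (Fin n) F).1 * s.1 = 1 := congrArg Subtype.val (inv_mul_cancel s)
      rw [this, Matrix.transpose_one]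
    rw [h1]
    exact Matrix.transpose_transpose _
  map_mul' s t := by
    apply Subtype.ext
    show Matrix.transpose ((s * t)⁻¹ : SpecialLinearGroup (Fin n) F).1 = Matrix.transpose (s⁻¹ : SpecialLinearGroup (Fin n) F).1 * Matrix.transpose (t⁻¹ : SpecialLinearGroup (Fin n) F).1
    rw [_root_.mul_inv_rev, ← Matrix.transpose_mul]; rfl

theorem iota_val (s : SpecialLinearGroup (Fin n) F) : (iota s).1 = Matrix.transpose (s⁻¹ : SpecialLinearGroup (Fin n) F).1 := rfl

theorem iota_iota (s : SpecialLinearGroup (Fin n) F) : iota (iota s) = s := iota.symm_apply_apply s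

theorem iota_sq : (iota : MulAut (SpecialLinearGroup (Fin n) F)) * iota = 1 := by
  ext1 s; exact iota_iota s

/-- pulling back an equality of conjugated `p`-elements -/
theorem cj_inj (p : ℕ) [Fact p.Prime] [CharP F p] (W : GL (Fin n) F) (s t : SpecialLinearGroup (Fin n) F) (hs : s ^ p = 1) (ht : t ^ p = 1)
    (h : pr n F (cj W s) = pr n F (cj W t)) : s = t := by
  apply (cj W).injective
  apply pr_inj_of_pow p _ _ 1 _ _ h
  · rw [pow_one, ← map_pow, hs, map_one]
  · rw [pow_one, ← map_pow, ht, map_one]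

theorem tr_pow (p : ℕ) [Fact p.Prime] [CharP F p] {i j : Fin n} (hij : i ≠ j) (a : F) : (transvection hij a) ^ p = 1 := by
  apply Subtype.ext
  have h1 : ((transvection hij a) ^ p).1 = (transvection hij a).1 ^ p := rfl
  rw [h1, tr_val, one_add_pow _ (single_mul_single_of_ne _ _ _ _ hij.symm _)]
  have h2 : ((p : ℕ) : Matrix (Fin n) (Fin n) F) * single i j a = 0 := by
    rw [← nsmul_eq_mul]
    ext k l
    rw [Matrix.smul_apply, nsmul_eq_mul, CharP.cast_eq_zero, zero_mul, Matrix.zero_apply]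
  rw [h2, add_zero]; rfl

theorem tr_inj {i j : Fin n} (hij : i ≠ j) {a b : F} (h : transvection hij a = transvection hij b) : a = b := by
  have h1 : (1 : Matrix (Fin n) (Fin n) F) + single i j a = 1 + single i j b := congrArg Subtype.val h
  have h2 := add_left_cancel h1
  have h3 := congrFun (congrFun h2 i) j
  rwa [Matrix.single_apply_same, Matrix.single_apply_same] at h3

/-- from points and hyperplanes to a matrix -/
theorem typeA1 (β : MulAut (ProjectiveSpecialLinearGroup (Fin n) F)) (w g : Fin n → (Fin n → F))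
    (h0 : ∀ i j, i ≠ j → g j ⬝ᵥ w i = 0) (h1 : ∀ j, g j ⬝ᵥ w j ≠ 0)
    (h2 : ∀ i j (hij : i ≠ j) (a : F), ∃ (c : F) (t : SpecialLinearGroup (Fin n) F), t.1 = 1 + c • vecMulVec (w i) (g j) ∧ β (pr n F (transvection hij a)) = pr n F t) :
    ∃ (W : GL (Fin n) F) (s : Fin n → Fin n → F → F), ∀ i j (hij : i ≠ j) (a : F), β (pr n F (transvection hij a)) = pr n F (cj W (transvection hij (s i j a))) := by
  let Wm : Matrix (Fin n) (Fin n) F := Matrix.of fun k i => w i k
  let Gm : Matrix (Fin n) (Fin n) F := Matrix.of fun j k => g j k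
  have hGW : Gm * Wm = Matrix.diagonal (fun j => g j ⬝ᵥ w j) := by
    ext j i
    have : (Gm * Wm) j i = g j ⬝ᵥ w i := rfl
    rw [this]
    by_cases hij : j = i
    · rw [hij, Matrix.diagonal_apply_eq]
    · rw [Matrix.diagonal_apply_ne _ hij]; exact h0 i j (Ne.symm hij)
  let Em : Matrix (Fin n) (Fin n) F := Matrix.diagonal (fun j => (g j ⬝ᵥ w j)⁻¹) * Gm
  have hEW : Em * Wm = 1 := by
    show Matrix.diagonal (fun j => (g j ⬝ᵥ w j)⁻¹) * Gm * Wm = 1
    rw [mul_assoc, hGW, Matrix.diagonal_mul_diagonal, ← Matrix.diagonal_one]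
    congr 1
    funext j
    exact inv_mul_cancel₀ (h1 j)
  have hWE : Wm * Em = 1 := mul_eq_one_comm.1 hEW
  let W : GL (Fin n) F := ⟨Wm, Em, hWE, hEW⟩
  have hW : (W : Matrix (Fin n) (Fin n) F) = Wm := rfl
  have hWi : ((W⁻¹ : GL (Fin n) F) : Matrix (Fin n) (Fin n) F) = Em := rfl
  have key : ∀ i j (hij : i ≠ j) (a : F), ∃ c : F, β (pr n F (transvection hij a)) = pr n F (cj W (transvection hij c)) := by
    intro i j hij a
    obtain ⟨c, t, ht, hβ⟩ := h2 i j hij a
    refine ⟨c * (g j ⬝ᵥ w j), ?_⟩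
    rw [hβ]
    congr 1
    apply Subtype.ext
    rw [ht, cj_val, hW, hWi, tr_val, mul_add, mul_one, add_mul, hWE]
    congr 1
    ext k l
    rw [Matrix.smul_apply, vecMulVec_apply, Matrix.mul_apply, Finset.sum_eq_single j]
    · rw [Matrix.mul_single_apply_same, smul_eq_mul]
      have e1 : Wm k i = w i k := rfl
      have e2 : Em j l = (g j ⬝ᵥ w j)⁻¹ * g j l := by
        show (Matrix.diagonal (fun j => (g j ⬝ᵥ w j)⁻¹) * Gm) j l = _
        rw [Matrix.diagonal_mul]; rfl
      rw [e1, e2]
      have := h1 j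
      field_simp
    · intro m _ hm
      rw [Matrix.mul_single_apply_of_ne (hbj := hm), zero_mul]
    · intro h; exact absurd (Finset.mem_univ _) h
  choose! s hs using key
  exact ⟨W, s, hs⟩

theorem s_rel (p : ℕ) [Fact p.Prime] [CharP F p] (β : MulAut (ProjectiveSpecialLinearGroup (Fin n) F)) (W : GL (Fin n) F) (s : Fin n → Fin n → F → F)
    (hs : ∀ i j (hij : i ≠ j) (a : F), β (pr n F (transvection hij a)) = pr n F (cj W (transvection hij (s i j a)))) :
    (∀ i j, i ≠ j → ∀ a b, s i j (a + b) = s i j a + s i j b) ∧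
    (∀ i j, i ≠ j → ∀ a, s i j a = 0 → a = 0) ∧
    (∀ i j l, i ≠ j → j ≠ l → i ≠ l → ∀ a b, s i l (a * b) = s i j a * s j l b) := by
  refine ⟨?_, ?_, ?_⟩
  · intro i j hij a b
    apply tr_inj hij
    apply cj_inj p W _ _ (tr_pow p _ _) (tr_pow p _ _)
    rw [← hs, SLn.transvection_add, map_mul, map_mul, hs, hs, SLn.transvection_add, map_mul, map_mul]
  · intro i j hij a ha
    have h1 := hs i j hij a
    rw [ha, transvection_coeff_zero, map_one, map_one] at h1
    have h2 : pr n F (transvection hij a) = 1 := by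
      apply β.injective
      rw [h1, map_one]
    have h3 : transvection hij a = transvection hij 0 := by
      rw [transvection_coeff_zero]
      apply pr_inj_of_pow p _ _ 1
      · rw [pow_one]; exact tr_pow p _ _
      · rw [pow_one, one_pow]
      · rw [h2, map_one]
    exact tr_inj hij h3
  · intro i j l hij hjl hil a b
    apply tr_inj hil
    apply cj_inj p W _ _ (tr_pow p _ _) (tr_pow p _ _)
    rw [← hs, ← SLn.transvection_comm hij hjl hil, ← SLn.transvection_comm hij hjl hil]
    simp only [map_mul, map_inv]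
    rw [hs i j hij, hs j l hjl]

/-- abstract coordinatization -/
theorem coordinatize [Finite F] (hn : 3 ≤ n) (s : Fin n → Fin n → F → F)
    (hadd : ∀ i j, i ≠ j → ∀ a b, s i j (a + b) = s i j a + s i j b)
    (hinj : ∀ i j, i ≠ j → ∀ a, s i j a = 0 → a = 0)
    (hmul : ∀ i j l, i ≠ j → j ≠ l → i ≠ l → ∀ a b, s i l (a * b) = s i j a * s j l b) :
    ∃ (t : Fin n → Fˣ) (σ : F ≃+* F), ∀ i j, i ≠ j → ∀ a, s i j a = (t i : F) * ((t j)⁻¹ : Fˣ) * σ a := by
  classical
  let o : Fin n := ⟨0, by omega⟩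
  have hone : ∀ i j, i ≠ j → s i j 1 ≠ 0 := fun i j hij h => one_ne_zero (hinj i j hij 1 h)
  let t : Fin n → Fˣ := fun j => if h : o ≠ j then (Units.mk0 (s o j 1) (hone o j h))⁻¹ else 1
  have ht0 : t o = 1 := by simp [t]
  have htj : ∀ j, o ≠ j → (t j : F) * s o j 1 = 1 := by
    intro j hj
    simp only [t, dif_pos hj, Units.val_inv_eq_inv_val, Units.val_mk0]
    exact inv_mul_cancel₀ (hone o j hj)
  -- normalized
  set τ : Fin n → Fin n → F → F := fun i j a => ((t i)⁻¹ : Fˣ) * (t j : F) * s i j a with hτ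
  have τmul : ∀ i j l, i ≠ j → j ≠ l → i ≠ l → ∀ a b, τ i l (a * b) = τ i j a * τ j l b := by
    intro i j l hij hjl hil a b
    simp only [hτ]
    rw [hmul i j l hij hjl hil]
    have : (t j : F) * ((t j)⁻¹ : Fˣ) = 1 := Units.mul_inv _
    linear_combination -(((t i)⁻¹ : Fˣ) : F) * (t l : F) * s i j a * s j l b * this
  have τ1 : ∀ j, o ≠ j → τ o j 1 = 1 := by
    intro j hj
    simp only [hτ, ht0, inv_one, Units.val_one, one_mul]
    exact htj j hj
  have τij1 : ∀ i j, i ≠ j → o ≠ i → o ≠ j → τ i j 1 = 1 := by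
    intro i j hij hi hj
    have := τmul o i j hi hij hj 1 1
    rw [one_mul, τ1 i hi, τ1 j hj, one_mul] at this
    exact this.symm
  let j₁ : Fin n := ⟨1, by omega⟩
  have hoj : o ≠ j₁ := by
    intro h
    have := congrArg Fin.val h
    simp only [o, j₁] at this
    omega
  have e1 : ∀ i j, i ≠ j → o ≠ i → o ≠ j → ∀ a, τ i j a = τ o j a := by
    intro i j hij hi hj a
    have := τmul o i j hi hij hj 1 a
    rw [one_mul, τ1 i hi, one_mul] at this
    exact this.symm
  have e2 : ∀ i j, i ≠ j → o ≠ i → o ≠ j → ∀ a, τ o i a = τ o j a := by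
    intro i j hij hi hj a
    have := τmul o i j hi hij hj a 1
    rw [mul_one, τij1 i j hij hi hj, mul_one] at this
    exact this.symm
  have e3 : ∀ j, o ≠ j → ∀ a, τ o j a = τ o j₁ a := by
    intro j hj a
    by_cases h : j = j₁
    · rw [h]
    · exact e2 j j₁ h hj hoj a
  have e4 : ∀ i j, i ≠ j → o ≠ j → ∀ a, τ i j a = τ o j₁ a := by
    intro i j hij hj a
    by_cases hi : i = o
    · rw [hi]; exact e3 j hj a
    · rw [e1 i j hij (Ne.symm hi) hj, e3 j hj]
  have e5 : ∀ i, o ≠ i → ∀ a, τ i o a = τ o j₁ a := by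
    intro i hi a
    obtain ⟨l, hl1, hl2⟩ : ∃ l : Fin n, l ≠ o ∧ l ≠ i := by
      by_cases h1 : i = j₁
      · refine ⟨⟨2, by omega⟩, ?_, ?_⟩
        · intro h; have := congrArg Fin.val h; simp only [o] at this; omega
        · rw [h1]; intro h; have := congrArg Fin.val h; simp only [j₁] at this; omega
      · exact ⟨j₁, hoj.symm, Ne.symm h1⟩
    have := τmul i o l hi.symm hl1.symm hl2.symm a 1
    rw [mul_one, τ1 l hl1.symm, mul_one] at this
    rw [← this, e4 i l hl2.symm hl1.symm]
  have e6 : ∀ i j, i ≠ j → ∀ a, τ i j a = τ o j₁ a := by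
    intro i j hij a
    by_cases hj : j = o
    · rw [hj]; exact e5 i (by rw [← hj]; exact hij.symm) a
    · exact e4 i j hij (Ne.symm hj) a
  let σ₀ : F →+* F :=
    { toFun := τ o j₁
      map_one' := τ1 j₁ hoj
      map_zero' := by
        simp only [hτ]
        have := hadd o j₁ hoj 0 0
        rw [add_zero] at this
        have h0 : s o j₁ 0 = 0 := by simpa using this
        rw [h0, mul_zero]
      map_mul' := by
        intro a b
        let j₂ : Fin n := ⟨2, by omega⟩
        have h12 : j₁ ≠ j₂ := by intro h; have := congrArg Fin.val h; simp only [j₁, j₂] at this; omega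
        have h02 : o ≠ j₂ := by intro h; have := congrArg Fin.val h; simp only [o, j₂] at this; omega
        have := τmul o j₂ j₁ h02 h12.symm hoj a b
        rw [e6 o j₂ h02, e6 j₂ j₁ h12.symm] at this
        exact this
      map_add' := by
        intro a b
        simp only [hτ]
        rw [hadd o j₁ hoj, mul_add] }
  have hbij : Function.Bijective σ₀ := Finite.injective_iff_bijective.1 σ₀.injective
  refine ⟨t, RingEquiv.ofBijective σ₀ hbij, ?_⟩
  intro i j hij a
  have h1 : (RingEquiv.ofBijective σ₀ hbij) a = τ i j a := (e6 i j hij a).symm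
  rw [h1]
  simp only [hτ]
  have h2 : (t i : F) * ((t i)⁻¹ : Fˣ) = 1 := Units.mul_inv _
  have h3 : (t j : F) * ((t j)⁻¹ : Fˣ) = 1 := Units.mul_inv _
  linear_combination (-(s i j a)) * h2 - (s i j a) * (t i : F) * ((t i)⁻¹ : Fˣ) * h3

/-- final step for type A -/
theorem typeA (p : ℕ) [Fact p.Prime] [CharP F p] [Finite F] (hn : 3 ≤ n) (β : MulAut (ProjectiveSpecialLinearGroup (Fin n) F)) (w g : Fin n → (Fin n → F))
    (h0 : ∀ i j, i ≠ j → g j ⬝ᵥ w i = 0) (h1 : ∀ j, g j ⬝ᵥ w j ≠ 0)
    (h2 : ∀ i j (hij : i ≠ j) (a : F), ∃ (c : F) (t : SpecialLinearGroup (Fin n) F), t.1 = 1 + c • vecMulVec (w i) (g j) ∧ β (pr n F (transvection hij a)) = pr n F t) :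
    ∃ (W : GL (Fin n) F) (σ : F ≃+* F), β = ind (cj W * fld σ) := by
  obtain ⟨W, s, hs⟩ := typeA1 β w g h0 h1 h2
  obtain ⟨r1, r2, r3⟩ := s_rel p β W s hs
  obtain ⟨t, σ, hσ⟩ := coordinatize hn s r1 r2 r3
  let D : GL (Fin n) F := ⟨Matrix.diagonal (fun i => (t i : F)), Matrix.diagonal (fun i => (((t i)⁻¹ : Fˣ) : F)), by
    rw [Matrix.diagonal_mul_diagonal, ← Matrix.diagonal_one]; congr 1; funext i; exact Units.mul_inv _, by
    rw [Matrix.diagonal_mul_diagonal, ← Matrix.diagonal_one]; congr 1; funext i; exact Units.inv_mul _⟩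
  refine ⟨W * D, σ, ?_⟩
  apply psl_ext
  haveI : Nontrivial (Fin n) := Fin.nontrivial_iff_two_le.2 (by omega)
  apply SLn.transvection_induction (fun s => β (pr n F s) = (ind (cj (W * D) * fld σ)) (pr n F s))
  · intro i j hij a
    rw [hs, ind_pr, MulAut.mul_apply, map_mul, MulAut.mul_apply]
    congr 2
    apply Subtype.ext
    rw [cj_val, fld_val, tr_val, tr_val]
    have e1 : (D : Matrix (Fin n) (Fin n) F) = Matrix.diagonal (fun i => (t i : F)) := rfl
    have e2 : ((D⁻¹ : GL (Fin n) F) : Matrix (Fin n) (Fin n) F) = Matrix.diagonal (fun i => (((t i)⁻¹ : Fˣ) : F)) := rfl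
    have e3 : ((1 : Matrix (Fin n) (Fin n) F) + single i j a).map σ = 1 + single i j (σ a) := by
      rw [Matrix.map_add σ (map_add σ), Matrix.map_one σ (map_zero σ) (map_one σ), Matrix.map_single]
    rw [e3, mul_add, mul_one, add_mul, val_mul_inv D, e1, e2, hσ i j hij]
    congr 1
    ext k l
    rw [Matrix.mul_diagonal, Matrix.diagonal_mul]
    by_cases h : i = k ∧ j = l
    · obtain ⟨rfl, rfl⟩ := h
      rw [Matrix.single_apply_same, Matrix.single_apply_same]; ring
    · rw [Matrix.single_apply, Matrix.single_apply, if_neg h, if_neg h]; ring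
  · intro A B hA hB
    rw [map_mul, map_mul, hA, hB, ← map_mul, ← map_mul]

end Cfsg.Agent.H8.AutPSL
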