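import Mathlib
import Cfsg.Agent.H8.AutE

set_option autoImplicit false

namespace Cfsg.Agent.H8.AutPSL

open Matrix Matrix.SpecialLinearGroup
open scoped Pointwise

variable {F : Type*} [Field F] {n : ℕ}

/-- inverse transpose on `GL_n` -/
def giT (W : GL (Fin n) F) : GL (Fin n) F where
  val := Matrix.transpose ((W⁻¹ : GL (Fin n) F) : Matrix (Fin n) (Fin n) F)
  inv := Matrix.transpose (W : Matrix (Fin n) (Fin n) F)
  val_inv := by rw [← Matrix.transpose_mul, val_mul_inv, Matrix.transpose_one]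
  inv_val := by rw [← Matrix.transpose_mul, val_inv_mul, Matrix.transpose_one]

theorem giT_val (W : GL (Fin n) F) : (giT W : Matrix (Fin n) (Fin n) F) = Matrix.transpose ((W⁻¹ : GL (Fin n) F) : Matrix (Fin n) (Fin n) F) := rfl
theorem giT_inv_val (W : GL (Fin n) F) : (((giT W)⁻¹ : GL (Fin n) F) : Matrix (Fin n) (Fin n) F) = Matrix.transpose (W : Matrix (Fin n) (Fin n) F) := rfl

theorem iota_cj (W : GL (Fin n) F) : iota * cj W = cj (giT W) * iota := by
  ext1 s
  apply Subtype.ext
  rw [MulAut.mul_apply, MulAut.mul_apply, cj_val, iota_val, iota_val, giT_val, giT_inv_val, ← map_inv, cj_val,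
    Matrix.transpose_mul, Matrix.transpose_mul, mul_assoc]

theorem iota_fld (σ : F ≃+* F) : iota * fld σ = (fld σ * iota : MulAut (SpecialLinearGroup (Fin n) F)) := by
  ext1 s
  apply Subtype.ext
  rw [MulAut.mul_apply, MulAut.mul_apply, fld_val, iota_val, iota_val, ← map_inv, fld_val, Matrix.transpose_map]

theorem exists_third (hn : 3 ≤ n) (j : Fin n) : ∃ i l : Fin n, i ≠ j ∧ j ≠ l ∧ i ≠ l := by
  have h : ∃ i : Fin n, i ≠ j := by
    by_cases h : j = ⟨0, by omega⟩
    · exact ⟨⟨1, by omega⟩, by rw [h]; intro h2; have := congrArg Fin.val h2; simp at this⟩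
    · exact ⟨⟨0, by omega⟩, fun h2 => h h2.symm⟩
  obtain ⟨i, hi⟩ := h
  have h3 : ∃ l : Fin n, l ∉ ({i, j} : Finset (Fin n)) := by
    by_contra hcon
    push Not at hcon
    have h4 : (Finset.univ : Finset (Fin n)) ⊆ {i, j} := fun x _ => hcon x
    have h5 := Finset.card_le_card h4
    rw [Finset.card_univ, Fintype.card_fin] at h5
    have h6 : ({i, j} : Finset (Fin n)).card ≤ 2 := Finset.card_le_two
    omega
  obtain ⟨l, hl⟩ := h3
  rw [Finset.mem_insert, Finset.mem_singleton, not_or] at hl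
  exact ⟨i, l, hi, Ne.symm hl.2, Ne.symm hl.1⟩

theorem exists_ge3 (p : ℕ) [Fact p.Prime] [CharP F p] [Finite F] (hn : 3 ≤ n) (α : MulAut (ProjectiveSpecialLinearGroup (Fin n) F)) :
    ∃ (W : GL (Fin n) F) (σ : F ≃+* F), α = ind (cj W * fld σ) ∨ α = ind (cj W * fld σ * iota) := by
  have h := fun (i j : Fin n) (hij : i ≠ j) => root_vec p (by omega : 2 ≤ n) α hij
  choose! v f hv hf hfv himg using h
  -- root elements have non-trivial image
  have img : ∀ i j (hij : i ≠ j) (a : F), a ≠ 0 → ∃ (b : F) (t : SpecialLinearGroup (Fin n) F), b ≠ 0 ∧ IsTV t (b • v i j) (f i j) ∧ α (pr n F (transvection hij a)) = pr n F t := by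
    intro i j hij a ha
    obtain ⟨b, t, ht, hαt⟩ := himg i j hij a
    have hb : b ≠ 0 := by
      rintro rfl
      rw [zero_smul, add_zero] at ht
      have ht1 : t = 1 := Subtype.ext ht
      rw [ht1, map_one] at hαt
      have h2 : pr n F (transvection hij a) = 1 := by
        apply α.injective
        rw [hαt, map_one]
      have h3 : transvection hij a = transvection hij 0 := by
        rw [transvection_coeff_zero]
        apply pr_inj_of_pow p _ _ 1
        · rw [pow_one]; exact tr_pow p _ _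
        · rw [pow_one, one_pow]
        · rw [h2, map_one]
      exact ha (tr_inj hij h3)
    refine ⟨b, t, hb, ⟨?_, hf i j hij, ?_, ?_⟩, hαt⟩
    · exact smul_ne_zero hb (hv i j hij)
    · rw [dotProduct_smul, hfv i j hij, smul_zero]
    · rw [Matrix.smul_vecMulVec]; exact ht
  have parb : ∀ (b : F) (u : Fin n → F), b ≠ 0 → Par u (b • u) := fun b u hb => (Par.symm ⟨b, hb, rfl⟩)
  -- commuting roots
  have H2 : ∀ i j k l, i ≠ j → k ≠ l → j ≠ k → i ≠ l → f i j ⬝ᵥ v k l = 0 := by
    intro i j k l hij hkl hjk hil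
    obtain ⟨b, t, hb, ht, hαt⟩ := img i j hij 1 one_ne_zero
    obtain ⟨b', t', hb', ht', hαt'⟩ := img k l hkl 1 one_ne_zero
    have hc : pr n F t * pr n F t' = pr n F t' * pr n F t := by
      rw [← hαt, ← hαt', ← map_mul, ← map_mul, ← map_mul, ← map_mul]
      congr 2
      rw [tr_mul_single, tr_val, add_mul, one_mul, mul_add, mul_one, single_mul_single_of_ne _ _ _ _ hjk,
        single_mul_single_of_ne _ _ _ _ hil.symm]
    have h3 := (comm_dot p ht ht' hc).1
    exact (Par.symm (parb b' _ hb')).dot_right h3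
  have H1 : ∀ i j l, i ≠ j → j ≠ l → i ≠ l → ((f i j ⬝ᵥ v j l ≠ 0 ∧ f j l ⬝ᵥ v i j = 0 ∧ Par (v i l) (v i j) ∧ Par (f i l) (f j l)) ∨
      (f i j ⬝ᵥ v j l = 0 ∧ f j l ⬝ᵥ v i j ≠ 0 ∧ Par (v i l) (v j l) ∧ Par (f i l) (f i j))) := by
    intro i j l hij hjl hil
    obtain ⟨b, t, hb, ht, hαt⟩ := img i j hij 1 one_ne_zero
    obtain ⟨b', t', hb', ht', hαt'⟩ := img j l hjl 1 one_ne_zero
    obtain ⟨b'', t'', hb'', ht'', hαt''⟩ := img i l hil 1 one_ne_zero
    have c1 : pr n F t'' * pr n F t = pr n F t * pr n F t'' := by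
      rw [← hαt, ← hαt'', ← map_mul, ← map_mul, ← map_mul, ← map_mul]
      congr 2
      rw [tr_mul_single, tr_val, add_mul, one_mul, mul_add, mul_one, single_mul_single_of_ne _ _ _ _ hil.symm,
        single_mul_single_of_ne _ _ _ _ hij.symm]
    have c2 : pr n F t'' * pr n F t' = pr n F t' * pr n F t'' := by
      rw [← hαt', ← hαt'', ← map_mul, ← map_mul, ← map_mul, ← map_mul]
      congr 2
      rw [tr_mul_single, tr_val, add_mul, one_mul, mul_add, mul_one, single_mul_single_of_ne _ _ _ _ hjl.symm,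
        single_mul_single_of_ne _ _ _ _ hil.symm]
    have c3 : pr n F t * pr n F t' = pr n F t'' * pr n F t' * pr n F t := by
      rw [← hαt, ← hαt', ← hαt'', ← map_mul, ← map_mul, ← map_mul, ← map_mul, ← map_mul, ← map_mul]
      congr 2
      have := SLn.transvection_comm (F := F) hij hjl hil 1 1
      rw [mul_one] at this
      rw [← this]; group
    have q1 := parb b (v i j) hb
    have q2 := parb b' (v j l) hb'
    have q3 := parb b'' (v i l) hb''
    rcases triple p ht ht' ht'' c1 c2 c3 with ⟨d1, d2, d3, d4⟩ | ⟨d1, d2, d3, d4⟩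
    · left
      refine ⟨fun h => d1 (q2.dot_right h), q1.symm.dot_right d2, (q3.trans d3).trans q1.symm, d4⟩
    · right
      refine ⟨q2.symm.dot_right d1, fun h => d2 (q1.dot_right h), (q3.trans d3).trans q2.symm, d4⟩
  let o : Fin n := ⟨0, by omega⟩
  let j₁ : Fin n := ⟨1, by omega⟩
  have hoj : o ≠ j₁ := by
    intro h
    have := congrArg Fin.val h
    simp only [o, j₁] at this
    omega
  rcases comb v f H1 H2 o j₁ hoj with ⟨w, g, hwg, hnz⟩ | ⟨w, g, hwg, hnz⟩
  · have q0 : ∀ i j, i ≠ j → g j ⬝ᵥ w i = 0 := by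
      intro i j hij
      exact (hwg i j hij).2.dot_left ((hwg i j hij).1.dot_right (hfv i j hij))
    have q1 : ∀ j, g j ⬝ᵥ w j ≠ 0 := by
      intro j h
      obtain ⟨i, l, hi, hl, hil⟩ := exists_third hn j
      apply hnz i j l hi hl hil
      exact (hwg i j hi).2.symm.dot_left ((hwg j l hl).1.symm.dot_right h)
    have q2 : ∀ i j (hij : i ≠ j) (a : F), ∃ (c : F) (t : SpecialLinearGroup (Fin n) F), t.1 = 1 + c • vecMulVec (w i) (g j) ∧ α (pr n F (transvection hij a)) = pr n F t := by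
      intro i j hij a
      obtain ⟨b, t, ht, hαt⟩ := himg i j hij a
      obtain ⟨⟨c, hc, hcw⟩, ⟨d, hd, hdg⟩⟩ := hwg i j hij
      refine ⟨b * c * d, t, ?_, hαt⟩
      rw [ht, hcw, hdg, Matrix.smul_vecMulVec, Matrix.vecMulVec_smul, smul_smul, smul_smul]
    obtain ⟨W, σ, h⟩ := typeA p hn α w g q0 q1 q2
    exact ⟨W, σ, Or.inl h⟩
  · have q0 : ∀ i j, i ≠ j → g j ⬝ᵥ w i = 0 := by
      intro i j hij
      have := (hwg i j hij).1.dot_left ((hwg i j hij).2.dot_right (hfv i j hij))
      rw [dotProduct_comm]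
      exact this
    have q1 : ∀ j, g j ⬝ᵥ w j ≠ 0 := by
      intro j h
      obtain ⟨i, l, hi, hl, hil⟩ := exists_third hn j
      apply hnz i j l hi hl hil
      exact (hwg i j hi).2.symm.dot_left ((hwg j l hl).1.symm.dot_right h)
    have q2 : ∀ i j (hij : i ≠ j) (a : F), ∃ (c : F) (t : SpecialLinearGroup (Fin n) F), t.1 = 1 + c • vecMulVec (w i) (g j) ∧ (ind iota * α : MulAut (ProjectiveSpecialLinearGroup (Fin n) F)) (pr n F (transvection hij a)) = pr n F t := by
      intro i j hij a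
      obtain ⟨b, t, ht, hαt⟩ := himg i j hij a
      obtain ⟨⟨c, hc, hcw⟩, ⟨d, hd, hdg⟩⟩ := hwg i j hij
      refine ⟨-(b * c * d), iota t, ?_, ?_⟩
      · have hti : (t⁻¹ : SpecialLinearGroup (Fin n) F).1 = 1 + (-b) • vecMulVec (v i j) (f i j) := by
          have h1 : t.1 * (1 + (-b) • vecMulVec (v i j) (f i j)) = 1 := by
            rw [ht]
            have e0 : vecMulVec (v i j) (f i j) * vecMulVec (v i j) (f i j) = 0 := by rw [vmv_mul, hfv i j hij, zero_smul]
            generalize vecMulVec (v i j) (f i j) = N at *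
            rw [mul_add, mul_one, add_mul, one_mul, smul_mul_smul_comm, e0, smul_zero, add_zero, neg_smul, add_assoc, add_neg_cancel, add_zero]
          have h2 : (t⁻¹ : SpecialLinearGroup (Fin n) F).1 * t.1 = 1 := congrArg Subtype.val (inv_mul_cancel t)
          calc (t⁻¹ : SpecialLinearGroup (Fin n) F).1 = (t⁻¹ : SpecialLinearGroup (Fin n) F).1 * (t.1 * (1 + (-b) • vecMulVec (v i j) (f i j))) := by rw [h1, mul_one]
            _ = _ := by rw [← mul_assoc, h2, one_mul]
        rw [iota_val, hti, Matrix.transpose_add, Matrix.transpose_one, Matrix.transpose_smul, Matrix.transpose_vecMulVec, hcw, hdg,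
          Matrix.smul_vecMulVec, Matrix.vecMulVec_smul, smul_smul, smul_smul]
        congr 2
        ring
      · rw [MulAut.mul_apply, hαt, ind_pr]
    obtain ⟨W, σ, h⟩ := typeA p hn (ind iota * α) w g q0 q1 q2
    refine ⟨giT W, σ, Or.inr ?_⟩
    have h1 : α = ind iota * (ind iota * α) := by
      rw [← mul_assoc, ← map_mul, iota_sq, map_one, one_mul]
    rw [h1, h, ← map_mul, ← mul_assoc, iota_cj, mul_assoc, iota_fld, mul_assoc]

end Cfsg.Agent.H8.AutPSL

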