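import Mathlib
import Cfsg.Agent.H8.AutF

set_option autoImplicit false

namespace Cfsg.Agent.H8.AutPSL

open Matrix Matrix.SpecialLinearGroup
open scoped Pointwise

variable {F : Type*} [Field F] {n : ℕ}

theorem final_step (hn : 2 ≤ n) (β : MulAut (ProjectiveSpecialLinearGroup (Fin n) F)) (W : GL (Fin n) F) (s : Fin n → Fin n → F → F)
    (hs : ∀ i j (hij : i ≠ j) (a : F), β (pr n F (transvection hij a)) = pr n F (cj W (transvection hij (s i j a))))
    (t : Fin n → Fˣ) (σ : F ≃+* F) (hσ : ∀ i j, i ≠ j → ∀ a, s i j a = (t i : F) * ((t j)⁻¹ : Fˣ) * σ a) :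
    ∃ (W : GL (Fin n) F) (σ : F ≃+* F), β = ind (cj W * fld σ) := by
  let D : GL (Fin n) F := ⟨Matrix.diagonal (fun i => (t i : F)), Matrix.diagonal (fun i => (((t i)⁻¹ : Fˣ) : F)), by
    rw [Matrix.diagonal_mul_diagonal, ← Matrix.diagonal_one]; congr 1; funext i; exact Units.mul_inv _, by
    rw [Matrix.diagonal_mul_diagonal, ← Matrix.diagonal_one]; congr 1; funext i; exact Units.inv_mul _⟩
  refine ⟨W * D, σ, ?_⟩
  apply psl_ext
  haveI : Nontrivial (Fin n) := Fin.nontrivial_iff_two_le.2 (by omega)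
  apply SLn.transvection_induction (fun s => β (pr n F s) = (ind (cj (W * D) * fld σ)) (pr n F s))
  · intro i j hij a
    rw [hs, ind_pr, MulAut.mul_apply, map_mul, MulAut.mul_apply]
    congr 2
    apply Subtype.ext
    rw [cj_val, fld_val, tr_val, tr_val]
    have e1 : (D : Matrix (Fin n) (Fin n) F) = Matrix.diagonal (fun i => (t i : F)) := rfl
    have e2 : ((D⁻¹ : GL (Fin n) F) : Matrix (Fin n) (Fin n) F) = Matrix.diagonal (fun i => (((t i)⁻¹ : Fˣ) : F)) := rfl
    have e3 : ((1 : Matrix (Fin n) (Fin n) F) + single i j a).map σ = 1 + single i j (σ a) := by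
      rw [Matrix.map_add σ (map_add σ), Matrix.map_one σ (map_zero σ) (map_one σ), Matrix.map_single]
    rw [e3, mul_add, mul_one, add_mul, val_mul_inv D, e1, e2, hσ i j hij]
    congr 1
    ext k l
    rw [Matrix.mul_diagonal, Matrix.diagonal_mul]
    by_cases h : i = k ∧ j = l
    · obtain ⟨rfl, rfl⟩ := h
      rw [Matrix.single_apply_same, Matrix.single_apply_same]; ring
    · rw [Matrix.single_apply, Matrix.single_apply, if_neg h, if_neg h]; ring
  · intro A B hA hB
    rw [map_mul, map_mul, hA, hB, ← map_mul, ← map_mul]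

theorem fin2_par {v f v' : Fin 2 → F} (hv : v ≠ 0) (hv' : v' ≠ 0) (hf : f ≠ 0) (h : f ⬝ᵥ v = 0) (h' : f ⬝ᵥ v' = 0) : Par v v' := by
  have e : f 0 * v 0 + f 1 * v 1 = 0 := by rw [← h]; simp [dotProduct, Fin.sum_univ_two]
  have e' : f 0 * v' 0 + f 1 * v' 1 = 0 := by rw [← h']; simp [dotProduct, Fin.sum_univ_two]
  -- v ∥ (-f1, f0)
  have key : ∀ u : Fin 2 → F, u ≠ 0 → f 0 * u 0 + f 1 * u 1 = 0 → Par u ![-f 1, f 0] := by
    intro u hu hu0
    by_cases h0 : f 0 = 0
    · have h1 : f 1 ≠ 0 := by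
        intro h1; apply hf; funext i; fin_cases i
        · exact h0
        · exact h1
      have hu1 : u 1 = 0 := by
        rw [h0, zero_mul, zero_add] at hu0
        exact (mul_eq_zero.1 hu0).resolve_left h1
      have hu2 : u 0 ≠ 0 := by
        intro h2; apply hu; funext i; fin_cases i
        · exact h2
        · exact hu1
      refine ⟨-(u 0 / f 1), neg_ne_zero.2 (div_ne_zero hu2 h1), ?_⟩
      funext i; fin_cases i
      · simp; field_simp
      · simp [hu1, h0]
    · have hu2 : u 1 ≠ 0 := by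
        intro h2
        rw [h2, mul_zero, add_zero] at hu0
        have h3 := (mul_eq_zero.1 hu0).resolve_left h0
        apply hu; funext i; fin_cases i
        · exact h3
        · exact h2
      refine ⟨u 1 / f 0, div_ne_zero hu2 h0, ?_⟩
      funext i; fin_cases i
      · simp; field_simp; linear_combination hu0
      · simp; field_simp
  exact (key v hv e).trans (key v' hv' e').symm

theorem coordinatize2 [Finite F] (s10 s01 : F → F)
    (hadd : ∀ a b, s01 (a + b) = s01 a + s01 b)
    (hinj : ∀ a, s01 a = 0 → a = 0)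
    (hrel : ∀ a c, a ≠ 0 → s10 c * s01 a ^ 2 = s01 (a ^ 2 * c)) :
    ∃ (κ : Fˣ) (σ : F ≃+* F), (∀ a, s01 a = κ * σ a) ∧ (∀ a, s10 a = ((κ⁻¹ : Fˣ) : F) * σ a) := by
  have hk : s01 1 ≠ 0 := fun h => one_ne_zero (hinj 1 h)
  set κ : Fˣ := Units.mk0 (s01 1) hk with hκ
  have hκv : (κ : F) = s01 1 := rfl
  have hκi : (κ : F) * ((κ⁻¹ : Fˣ) : F) = 1 := Units.mul_inv κ
  set τ : F → F := fun a => ((κ⁻¹ : Fˣ) : F) * s01 a with hτ
  have h01 : ∀ a, s01 a = κ * τ a := by
    intro a
    simp only [hτ]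
    linear_combination (-(s01 a)) * hκi
  have h10 : ∀ a, s10 a = ((κ⁻¹ : Fˣ) : F) * τ a := by
    intro a
    have h1 := hrel 1 a one_ne_zero
    rw [one_pow, one_mul, h01 a, ← hκv] at h1
    have h2 : s10 a * (κ : F) * (κ : F) = τ a * κ := by linear_combination h1
    have h3 : s10 a * (κ : F) = τ a := mul_right_cancel₀ κ.ne_zero h2
    linear_combination (-(s10 a)) * hκi + ((κ⁻¹ : Fˣ) : F) * h3
  have τ1 : τ 1 = 1 := by
    simp only [hτ]
    rw [← hκv]; exact Units.inv_mul κ
  have τ0 : τ 0 = 0 := by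
    simp only [hτ]
    have := hadd 0 0
    rw [add_zero] at this
    have h0 : s01 0 = 0 := by simpa using this
    rw [h0, mul_zero]
  have τadd : ∀ a b, τ (a + b) = τ a + τ b := by
    intro a b; simp only [hτ]; rw [hadd]; ring
  have τsq : ∀ a c, τ (a ^ 2 * c) = τ a ^ 2 * τ c := by
    intro a c
    by_cases ha : a = 0
    · rw [ha, τ0]; simp [τ0]
    · have h1 := hrel a c ha
      rw [h01, h01, h10] at h1
      have h2 : (κ : F) * τ (a ^ 2 * c) = κ * (τ a ^ 2 * τ c) := by
        linear_combination -h1 + (κ : F) * τ a ^ 2 * τ c * hκi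
      exact mul_left_cancel₀ κ.ne_zero h2
  have τmul : ∀ a b, τ (a * b) = τ a * τ b := by
    by_cases h2 : ringChar F = 2
    · intro a b
      obtain ⟨c, rfl⟩ := FiniteField.isSquare_of_char_two h2 a
      rw [← sq, τsq]
      have := τsq c 1
      rw [mul_one, τ1, mul_one] at this
      rw [this]
    · have h20 : (2 : F) ≠ 0 := Ring.two_ne_zero h2
      intro a b
      have h3 := τsq (a + 1) b
      have h4 : (a + 1) ^ 2 * b = a ^ 2 * b + (a * b + a * b) + b := by ring
      rw [h4, τadd, τadd, τadd, τsq, τadd, τ1] at h3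
      have h5 : (2 : F) * (τ (a * b)) = 2 * (τ a * τ b) := by linear_combination h3
      exact mul_left_cancel₀ h20 h5
  let σ₀ : F →+* F := { toFun := τ, map_one' := τ1, map_zero' := τ0, map_mul' := τmul, map_add' := τadd }
  have hbij : Function.Bijective σ₀ := Finite.injective_iff_bijective.1 σ₀.injective
  exact ⟨κ, RingEquiv.ofBijective σ₀ hbij, h01, h10⟩

theorem exists_two (p : ℕ) [Fact p.Prime] [CharP F p] [Finite F] (α : MulAut (ProjectiveSpecialLinearGroup (Fin 2) F)) :
    ∃ (W : GL (Fin 2) F) (σ : F ≃+* F), α = ind (cj W * fld σ) := by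
  have h01 : (0 : Fin 2) ≠ 1 := by decide
  have h10 : (1 : Fin 2) ≠ 0 := by decide
  obtain ⟨v, f, hv, hf, hfv, himg⟩ := root_vec p (le_refl 2) α h01
  obtain ⟨v', f', hv', hf', hfv', himg'⟩ := root_vec p (le_refl 2) α h10
  have himgne : ∀ (i j : Fin 2) (hij : i ≠ j), α (pr 2 F (transvection hij 1)) ≠ 1 := by
    intro i j hij h
    have h2 : pr 2 F (transvection hij (1 : F)) = 1 := by
      apply α.injective
      rw [h, map_one]
    have h3 : transvection hij (1 : F) = transvection hij 0 := by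
      rw [transvection_coeff_zero]
      apply pr_inj_of_pow p _ _ 1
      · rw [pow_one]; exact tr_pow p _ _
      · rw [pow_one, one_pow]
      · rw [h2, map_one]
    exact one_ne_zero (tr_inj hij h3)
  have hnc : ¬ (f ⬝ᵥ v' = 0 ∧ f' ⬝ᵥ v = 0) := by
    rintro ⟨h1, h2⟩
    obtain ⟨b, t, ht, hαt⟩ := himg 1
    obtain ⟨b', t', ht', hαt'⟩ := himg' 1
    have hb : b ≠ 0 := by
      rintro rfl
      rw [zero_smul, add_zero] at ht
      have ht1 : t = 1 := Subtype.ext ht
      rw [ht1, map_one] at hαt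
      exact himgne _ _ _ hαt
    have hb' : b' ≠ 0 := by
      rintro rfl
      rw [zero_smul, add_zero] at ht'
      have ht1 : t' = 1 := Subtype.ext ht'
      rw [ht1, map_one] at hαt'
      exact himgne _ _ _ hαt'
    have k1 : IsTV t (b • v) f := ⟨smul_ne_zero hb hv, hf, by rw [dotProduct_smul, hfv, smul_zero], by rw [Matrix.smul_vecMulVec]; exact ht⟩
    have k2 : IsTV t' (b' • v') f' := ⟨smul_ne_zero hb' hv', hf', by rw [dotProduct_smul, hfv', smul_zero], by rw [Matrix.smul_vecMulVec]; exact ht'⟩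
    have k3 := dot_comm k1 k2 (by rw [dotProduct_smul, h1, smul_zero]) (by rw [dotProduct_smul, h2, smul_zero])
    have k4 : pr 2 F (transvection h01 1 * transvection h10 1) = pr 2 F (transvection h10 1 * transvection h01 (1 : F)) := by
      apply α.injective
      rw [map_mul, map_mul, map_mul, map_mul, hαt, hαt', ← map_mul, ← map_mul, k3]
    obtain ⟨c, hc, hcc⟩ := (pr_eq_iff _ _).1 k4
    have e1 : (transvection h01 (1 : F) * transvection h10 (1 : F)).1 = !![2, 1; 1, 1] := by
      show (1 + single 0 1 (1 : F)) * (1 + single 1 0 (1 : F)) = _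
      ext i j
      fin_cases i <;> fin_cases j <;> simp [Matrix.mul_apply, Fin.sum_univ_two, Matrix.single_apply]
      norm_num
    have e2 : (transvection h10 (1 : F) * transvection h01 (1 : F)).1 = !![1, 1; 1, 2] := by
      show (1 + single 1 0 (1 : F)) * (1 + single 0 1 (1 : F)) = _
      ext i j
      fin_cases i <;> fin_cases j <;> simp [Matrix.mul_apply, Fin.sum_univ_two, Matrix.single_apply]
      norm_num
    rw [e1, e2] at hcc
    have e3 := congrFun (congrFun hcc 0) 1
    have e4 := congrFun (congrFun hcc 0) 0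
    simp at e3 e4
    rw [← e3] at e4
    have : (1 : F) = 0 := by linear_combination -e4
    exact one_ne_zero this
  have hfv1 : f ⬝ᵥ v' ≠ 0 := by
    intro h
    apply hnc
    refine ⟨h, ?_⟩
    exact (fin2_par hv hv' hf hfv h).symm.dot_right hfv'
  have hfv2 : f' ⬝ᵥ v ≠ 0 := by
    intro h
    apply hnc
    refine ⟨?_, h⟩
    exact (fin2_par hv' hv hf' hfv' h).symm.dot_right hfv
  obtain ⟨W, s, hs⟩ := typeA1 α ![v, v'] ![f', f] (by
    intro i j hij
    fin_cases i <;> fin_cases j
    · exact absurd rfl hij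
    · exact hfv
    · exact hfv'
    · exact absurd rfl hij) (by
    intro j
    fin_cases j
    · exact hfv2
    · exact hfv1) (by
    intro i j hij a
    fin_cases i <;> fin_cases j
    · exact absurd rfl hij
    · exact himg a
    · exact himg' a
    · exact absurd rfl hij)
  obtain ⟨r1, r2, -⟩ := s_rel p α W s hs
  -- the Weyl element relation
  have hrel : ∀ a c, a ≠ 0 → s 1 0 c * s 0 1 a ^ 2 = s 0 1 (a ^ 2 * c) := by
    have main : ∀ a b : F, a ≠ 0 → b ≠ 0 → (1 + s 0 1 a * s 1 0 (-a⁻¹) = 0) ∧ s 0 1 b * s 1 0 (-a⁻¹) = s 1 0 (-(a⁻¹ ^ 2 * b)) * s 0 1 a := by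
      intro a b ha hb
      set m : SpecialLinearGroup (Fin 2) F := transvection h01 (s 0 1 a) * transvection h10 (s 1 0 (-a⁻¹)) * transvection h01 (s 0 1 a) with hm
      have e0 : (transvection h01 a * transvection h10 (-a⁻¹) * transvection h01 a) * transvection h01 b = transvection h10 (-(a⁻¹ ^ 2 * b)) * (transvection h01 a * transvection h10 (-a⁻¹) * transvection h01 a) := by
        apply Subtype.ext
        show (1 + single 0 1 a) * (1 + single 1 0 (-a⁻¹)) * (1 + single 0 1 a) * (1 + single 0 1 b) = (1 + single 1 0 (-(a⁻¹ ^ 2 * b))) * ((1 + single 0 1 a) * (1 + single 1 0 (-a⁻¹)) * (1 + single 0 1 a))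
        ext i j
        fin_cases i <;> fin_cases j <;> simp [Matrix.mul_apply, Fin.sum_univ_two, Matrix.single_apply] <;> field_simp <;> first | ring1 | simp
      have e1 : pr 2 F (cj W (m * transvection h01 (s 0 1 b) * m⁻¹)) = pr 2 F (cj W (transvection h10 (s 1 0 (-(a⁻¹ ^ 2 * b))))) := by
        have := congrArg (fun z => α (pr 2 F z)) e0
        simp only [map_mul, hs 0 1 h01, hs 1 0 h10] at this
        rw [hm]
        simp only [map_mul, map_inv]
        rw [this]
        group
      have e2 := cj_inj p W _ _ (pow_conj_one _ _ _ (tr_pow p _ _)) (tr_pow p _ _) e1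
      rw [mul_inv_eq_iff_eq_mul] at e2
      have e3 : m.1 * (1 + single 0 1 (s 0 1 b)) = (1 + single 1 0 (s 1 0 (-(a⁻¹ ^ 2 * b)))) * m.1 := congrArg Subtype.val e2
      have e4 : m.1 = !![1 + s 0 1 a * s 1 0 (-a⁻¹), s 0 1 a * (2 + s 0 1 a * s 1 0 (-a⁻¹)); s 1 0 (-a⁻¹), 1 + s 0 1 a * s 1 0 (-a⁻¹)] := by
        show (1 + single 0 1 (s 0 1 a)) * (1 + single 1 0 (s 1 0 (-a⁻¹))) * (1 + single 0 1 (s 0 1 a)) = _
        ext i j
        fin_cases i <;> fin_cases j <;> simp [Matrix.mul_apply, Fin.sum_univ_two, Matrix.single_apply] <;> ring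
      rw [e4] at e3
      have f01 := congrFun (congrFun e3 0) 1
      have f11 := congrFun (congrFun e3 1) 1
      simp [Matrix.mul_apply, Fin.sum_univ_two, Matrix.single_apply] at f01 f11
      rw [← inv_pow] at f11
      have hb0 : s 0 1 b ≠ 0 := fun h => hb (r2 0 1 h01 b h)
      have g1 : 1 + s 0 1 a * s 1 0 (-a⁻¹) = 0 := by
        rcases f01 with h | h
        · exact h
        · exact absurd h hb0
      refine ⟨g1, ?_⟩
      linear_combination f11 + s 1 0 (-(a⁻¹ ^ 2 * b)) * s 0 1 a * g1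
    intro a c ha
    by_cases hc : c = 0
    · have h1 : s 1 0 0 = 0 := by
        have := r1 1 0 h10 0 0
        rw [add_zero] at this
        simpa using this
      have h2 : s 0 1 0 = 0 := by
        have := r1 0 1 h01 0 0
        rw [add_zero] at this
        simpa using this
      rw [hc, h1, mul_zero, h2, zero_mul]
    · obtain ⟨m1, m2⟩ := main a (a ^ 2 * c) ha (mul_ne_zero (pow_ne_zero _ ha) hc)
      have e1 : -(a⁻¹ ^ 2 * (a ^ 2 * c)) = -c := by field_simp
      rw [e1] at m2
      have e2 : s 1 0 (-c) = - s 1 0 c := by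
        have h3 := r1 1 0 h10 c (-c)
        have h4 := r1 1 0 h10 0 0
        rw [add_zero] at h4
        have h5 : s 1 0 0 = 0 := by simpa using h4
        rw [add_neg_cancel, h5] at h3
        linear_combination -h3
      rw [e2] at m2
      linear_combination (s 0 1 a) * m2 - s 0 1 (a ^ 2 * c) * m1
  obtain ⟨κ, σ, hk1, hk2⟩ := coordinatize2 (s 1 0) (s 0 1) (r1 0 1 h01) (r2 0 1 h01) hrel
  apply final_step (le_refl 2) α W s hs ![κ, 1] σ
  intro i j hij a
  fin_cases i <;> fin_cases j
  · exact absurd rfl hij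
  · simp [hk1]
  · simp [hk2]
  · exact absurd rfl hij

/-- **Automorphisms of `PSL_n(F)`** -/
theorem exists_form [Finite F] (hn : 2 ≤ n) (α : MulAut (ProjectiveSpecialLinearGroup (Fin n) F)) :
    ∃ (W : GL (Fin n) F) (σ : F ≃+* F), α = ind (cj W * fld σ) ∨ (3 ≤ n ∧ α = ind (cj W * fld σ * iota)) := by
  obtain ⟨p, hp⟩ := CharP.exists F
  haveI : Fact p.Prime := ⟨CharP.char_is_prime F p⟩
  by_cases h : 3 ≤ n
  · obtain ⟨W, σ, h1 | h1⟩ := exists_ge3 p h α
    · exact ⟨W, σ, Or.inl h1⟩
    · exact ⟨W, σ, Or.inr ⟨h, h1⟩⟩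
  · have : n = 2 := by omega
    subst this
    obtain ⟨W, σ, h1⟩ := exists_two p α
    exact ⟨W, σ, Or.inl h1⟩

end Cfsg.Agent.H8.AutPSL
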