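import Mathlib
import Cfsg.Agent.H8.AutG

set_option autoImplicit false

namespace Cfsg.Agent.H8.AutPSL

open Matrix Matrix.SpecialLinearGroup
open scoped Pointwise

/-- splitting-type lemma: a complement to a normal subgroup gives a projection -/
theorem exists_proj {G A : Type*} [Group G] [Group A] (N : Subgroup G) [N.Normal] (h : A →* G)
    (hsurj : ∀ g : G, ∃ n ∈ N, ∃ a, g = n * h a) (hinj : ∀ a, h a ∈ N → a = 1) :
    ∃ Ψ : G →* A, Ψ.ker = N ∧ ∀ a, Ψ (h a) = a := by
  let φ : A →* G ⧸ N := (QuotientGroup.mk' N).comp h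
  have hφ : Function.Bijective φ := by
    constructor
    · rw [injective_iff_map_eq_one]
      intro a ha
      apply hinj
      exact (QuotientGroup.eq_one_iff _).1 ha
    · intro x
      obtain ⟨g, rfl⟩ := QuotientGroup.mk_surjective x
      obtain ⟨n, hn, a, rfl⟩ := hsurj g
      refine ⟨a, ?_⟩
      show (QuotientGroup.mk (h a) : G ⧸ N) = QuotientGroup.mk (n * h a)
      rw [QuotientGroup.mk_mul, (QuotientGroup.eq_one_iff n).2 hn, one_mul]
  let e : A ≃* G ⧸ N := MulEquiv.ofBijective φ hφ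
  refine ⟨e.symm.toMonoidHom.comp (QuotientGroup.mk' N), ?_, ?_⟩
  · ext g
    rw [MonoidHom.mem_ker]
    show e.symm (QuotientGroup.mk g) = 1 ↔ g ∈ N
    rw [MulEquiv.symm_apply_eq, map_one, QuotientGroup.eq_one_iff]
  · intro a
    show e.symm (φ a) = a
    exact e.symm_apply_apply a

variable {F : Type*} [Field F] {n : ℕ}

def fldW (σ : F ≃+* F) (W : GL (Fin n) F) : GL (Fin n) F where
  val := (W : Matrix (Fin n) (Fin n) F).map σ
  inv := ((W⁻¹ : GL (Fin n) F) : Matrix (Fin n) (Fin n) F).map σ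
  val_inv := by rw [← Matrix.map_mul, val_mul_inv, Matrix.map_one σ (map_zero σ) (map_one σ)]
  inv_val := by rw [← Matrix.map_mul, val_inv_mul, Matrix.map_one σ (map_zero σ) (map_one σ)]

theorem fld_cj (σ : F ≃+* F) (W : GL (Fin n) F) : fld σ * cj W = cj (fldW σ W) * fld σ := by
  ext1 s
  apply Subtype.ext
  rw [MulAut.mul_apply, MulAut.mul_apply, cj_val, fld_val, fld_val, cj_val, Matrix.map_mul, Matrix.map_mul]
  rfl

def iop : ℤˣ →* MulAut (SpecialLinearGroup (Fin n) F) where
  toFun u := if u = 1 then 1 else iota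
  map_one' := if_pos rfl
  map_mul' a b := by
    rcases Int.units_eq_one_or a with rfl | rfl <;> rcases Int.units_eq_one_or b with rfl | rfl
    · simp
    · simp
    · simp
    · have : ((-1 : ℤˣ) ≠ 1) := by decide
      rw [if_neg this]
      rw [iota_sq]; simp

theorem iop_neg : (iop (-1) : MulAut (SpecialLinearGroup (Fin n) F)) = iota := by
  have : ((-1 : ℤˣ) ≠ 1) := by decide
  show (if (-1 : ℤˣ) = 1 then 1 else iota) = _
  rw [if_neg this]

/-- the inner-diagonal group as a range -/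
noncomputable def dgN (n : ℕ) (F : Type*) [Field F] : Subgroup (MulAut (ProjectiveSpecialLinearGroup (Fin n) F)) :=
  ((ind : MulAut (SpecialLinearGroup (Fin n) F) →* _).comp cj).range

theorem mem_dgN (α : MulAut (ProjectiveSpecialLinearGroup (Fin n) F)) : α ∈ dgN n F ↔ ∃ W : GL (Fin n) F, ind (cj W) = α := Iff.rfl

theorem dgN_normal [Finite F] (hn : 2 ≤ n) : (dgN n F).Normal := by
  constructor
  rintro _ ⟨W, rfl⟩ g
  show g * ind (cj W) * g⁻¹ ∈ dgN n F
  have k1 : ∀ V : GL (Fin n) F, ∀ x ∈ dgN n F, ind (cj V) * x * (ind (cj V))⁻¹ ∈ dgN n F := by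
    intro V x hx
    exact (dgN n F).mul_mem ((dgN n F).mul_mem ⟨V, rfl⟩ hx) ((dgN n F).inv_mem ⟨V, rfl⟩)
  have k2 : ∀ σ : F ≃+* F, ∀ x ∈ dgN n F, ind (fld σ) * x * (ind (fld σ))⁻¹ ∈ dgN n F := by
    rintro σ _ ⟨V, rfl⟩
    refine ⟨fldW σ V, ?_⟩
    show ind (cj (fldW σ V)) = ind (fld σ) * ind (cj V) * (ind (fld σ))⁻¹
    rw [← map_mul, fld_cj, map_mul]; group
  have k3 : ∀ x ∈ dgN n F, ind iota * x * (ind iota)⁻¹ ∈ dgN n F := by
    rintro _ ⟨V, rfl⟩
    refine ⟨giT V, ?_⟩
    show ind (cj (giT V)) = ind iota * ind (cj V) * (ind iota)⁻¹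
    rw [← map_mul, iota_cj, map_mul]; group
  have hx : ind (cj W) ∈ dgN n F := ⟨W, rfl⟩
  obtain ⟨V, σ, h | ⟨-, h⟩⟩ := exists_form hn g
  · rw [h, map_mul]
    have := k1 V _ (k2 σ _ hx)
    have e : ind (cj V) * (ind (fld σ) * ind (cj W) * (ind (fld σ))⁻¹) * (ind (cj V))⁻¹ = ind (cj V) * ind (fld σ) * ind (cj W) * (ind (cj V) * ind (fld σ))⁻¹ := by group
    rwa [e] at this
  · rw [h, map_mul, map_mul]
    have := k1 V _ (k2 σ _ (k3 _ hx))
    have e : ind (cj V) * (ind (fld σ) * (ind iota * ind (cj W) * (ind iota)⁻¹) * (ind (fld σ))⁻¹) * (ind (cj V))⁻¹ = ind (cj V) * ind (fld σ) * ind iota * ind (cj W) * (ind (cj V) * ind (fld σ) * ind iota)⁻¹ := by group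
    rwa [e] at this

/-- equality in PSL of root images -/
theorem root_eq (p : ℕ) [Fact p.Prime] [CharP F p] {i j : Fin n} (hij : i ≠ j) (a : F) (e : MulAut (SpecialLinearGroup (Fin n) F))
    (h : ind e (pr n F (transvection hij a)) = pr n F (transvection hij a)) : e (transvection hij a) = transvection hij a := by
  rw [ind_pr] at h
  apply pr_inj_of_pow p _ _ 1
  · rw [pow_one, ← map_pow, tr_pow p, map_one]
  · rw [pow_one, tr_pow p]
  · exact h

theorem cj_fld_root (W : GL (Fin n) F) (σ : F ≃+* F) {i j : Fin n} (hij : i ≠ j) (a : F)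
    (h : (cj W * fld σ : MulAut (SpecialLinearGroup (Fin n) F)) (transvection hij a) = transvection hij a) :
    σ a • ((W : Matrix (Fin n) (Fin n) F) * single i j 1) = a • (single i j 1 * (W : Matrix (Fin n) (Fin n) F)) := by
  have e1 : (fld σ (transvection hij a)).1 = 1 + σ a • single i j 1 := by
    rw [fld_val, tr_val, Matrix.map_add σ (map_add σ), Matrix.map_one σ (map_zero σ) (map_one σ), Matrix.map_single, Matrix.smul_single, smul_eq_mul, mul_one]
  have e2 : (transvection hij a).1 = 1 + a • single i j 1 := by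
    rw [tr_val, Matrix.smul_single, smul_eq_mul, mul_one]
  have h1 := congrArg Subtype.val h
  rw [MulAut.mul_apply, cj_val, e1, e2] at h1
  have h2 : (W : Matrix (Fin n) (Fin n) F) * (1 + σ a • single i j 1) = (1 + a • single i j 1) * (W : Matrix (Fin n) (Fin n) F) := by
    rw [← h1, mul_assoc _ _ (W : Matrix (Fin n) (Fin n) F), val_inv_mul, mul_one]
  rw [mul_add, add_mul, mul_one, one_mul] at h2
  have h3 := add_left_cancel h2
  rw [Matrix.mul_smul, Matrix.smul_mul] at h3
  exact h3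

theorem W_ne_zero (hn : 1 ≤ n) (W : GL (Fin n) F) : (W : Matrix (Fin n) (Fin n) F) ≠ 0 := by
  intro h
  have h1 := val_mul_inv W
  rw [h, zero_mul] at h1
  have h2 := congrFun (congrFun h1 ⟨0, hn⟩) ⟨0, hn⟩
  simp at h2

/-- kernel computation -/
theorem ker_cj_fld [Finite F] (hn : 2 ≤ n) (W : GL (Fin n) F) (σ : F ≃+* F) (h : ind (cj W * fld σ) = 1) :
    σ = 1 ∧ W ∈ Subgroup.center (GL (Fin n) F) := by
  obtain ⟨p, hp⟩ := CharP.exists F
  haveI : Fact p.Prime := ⟨CharP.char_is_prime F p⟩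
  have key : ∀ i j (hij : i ≠ j) (a : F), σ a • ((W : Matrix (Fin n) (Fin n) F) * single i j 1) = a • (single i j 1 * (W : Matrix (Fin n) (Fin n) F)) := by
    intro i j hij a
    apply cj_fld_root W σ hij a
    apply root_eq p hij a
    rw [h]; rfl
  have key1 : ∀ i j (hij : i ≠ j), (W : Matrix (Fin n) (Fin n) F) * single i j 1 = single i j 1 * (W : Matrix (Fin n) (Fin n) F) := by
    intro i j hij
    have := key i j hij 1
    rwa [map_one, one_smul, one_smul] at this
  constructor
  · ext a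
    show σ a = a
    let i : Fin n := ⟨0, by omega⟩
    let j : Fin n := ⟨1, by omega⟩
    have hij : i ≠ j := by intro h; have := congrArg Fin.val h; simp [i, j] at this
    have h1 := key i j hij a
    rw [← key1 i j hij, ← sub_eq_zero, ← sub_smul] at h1
    rcases smul_eq_zero.1 h1 with h2 | h2
    · exact sub_eq_zero.1 h2
    · exfalso
      have h3 : ((W⁻¹ : GL (Fin n) F) : Matrix (Fin n) (Fin n) F) * ((W : Matrix (Fin n) (Fin n) F) * single i j 1) = 0 := by rw [h2, mul_zero]
      rw [← mul_assoc, val_inv_mul, one_mul] at h3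
      have h4 := congrFun (congrFun h3 i) j
      rw [Matrix.single_apply_same] at h4
      exact one_ne_zero h4
  · rw [Matrix.GeneralLinearGroup.mem_center_iff_val_mem_range_scalar]
    apply Matrix.mem_range_scalar_of_commute_single
    intro i j hij
    exact (key1 i j hij).symm

theorem ker_cj_fld_iota [Finite F] (hn : 3 ≤ n) (W : GL (Fin n) F) (σ : F ≃+* F) : ind (cj W * fld σ * iota) ≠ 1 := by
  intro h
  obtain ⟨p, hp⟩ := CharP.exists F
  haveI : Fact p.Prime := ⟨CharP.char_is_prime F p⟩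
  have key : ∀ i j (hij : i ≠ j), (W : Matrix (Fin n) (Fin n) F) * single j i (-1) = single i j 1 * (W : Matrix (Fin n) (Fin n) F) := by
    intro i j hij
    have h1 : (cj W * fld σ * iota : MulAut (SpecialLinearGroup (Fin n) F)) (transvection hij (1 : F)) = transvection hij 1 := by
      apply root_eq p hij 1
      rw [h]; rfl
    have e0 : (iota (transvection hij (1 : F))).1 = 1 + single j i (-1) := by
      rw [iota_val, transvection_inv, tr_val, Matrix.transpose_add, Matrix.transpose_one, Matrix.transpose_single]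
    have e1 : (fld σ (iota (transvection hij (1 : F)))).1 = 1 + single j i (-1) := by
      rw [fld_val, e0, Matrix.map_add σ (map_add σ), Matrix.map_one σ (map_zero σ) (map_one σ), Matrix.map_single, map_neg, map_one]
    have h2 := congrArg Subtype.val h1
    rw [MulAut.mul_apply, MulAut.mul_apply, cj_val, e1, tr_val] at h2
    have h3 : (W : Matrix (Fin n) (Fin n) F) * (1 + single j i (-1)) = (1 + single i j 1) * (W : Matrix (Fin n) (Fin n) F) := by
      rw [← h2, mul_assoc _ _ (W : Matrix (Fin n) (Fin n) F), val_inv_mul, mul_one]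
    rw [mul_add, add_mul, mul_one, one_mul] at h3
    exact add_left_cancel h3
  apply W_ne_zero (by omega) W
  ext j l
  rw [Matrix.zero_apply]
  -- choose i ≠ j, i ≠ l
  have h3 : ∃ i : Fin n, i ∉ ({j, l} : Finset (Fin n)) := by
    by_contra hcon
    push Not at hcon
    have h4 : (Finset.univ : Finset (Fin n)) ⊆ {j, l} := fun x _ => hcon x
    have h5 := Finset.card_le_card h4
    rw [Finset.card_univ, Fintype.card_fin] at h5
    have h6 : ({j, l} : Finset (Fin n)).card ≤ 2 := Finset.card_le_two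
    omega
  obtain ⟨i, hi⟩ := h3
  rw [Finset.mem_insert, Finset.mem_singleton, not_or] at hi
  have h1 := congrFun (congrFun (key i j hi.1) i) l
  rw [Matrix.single_mul_apply_same, one_mul, Matrix.mul_single_apply_of_ne (hbj := Ne.symm hi.2)] at h1
  exact h1.symm

theorem fld_iop_comm (σ : F ≃+* F) (u : ℤˣ) : Commute (fld σ : MulAut (SpecialLinearGroup (Fin n) F)) (iop u) := by
  rcases Int.units_eq_one_or u with rfl | rfl
  · rw [map_one]; exact Commute.one_right _
  · rw [iop_neg]; exact (iota_fld σ).symm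

noncomputable def hA : (F ≃+* F) × ℤˣ →* MulAut (ProjectiveSpecialLinearGroup (Fin n) F) :=
  ind.comp (MonoidHom.noncommCoprod fld iop (fun σ u => fld_iop_comm σ u))

theorem hA_apply (σ : F ≃+* F) (u : ℤˣ) : (hA (σ, u) : MulAut (ProjectiveSpecialLinearGroup (Fin n) F)) = ind (fld σ * iop u) := rfl

/-- the projection to field and graph parts, `n ≥ 3` -/
theorem exists_Psi [Finite F] (hn : 3 ≤ n) : ∃ Ψ : MulAut (ProjectiveSpecialLinearGroup (Fin n) F) →* (F ≃+* F) × ℤˣ, Ψ.ker = dgN n F ∧ ∀ a, Ψ (hA a) = a := by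
  haveI := dgN_normal (F := F) (by omega : 2 ≤ n)
  apply exists_proj
  · intro g
    obtain ⟨V, σ, h | ⟨-, h⟩⟩ := exists_form (by omega : 2 ≤ n) g
    · refine ⟨ind (cj V), ⟨V, rfl⟩, (σ, 1), ?_⟩
      rw [h, hA_apply, map_one, mul_one, map_mul]
    · refine ⟨ind (cj V), ⟨V, rfl⟩, (σ, -1), ?_⟩
      rw [h, hA_apply, iop_neg, map_mul, map_mul, map_mul, mul_assoc]
  · rintro ⟨σ, u⟩ ⟨V, hV⟩
    have hV' : ind (cj V) = ind (fld σ * iop u) := hV
    rcases Int.units_eq_one_or u with rfl | rfl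
    · rw [map_one, mul_one] at hV'
      have : ind (cj V⁻¹ * fld σ) = 1 := by
        rw [map_mul, map_inv, map_inv, hV', inv_mul_cancel]
      rw [(ker_cj_fld (by omega) _ _ this).1]; rfl
    · exfalso
      rw [iop_neg] at hV'
      have : ind (cj V⁻¹ * fld σ * iota) = 1 := by
        rw [mul_assoc, map_mul, map_inv, map_inv, hV', inv_mul_cancel]
      exact ker_cj_fld_iota hn _ _ this

/-- the projection to field part, `n = 2` -/
theorem exists_Psi2 [Finite F] : ∃ Ψ : MulAut (ProjectiveSpecialLinearGroup (Fin 2) F) →* (F ≃+* F), Ψ.ker = dgN 2 F ∧ ∀ a, Ψ (ind (fld a)) = a := by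
  haveI := dgN_normal (F := F) (le_refl 2)
  apply exists_proj (dgN 2 F) (ind.comp fld)
  · intro g
    obtain ⟨V, σ, h | ⟨h3, h⟩⟩ := exists_form (le_refl 2) g
    · refine ⟨ind (cj V), ⟨V, rfl⟩, σ, ?_⟩
      rw [h, map_mul]; rfl
    · omega
  · rintro σ ⟨V, hV⟩
    have hV' : ind (cj V) = ind (fld σ) := hV
    have : ind (cj V⁻¹ * fld σ) = 1 := by
      rw [map_mul, map_inv, map_inv, hV', inv_mul_cancel]
    exact (ker_cj_fld (le_refl 2) _ _ this).1

end Cfsg.Agent.H8.AutPSL
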