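import Mathlib
import Cfsg.Prelude.Def_LieTypeDatum
import Cfsg.Agent.H8.AutH

set_option autoImplicit false

namespace Cfsg.Agent.H8.AutPSL

open Matrix Matrix.SpecialLinearGroup
open scoped Pointwise

theorem fieldAut (F : Type*) [Field F] [Finite F] {p f : ℕ} [Fact p.Prime] (hF : Nat.card F = p ^ f) (hf : 1 ≤ f) :
    IsCyclic (F ≃+* F) ∧ Nat.card (F ≃+* F) = f := by
  haveI := Fintype.ofFinite F
  haveI : CharP F p := by
    obtain ⟨r, hr⟩ := CharP.exists F
    haveI : Fact r.Prime := ⟨CharP.char_is_prime F r⟩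
    obtain ⟨k, hk1, hk2⟩ := FiniteField.card F r
    have h1 : p = r := by
      have h2 : p ∣ r ^ (k : ℕ) := by
        rw [← hk2, ← Nat.card_eq_fintype_card, hF]
        exact dvd_pow_self p (by omega)
      exact (Nat.prime_dvd_prime_iff_eq Fact.out hk1).1 ((Fact.out : p.Prime).dvd_of_dvd_pow h2)
    rw [h1]; exact hr
  letI : Algebra (ZMod p) F := ZMod.algebra F p
  let e : (F ≃+* F) ≃* Gal(F/(ZMod p)) :=
    { toFun := fun σ => AlgEquiv.ofRingEquiv (f := σ) (fun r => by
        have : (σ : F →+* F).comp (algebraMap (ZMod p) F) = algebraMap (ZMod p) F := Subsingleton.elim _ _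
        exact RingHom.congr_fun this r)
      invFun := fun τ => τ.toRingEquiv
      left_inv := fun σ => by ext x; rfl
      right_inv := fun τ => by ext x; rfl
      map_mul' := fun σ τ => by ext x; rfl }
  constructor
  · exact isCyclic_of_surjective e.symm.toMonoidHom e.symm.surjective
  · rw [Nat.card_congr e.toEquiv, IsGalois.card_aut_eq_finrank]
    have h1 := Module.card_eq_pow_finrank (K := ZMod p) (V := F)
    rw [Fintype.card_eq_nat_card, hF, ZMod.card] at h1
    exact (Nat.pow_right_injective (Fact.out : p.Prime).two_le h1).symm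

variable {F : Type*} [Field F] {n : ℕ}

/-- elements of SL act as inner automorphisms -/
theorem ind_cj_toGL (s : SpecialLinearGroup (Fin n) F) : ind (cj (toGL s)) = MulAut.conj (pr n F s) := by
  apply psl_ext
  intro x
  rw [ind_pr, MulAut.conj_apply, ← map_inv, ← map_mul, ← map_mul]
  congr 1

theorem inn_le (n : ℕ) (F : Type*) [Field F] : Cfsg.Inn (ProjectiveSpecialLinearGroup (Fin n) F) ≤ dgN n F := by
  rintro _ ⟨x, rfl⟩
  obtain ⟨s, rfl⟩ := pr_surj x
  exact ⟨toGL s, ind_cj_toGL s⟩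

/-- diag(a,1,...,1) -/
noncomputable def Dg (hn : 1 ≤ n) : Fˣ →* GL (Fin n) F where
  toFun a := ⟨Matrix.diagonal (Function.update (fun _ => (1 : F)) (⟨0, hn⟩ : Fin n) (a : F)), Matrix.diagonal (Function.update (fun _ => (1 : F)) (⟨0, hn⟩ : Fin n) ((a⁻¹ : Fˣ) : F)), by
      rw [Matrix.diagonal_mul_diagonal, ← Matrix.diagonal_one]; congr 1; funext i
      by_cases hi : i = ⟨0, hn⟩
      · rw [hi, Function.update_self, Function.update_self]; exact Units.mul_inv _
      · rw [Function.update_of_ne hi, Function.update_of_ne hi, one_mul], by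
      rw [Matrix.diagonal_mul_diagonal, ← Matrix.diagonal_one]; congr 1; funext i
      by_cases hi : i = ⟨0, hn⟩
      · rw [hi, Function.update_self, Function.update_self]; exact Units.inv_mul _
      · rw [Function.update_of_ne hi, Function.update_of_ne hi, one_mul]⟩
  map_one' := by
    apply Units.ext
    show Matrix.diagonal _ = (1 : Matrix (Fin n) (Fin n) F)
    rw [← Matrix.diagonal_one]; congr 1; funext i
    by_cases hi : i = ⟨0, hn⟩
    · rw [hi, Function.update_self]; rfl
    · rw [Function.update_of_ne hi]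
  map_mul' a b := by
    apply Units.ext
    show Matrix.diagonal _ = Matrix.diagonal _ * Matrix.diagonal _
    rw [Matrix.diagonal_mul_diagonal]; congr 1; funext i
    by_cases hi : i = ⟨0, hn⟩
    · rw [hi, Function.update_self, Function.update_self, Function.update_self]; rfl
    · rw [Function.update_of_ne hi, Function.update_of_ne hi, Function.update_of_ne hi, one_mul]

theorem Dg_det (hn : 1 ≤ n) (a : Fˣ) : (Dg hn a : Matrix (Fin n) (Fin n) F).det = a := by
  show (Matrix.diagonal _).det = _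
  rw [Matrix.det_diagonal, Finset.prod_update_of_mem (Finset.mem_univ _)]
  simp

theorem exists_SL_of_det (W : GL (Fin n) F) (h : (W : Matrix (Fin n) (Fin n) F).det = 1) : ∃ s : SpecialLinearGroup (Fin n) F, toGL s = W :=
  ⟨⟨_, h⟩, Units.ext rfl⟩

/-- ind of cj of scalar multiples -/
theorem ind_cj_center (hn : 1 ≤ n) (W : GL (Fin n) F) (c : Fˣ) : cj (Matrix.GeneralLinearGroup.scalar (Fin n) c * W) = cj W := by
  have h : cj (Matrix.GeneralLinearGroup.scalar (Fin n) c) = 1 := by
    ext1 s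
    apply Subtype.ext
    rw [cj_val]
    have h1 : (Matrix.GeneralLinearGroup.scalar (Fin n) c : Matrix (Fin n) (Fin n) F) * s.1 = s.1 * (Matrix.GeneralLinearGroup.scalar (Fin n) c : Matrix (Fin n) (Fin n) F) := by
      show Matrix.scalar (Fin n) (c : F) * s.1 = s.1 * Matrix.scalar (Fin n) (c : F)
      exact (Matrix.scalar_commute (c : F) (fun r => Commute.all _ _) s.1)
    rw [h1, mul_assoc, val_mul_inv, mul_one]; rfl
  rw [map_mul, h, one_mul]

theorem scalar_det (c : Fˣ) : (Matrix.GeneralLinearGroup.scalar (Fin n) c : Matrix (Fin n) (Fin n) F).det = (c : F) ^ n := by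
  show (Matrix.scalar (Fin n) (c : F)).det = _
  rw [Matrix.scalar_apply, Matrix.det_diagonal, Finset.prod_const, Finset.card_univ, Fintype.card_fin]

/-- `ind (cj W)` is inner iff `det W` is an `n`-th power -/
theorem inner_iff [Finite F] (hn : 2 ≤ n) (W : GL (Fin n) F) :
    ind (cj W) ∈ Cfsg.Inn (ProjectiveSpecialLinearGroup (Fin n) F) ↔ ∃ c : Fˣ, (c : F) ^ n = (W : Matrix (Fin n) (Fin n) F).det := by
  constructor
  · rintro ⟨x, hx⟩
    obtain ⟨s, rfl⟩ := pr_surj x
    have h1 : ind (cj ((toGL s)⁻¹ * W) * fld (1 : F ≃+* F)) = 1 := by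
      rw [map_one, mul_one, map_mul, map_mul, ← hx, map_inv, map_inv, ind_cj_toGL, inv_mul_cancel]
    have h2 := (ker_cj_fld hn _ _ h1).2
    rw [Matrix.GeneralLinearGroup.center_eq_range_scalar] at h2
    obtain ⟨c, hc⟩ := h2
    refine ⟨c, ?_⟩
    have h3 : W = toGL s * Matrix.GeneralLinearGroup.scalar (Fin n) c := by rw [hc]; group
    rw [h3, Units.val_mul, Matrix.det_mul, scalar_det]
    have h4 : ((toGL s : GL (Fin n) F) : Matrix (Fin n) (Fin n) F).det = 1 := s.2
    rw [h4, one_mul]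
  · rintro ⟨c, hc⟩
    obtain ⟨s, hs⟩ := exists_SL_of_det (Matrix.GeneralLinearGroup.scalar (Fin n) c⁻¹ * W) (by
      rw [Units.val_mul, Matrix.det_mul, scalar_det, ← hc, ← mul_pow, Units.inv_mul, one_pow])
    refine ⟨pr n F s, ?_⟩
    rw [← ind_cj_toGL, hs, ind_cj_center (by omega)]

noncomputable def theta (hn : 1 ≤ n) : Fˣ →* Cfsg.Out (ProjectiveSpecialLinearGroup (Fin n) F) :=
  ((QuotientGroup.mk' (Cfsg.Inn (ProjectiveSpecialLinearGroup (Fin n) F))).comp (ind.comp cj)).comp (Dg hn)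

theorem theta_range (hn : 1 ≤ n) : (theta (F := F) hn).range = (dgN n F).map (QuotientGroup.mk' (Cfsg.Inn (ProjectiveSpecialLinearGroup (Fin n) F))) := by
  ext x
  constructor
  · rintro ⟨a, rfl⟩
    exact ⟨ind (cj (Dg hn a)), ⟨Dg hn a, rfl⟩, rfl⟩
  · rintro ⟨_, ⟨W, rfl⟩, rfl⟩
    have hd : (W : Matrix (Fin n) (Fin n) F).det ≠ 0 := ((Matrix.isUnit_iff_isUnit_det _).1 W.isUnit).ne_zero
    refine ⟨Units.mk0 _ hd, ?_⟩
    show QuotientGroup.mk (ind (cj (Dg hn (Units.mk0 _ hd)))) = (QuotientGroup.mk (ind (cj W)) : Cfsg.Out (ProjectiveSpecialLinearGroup (Fin n) F))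
    rw [QuotientGroup.eq, ← map_inv, ← map_inv, ← map_mul, ← map_mul]
    obtain ⟨s, hs⟩ := exists_SL_of_det ((Dg hn (Units.mk0 _ hd))⁻¹ * W) (by
      have h1 : ((Dg hn (Units.mk0 _ hd) : GL (Fin n) F) : Matrix (Fin n) (Fin n) F).det * (((Dg hn (Units.mk0 _ hd))⁻¹ : GL (Fin n) F) : Matrix (Fin n) (Fin n) F).det = 1 := by
        rw [← Matrix.det_mul, val_mul_inv, Matrix.det_one]
      rw [Dg_det] at h1
      rw [Units.val_mul, Matrix.det_mul, mul_comm]
      exact h1)
    rw [← hs]
    exact ⟨pr n F s, (ind_cj_toGL s).symm⟩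

theorem theta_ker [Finite F] (hn : 2 ≤ n) : (theta (F := F) (by omega : 1 ≤ n)).ker = (powMonoidHom n : Fˣ →* Fˣ).range := by
  ext a
  rw [MonoidHom.mem_ker]
  show (QuotientGroup.mk (ind (cj (Dg _ a))) : Cfsg.Out (ProjectiveSpecialLinearGroup (Fin n) F)) = 1 ↔ _
  rw [QuotientGroup.eq_one_iff, inner_iff hn, Dg_det]
  constructor
  · rintro ⟨c, hc⟩
    exact ⟨c, Units.ext hc⟩
  · rintro ⟨c, hc⟩
    exact ⟨c, congrArg Units.val hc⟩

theorem theta_range_card [Finite F] (hn : 2 ≤ n) : Nat.card (theta (F := F) (by omega : 1 ≤ n)).range = Nat.gcd n (Nat.card F - 1) := by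
  haveI := Fintype.ofFinite F
  rw [← Subgroup.index_ker, theta_ker hn, IsCyclic.index_powMonoidHom_range, Nat.card_units, Nat.gcd_comm]

theorem out_ker [Finite F] (hn : 2 ≤ n) {A : Type*} [Group A] (Ψ : MulAut (ProjectiveSpecialLinearGroup (Fin n) F) →* A) (hker : Ψ.ker = dgN n F) :
    ∃ φ : Cfsg.Out (ProjectiveSpecialLinearGroup (Fin n) F) →* A, (∀ α, φ (QuotientGroup.mk α) = Ψ α) ∧ IsCyclic φ.ker ∧ Nat.card φ.ker = Nat.gcd n (Nat.card F - 1) := by
  have hle : Cfsg.Inn (ProjectiveSpecialLinearGroup (Fin n) F) ≤ Ψ.ker := by rw [hker]; exact inn_le n F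
  refine ⟨QuotientGroup.lift _ Ψ hle, fun α => rfl, ?_⟩
  have hk : (QuotientGroup.lift _ Ψ hle).ker = (theta (F := F) (by omega : 1 ≤ n)).range := by
    rw [theta_range, ← hker]
    ext x
    obtain ⟨α, rfl⟩ := QuotientGroup.mk_surjective x
    constructor
    · intro h
      exact ⟨α, h, rfl⟩
    · rintro ⟨β, hβ, hαβ⟩
      show QuotientGroup.lift _ Ψ hle (QuotientGroup.mk α) = 1
      have h2 : (QuotientGroup.mk β : Cfsg.Out (ProjectiveSpecialLinearGroup (Fin n) F)) = QuotientGroup.mk α := hαβ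
      rw [← h2]
      exact hβ
  rw [hk]
  have hn1 : 1 ≤ n := by omega
  exact ⟨isCyclic_of_surjective (theta (F := F) hn1).rangeRestrict (theta (F := F) hn1).rangeRestrict_surjective, theta_range_card hn⟩

theorem card_dgN [Finite F] (hn : 2 ≤ n) : Nat.card (dgN n F) = Nat.card (Matrix.ProjGenLinGroup (Fin n) F) := by
  let φ : GL (Fin n) F →* MulAut (ProjectiveSpecialLinearGroup (Fin n) F) := ind.comp cj
  have hk : φ.ker = Subgroup.center (GL (Fin n) F) := by
    ext W
    rw [MonoidHom.mem_ker]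
    constructor
    · intro h
      have h1 : ind (cj W * fld (1 : F ≃+* F)) = 1 := by rw [map_one, mul_one]; exact h
      exact (ker_cj_fld hn _ _ h1).2
    · intro h
      rw [Matrix.GeneralLinearGroup.center_eq_range_scalar] at h
      obtain ⟨c, rfl⟩ := h
      show ind (cj (Matrix.GeneralLinearGroup.scalar (Fin n) c)) = 1
      have := ind_cj_center (F := F) (by omega : 1 ≤ n) 1 c
      rw [mul_one] at this
      rw [this, map_one, map_one]
  have h1 : Nat.card φ.range = Nat.card (GL (Fin n) F ⧸ Subgroup.center (GL (Fin n) F)) := by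
    rw [← hk]
    exact Nat.card_congr (QuotientGroup.quotientKerEquivRange φ).symm.toEquiv
  exact h1

end Cfsg.Agent.H8.AutPSL
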