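import Mathlib

set_option autoImplicit false

namespace Cfsg.Agent.H8

open Matrix

theorem isSquare_mul_sq_iff {F : Type*} [Field F] {a d : F} (hd : d ≠ 0) :
    IsSquare (a * d ^ 2) ↔ IsSquare a := by
  constructor
  · rintro ⟨r, hr⟩
    refine ⟨r / d, ?_⟩
    field_simp
    linear_combination hr
  · rintro ⟨r, rfl⟩
    exact ⟨r * d, by ring⟩

/-- discriminant of a bilinear function with Gram matrix `G` in the standard basis -/
theorem disc_square_iff {F : Type*} [Field F] [Fintype F] {q : ℕ} (_hF : Fintype.card F = q) (_hq : Odd q)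
    {κ : Type*} [Fintype κ] [DecidableEq κ] {ι : Type*} [Fintype ι] [DecidableEq ι]
    (b : Module.Basis ι F (κ → F)) (f : (κ → F) → (κ → F) → F) (G : Matrix κ κ F)
    (hf : ∀ u v, f u v = u ⬝ᵥ (G *ᵥ v)) (δ : F) (hδ : G.det = δ) :
    IsSquare (Matrix.of (fun i j : ι => f (b i) (b j))).det ↔ IsSquare δ := by
  have hcard : Fintype.card ι = Fintype.card κ := by
    rw [← Module.finrank_eq_card_basis b, Module.finrank_fintype_fun_eq_card]
  obtain ⟨e⟩ : Nonempty (κ ≃ ι) := ⟨Fintype.equivOfCardEq hcard.symm⟩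
  set P : Matrix κ κ F := Matrix.of (fun i j => b (e i) j) with hP
  have h1 : (Matrix.of (fun i j : ι => f (b i) (b j))).submatrix e e = P * G * P.transpose := by
    ext i j
    simp only [Matrix.submatrix_apply, Matrix.of_apply, hf]
    rw [Matrix.mul_assoc, Matrix.mul_apply]
    simp only [dotProduct, hP, Matrix.of_apply]
    apply Finset.sum_congr rfl
    intro k _
    congr 1
  have h2 : (Matrix.of (fun i j : ι => f (b i) (b j))).det = δ * P.det ^ 2 := by
    rw [← Matrix.det_submatrix_equiv_self e, h1, Matrix.det_mul, Matrix.det_mul, Matrix.det_transpose, hδ]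
    ring
  have hPdet : P.det ≠ 0 := by
    have hli : LinearIndependent F (fun i : κ => b (e i)) := b.linearIndependent.comp e e.injective
    have h3 : IsUnit P := Matrix.linearIndependent_rows_iff_isUnit.1 hli
    exact ((Matrix.isUnit_iff_isUnit_det _).1 h3).ne_zero
  rw [h2, isSquare_mul_sq_iff hPdet]

theorem neg_one_square_iff {F : Type*} [Field F] [Fintype F] {q : ℕ} (hF : Fintype.card F = q) (hq : Odd q) :
    IsSquare (-1 : F) ↔ Even ((q - 1) / 2) := by
  rw [FiniteField.isSquare_neg_one_iff, hF]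
  obtain ⟨k, hk⟩ := hq
  rw [Nat.even_iff]
  omega

theorem neg_one_pow_square_iff {F : Type*} [Field F] [Fintype F] {q : ℕ} (hF : Fintype.card F = q) (hq : Odd q) (m : ℕ) :
    IsSquare ((-1 : F) ^ m) ↔ Even (m * (q - 1) / 2) := by
  have h2 : m * (q - 1) / 2 = m * ((q - 1) / 2) := by
    obtain ⟨k, hk⟩ := hq
    have : q - 1 = 2 * k := by omega
    rw [this, Nat.mul_div_cancel_left _ (by norm_num), ← mul_assoc, mul_comm m 2, mul_assoc,
      Nat.mul_div_cancel_left _ (by norm_num)]
  rw [h2, Nat.even_mul]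
  rcases Nat.even_or_odd m with h | h
  · rw [h.neg_one_pow]
    simp [h]
  · rw [h.neg_one_pow, neg_one_square_iff hF hq]
    have : ¬ Even m := Nat.not_even_iff_odd.2 h
    simp [this]

theorem det_swap_blocks {F : Type*} [Field F] (m : ℕ) :
    (Matrix.fromBlocks 0 1 1 0 : Matrix (Fin m ⊕ Fin m) (Fin m ⊕ Fin m) F).det = (-1) ^ m := by
  have h1 : (Matrix.fromBlocks 1 1 0 1 : Matrix (Fin m ⊕ Fin m) (Fin m ⊕ Fin m) F) * (Matrix.fromBlocks 0 1 1 0) =
      Matrix.fromBlocks 1 1 1 0 := by
    rw [Matrix.fromBlocks_multiply]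
    simp
  have h2 := congrArg Matrix.det h1
  rw [Matrix.det_mul, Matrix.det_fromBlocks_one₁₁, Matrix.det_fromBlocks_one₁₁] at h2
  simpa [Matrix.det_neg] using h2

theorem not_isSquare_mul {F : Type*} [Field F] [Fintype F] [DecidableEq F] {x y : F} (hx : x ≠ 0) (hy : ¬ IsSquare y) :
    IsSquare (x * y) ↔ ¬ IsSquare x := by
  have hy0 : y ≠ 0 := by rintro rfl; exact hy IsSquare.zero
  rw [← quadraticChar_one_iff_isSquare (mul_ne_zero hx hy0), map_mul, quadraticChar_neg_one_iff_not_isSquare.2 hy,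
    ← quadraticChar_neg_one_iff_not_isSquare]
  rcases quadraticChar_dichotomy hx with h | h <;> rw [h] <;> decide

end Cfsg.Agent.H8
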