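import Mathlib

set_option autoImplicit false

namespace Cfsg.Agent.H8.EigChar

variable {A : Type*} [AddCommGroup A] [Fintype A] {V : Type*} [AddCommGroup V] [Module ℂ V] (op : A → V →ₗ[ℂ] V)

/-- projection on the `χ`-part -/
noncomputable def Ei (χ : AddChar A ℂ) : V →ₗ[ℂ] V := ((Fintype.card A : ℂ)⁻¹) • ∑ a, χ (-a) • op a

theorem Ei_apply (χ : AddChar A ℂ) (v : V) : Ei op χ v = ((Fintype.card A : ℂ)⁻¹) • ∑ a, χ (-a) • op a v := by
  simp [Ei, LinearMap.sum_apply]

theorem Ei_eig [DecidableEq (AddChar A ℂ)] (χ ψ : AddChar A ℂ) {v : V} (hv : ∀ a, op a v = ψ a • v) : Ei op χ v = if χ = ψ then v else 0 := by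
  rw [Ei_apply]
  have h1 : ∀ a, χ (-a) • op a v = ((ψ - χ) a) • v := by
    intro a
    rw [hv, smul_smul, AddChar.sub_apply', mul_comm, div_eq_mul_inv, AddChar.map_neg_eq_inv]
  simp only [h1]
  rw [← Finset.sum_smul, AddChar.sum_eq_ite, smul_smul]
  by_cases h : χ = ψ
  · rw [if_pos h, h, sub_self, if_pos rfl, inv_mul_cancel₀, one_smul]
    exact Nat.cast_ne_zero.2 Fintype.card_ne_zero
  · rw [if_neg h, if_neg, mul_zero, zero_smul]
    intro h1
    exact h (sub_eq_zero.1 h1).symm

/-- eigenvectors for different characters are independent -/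
theorem li {ι : Type*} (χ : ι → AddChar A ℂ) (hχ : Function.Injective χ) (v : ι → V) (hv : ∀ i a, op a (v i) = χ i a • v i) (hne : ∀ i, v i ≠ 0) :
    LinearIndependent ℂ v := by
  classical
  rw [linearIndependent_iff']
  intro s g hg i hi
  have h1 := congrArg (Ei op (χ i)) hg
  rw [map_sum, map_zero] at h1
  have h2 : ∀ j ∈ s, Ei op (χ i) (g j • v j) = if j = i then g i • v i else 0 := by
    intro j _
    rw [map_smul, Ei_eig op (χ i) (χ j) (hv j)]
    by_cases h : j = i
    · rw [h, if_pos rfl, if_pos rfl]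
    · rw [if_neg (fun h' => h (hχ h').symm), if_neg h, smul_zero]
  rw [Finset.sum_congr rfl h2, Finset.sum_ite_eq' s i, if_pos hi] at h1
  exact (smul_eq_zero.1 h1).resolve_right (hne i)

variable (hadd : ∀ a b, op (a + b) = op a * op b) (h0 : op 0 = 1)

include hadd in
theorem op_Ei (χ : AddChar A ℂ) (b : A) (v : V) : op b (Ei op χ v) = χ b • Ei op χ v := by
  rw [Ei_apply, map_smul, map_sum, smul_comm (χ b)]
  congr 1
  rw [Finset.smul_sum]
  rw [← Equiv.sum_comp (Equiv.addLeft (-b))]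
  apply Finset.sum_congr rfl
  intro a _
  rw [Equiv.coe_addLeft, map_smul, neg_add, neg_neg, AddChar.map_add_eq_mul, mul_smul]
  congr 2
  have := LinearMap.congr_fun (hadd b (-b + a)) v
  rw [add_neg_cancel_left] at this
  exact this.symm

include h0 in
theorem sum_Ei (v : V) : ∑ χ : AddChar A ℂ, Ei op χ v = v := by
  classical
  simp only [Ei_apply]
  rw [← Finset.smul_sum, Finset.sum_comm]
  simp only [← Finset.sum_smul]
  have h1 : ∀ a : A, (∑ χ : AddChar A ℂ, χ (-a)) • op a v = if a = 0 then (Fintype.card A : ℂ) • op 0 v else 0 := by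
    intro a
    rw [AddChar.sum_apply_eq_ite]
    by_cases h : a = 0
    · rw [h, neg_zero, if_pos rfl, if_pos rfl]
    · rw [if_neg (neg_ne_zero.2 h), if_neg h, zero_smul]
  simp only [h1]
  rw [Finset.sum_ite_eq' Finset.univ (0 : A), if_pos (Finset.mem_univ _), h0, smul_smul, inv_mul_cancel₀ (Nat.cast_ne_zero.2 Fintype.card_ne_zero), one_smul]
  rfl

end Cfsg.Agent.H8.EigChar
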