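import Mathlib

set_option autoImplicit false

namespace Cfsg.Agent.H8.RCF

open Polynomial Module

variable {F : Type*} [Field F]

/-- `φ` is isomorphic to multiplication by the roots on `∏ F[X]/(f i)` -/
def IsDec {V : Type*} [AddCommGroup V] [Module F V] (φ : Module.End F V) {ι : Type*} [Fintype ι] (f : ι → F[X]) : Prop :=
  (∀ i, (f i).Monic) ∧ ∃ E : V ≃ₗ[F] (∀ i, AdjoinRoot (f i)), ∀ v i, E (φ v) i = AdjoinRoot.root (f i) * E v i

theorem isDec_reindex {V : Type*} [AddCommGroup V] [Module F V] {φ : Module.End F V} {ι κ : Type*} [Fintype ι] [Fintype κ]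
    {f : ι → F[X]} (h : IsDec φ f) (e : κ ≃ ι) : IsDec φ (f ∘ e) := by
  obtain ⟨h1, E, hE⟩ := h
  refine ⟨fun i => h1 _, E.trans ((LinearEquiv.piCongrLeft F (fun i => AdjoinRoot (f i)) e).symm), ?_⟩
  intro v i
  simp only [LinearEquiv.trans_apply]
  have : ∀ (w : ∀ i, AdjoinRoot (f i)) (j : κ), (LinearEquiv.piCongrLeft F (fun i => AdjoinRoot (f i)) e).symm w j = w (e j) := by
    intro w j; rfl
  rw [this, this]
  exact hE v (e i)

theorem conj_of_isDec {V W : Type*} [AddCommGroup V] [Module F V] [AddCommGroup W] [Module F W]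
    {φ : Module.End F V} {ψ : Module.End F W} {ι : Type*} [Fintype ι] {f : ι → F[X]}
    (h1 : IsDec φ f) (h2 : IsDec ψ f) : ∃ e : V ≃ₗ[F] W, ∀ v, e (φ v) = ψ (e v) := by
  obtain ⟨-, E, hE⟩ := h1
  obtain ⟨-, E', hE'⟩ := h2
  refine ⟨E.trans E'.symm, ?_⟩
  intro v
  simp only [LinearEquiv.trans_apply]
  rw [LinearEquiv.symm_apply_eq]
  funext i
  rw [hE, hE', LinearEquiv.apply_symm_apply]

theorem isDec_of_conj {V W : Type*} [AddCommGroup V] [Module F V] [AddCommGroup W] [Module F W]
    {φ : Module.End F V} {ψ : Module.End F W} {ι : Type*} [Fintype ι] {f : ι → F[X]}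
    (h2 : IsDec ψ f) (e : V ≃ₗ[F] W) (he : ∀ v, e (φ v) = ψ (e v)) : IsDec φ f := by
  obtain ⟨h, E', hE'⟩ := h2
  refine ⟨h, e.trans E', ?_⟩
  intro v i
  simp only [LinearEquiv.trans_apply]
  rw [he, hE']

theorem root_mul_eq_smul (f : F[X]) (x : AdjoinRoot f) :
    AdjoinRoot.root f * x = (show AdjoinRoot f from ((X : F[X]) • (show F[X] ⧸ Ideal.span {f} from x))) := by
  obtain ⟨g, rfl⟩ := AdjoinRoot.mk_surjective x
  rfl

open scoped Classical in
/-- drop the trivial factors -/
theorem isDec_drop {V : Type*} [AddCommGroup V] [Module F V] {φ : Module.End F V} {ι : Type*} [Fintype ι]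
    {f : ι → F[X]} (h : IsDec φ f) : IsDec φ (fun i : {i // f i ≠ 1} => f i.1) := by
  obtain ⟨h1, E, hE⟩ := h
  refine ⟨fun i => h1 _, ?_⟩
  have hsub : ∀ i, f i = 1 → ∀ x y : AdjoinRoot (f i), x = y := by
    intro i hi x y
    obtain ⟨g, rfl⟩ := AdjoinRoot.mk_surjective x
    obtain ⟨g', rfl⟩ := AdjoinRoot.mk_surjective y
    rw [AdjoinRoot.mk_eq_mk, hi]
    exact one_dvd _
  let R : (∀ i, AdjoinRoot (f i)) ≃ₗ[F] (∀ i : {i // f i ≠ 1}, AdjoinRoot (f i.1)) :=
    { toFun := fun w i => w i.1
      map_add' := fun _ _ => rfl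
      map_smul' := fun _ _ => rfl
      invFun := fun w i => if hi : f i ≠ 1 then w ⟨i, hi⟩ else 0
      left_inv := by
        intro w
        funext i
        by_cases hi : f i ≠ 1
        · simp [hi]
        · push Not at hi
          exact hsub i hi _ _
      right_inv := by
        intro w
        funext i
        simp [i.2] }
  refine ⟨E.trans R, ?_⟩
  intro v i
  exact hE v i.1

/-- existence of the primary decomposition -/
theorem exists_isDec {V : Type*} [AddCommGroup V] [Module F V] [FiniteDimensional F V] (φ : Module.End F V) :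
    ∃ (k : ℕ) (f : Fin k → F[X]), IsDec φ f ∧ ∀ i, ∃ (p : F[X]) (e : ℕ), p.Monic ∧ Irreducible p ∧ 1 ≤ e ∧ f i = p ^ e := by
  classical
  have htor : Module.IsTorsion F[X] (Module.AEval' φ) := Module.AEval.isTorsion_of_finiteDimensional F V φ
  obtain ⟨ι, _, p, hp, e, ⟨E⟩⟩ := Module.equiv_directSum_of_isTorsion htor
  let g : ι → F[X] := fun i => (p i * C (p i).leadingCoeff⁻¹)
  have hg : ∀ i, (g i).Monic := fun i => monic_mul_leadingCoeff_inv (hp i).ne_zero
  have hu : ∀ i, IsUnit (C (p i).leadingCoeff⁻¹) := by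
    intro i
    apply Polynomial.isUnit_C.2
    rw [isUnit_iff_ne_zero]
    exact inv_ne_zero (leadingCoeff_ne_zero.2 (hp i).ne_zero)
  have hgirr : ∀ i, Irreducible (g i) := fun i => (irreducible_mul_isUnit (hu i)).2 (hp i)
  let f : ι → F[X] := fun i => g i ^ e i
  have hspan : ∀ i, Submodule.span F[X] {p i ^ e i} = Ideal.span {f i} := by
    intro i
    rw [show Submodule.span F[X] {p i ^ e i} = Ideal.span {p i ^ e i} from rfl, Ideal.span_singleton_eq_span_singleton]
    have : Associated (p i) (g i) := ⟨(hu i).unit, rfl⟩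
    exact this.pow_pow
  let E1 : (Module.AEval' φ) ≃ₗ[F[X]] (∀ i, F[X] ⧸ Ideal.span {f i}) :=
    E.trans ((DirectSum.linearEquivFunOnFintype F[X] ι (fun i => F[X] ⧸ Submodule.span F[X] {p i ^ e i})).trans
      (LinearEquiv.piCongrRight (fun i => Submodule.quotEquivOfEq _ _ (hspan i))))
  have hdec : IsDec φ f := by
    refine ⟨fun i => (hg i).pow _, (Module.AEval'.of φ).trans (E1.restrictScalars F), ?_⟩
    intro v i
    rw [root_mul_eq_smul]
    have h1 : E1 (Module.AEval'.of φ (φ v)) = (X : F[X]) • E1 (Module.AEval'.of φ v) := by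
      rw [← Module.AEval'.X_smul_of, map_smul]
    exact congrFun h1 i
  have hdec2 := isDec_drop hdec
  let e0 := Fintype.equivFin {i // f i ≠ 1}
  refine ⟨Fintype.card {i // f i ≠ 1}, _, isDec_reindex hdec2 e0.symm, ?_⟩
  intro i
  refine ⟨g (e0.symm i).1, e (e0.symm i).1, hg _, hgirr _, ?_, rfl⟩
  by_contra h
  apply (e0.symm i).2
  have : e (e0.symm i).1 = 0 := by omega
  show g _ ^ e _ = 1
  rw [this, pow_zero]

/-- endomorphism given by multiplication by the root -/
noncomputable def mulRoot (f : F[X]) : Module.End F (AdjoinRoot f) := LinearMap.mulLeft F (AdjoinRoot.root f)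

theorem charpoly_mulRoot {f : F[X]} (hf : f.Monic) : (haveI := hf.finite_adjoinRoot; (mulRoot f).charpoly) = f := by
  haveI := hf.finite_adjoinRoot
  have h1 := charpoly_leftMulMatrix (AdjoinRoot.powerBasis hf.ne_zero)
  rw [AdjoinRoot.minpoly_powerBasis_gen_of_monic hf] at h1
  rw [← LinearMap.charpoly_toMatrix (mulRoot f) (AdjoinRoot.powerBasis hf.ne_zero).basis]
  conv_rhs => rw [← h1]
  rfl

theorem det_blockDiagonal' {R : Type*} [CommRing R] {o : Type*} [Fintype o] [DecidableEq o] {m : o → Type*}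
    [∀ i, Fintype (m i)] [∀ i, DecidableEq (m i)] (M : ∀ i, Matrix (m i) (m i) R) :
    (Matrix.blockDiagonal' M).det = ∏ i, (M i).det := by
  classical
  letI : LinearOrder o := LinearOrder.lift' (Fintype.equivFin o) (Fintype.equivFin o).injective
  rw [(Matrix.blockTriangular_blockDiagonal' M).det_fintype]
  apply Finset.prod_congr rfl
  intro i _
  let e : m i ≃ {j : (Σ k, m k) // j.1 = i} :=
    { toFun := fun x => ⟨⟨i, x⟩, rfl⟩
      invFun := fun x => x.2 ▸ x.1.2
      left_inv := fun x => rfl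
      right_inv := by rintro ⟨⟨k, x⟩, rfl⟩; rfl }
  rw [← Matrix.det_submatrix_equiv_self e]
  congr 1
  ext a b
  simp only [Matrix.submatrix_apply, Matrix.toSquareBlock_def, Matrix.of_apply]
  exact Matrix.blockDiagonal'_apply_eq M i a b

theorem charpoly_blockDiagonal' {R : Type*} [CommRing R] {o : Type*} [Fintype o] [DecidableEq o] {m : o → Type*}
    [∀ i, Fintype (m i)] [∀ i, DecidableEq (m i)] (M : ∀ i, Matrix (m i) (m i) R) :
    (Matrix.blockDiagonal' M).charpoly = ∏ i, (M i).charpoly := by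
  classical
  unfold Matrix.charpoly
  rw [← det_blockDiagonal']
  congr 1
  ext ⟨i, a⟩ ⟨j, b⟩
  by_cases hij : i = j
  · subst hij
    rw [Matrix.blockDiagonal'_apply_eq]
    by_cases hab : a = b
    · subst hab
      rw [Matrix.charmatrix_apply_eq, Matrix.charmatrix_apply_eq, Matrix.blockDiagonal'_apply_eq]
    · rw [Matrix.charmatrix_apply_ne _ _ _ hab, Matrix.charmatrix_apply_ne, Matrix.blockDiagonal'_apply_eq]
      intro h
      apply hab
      simpa using h
  · rw [Matrix.blockDiagonal'_apply_ne _ _ _ hij, Matrix.charmatrix_apply_ne, Matrix.blockDiagonal'_apply_ne _ _ _ hij]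
    · simp
    · intro h; exact hij (congrArg Sigma.fst h)

/-- the product endomorphism -/
noncomputable def piRoot {ι : Type*} (f : ι → F[X]) : Module.End F (∀ i, AdjoinRoot (f i)) :=
  LinearMap.pi (fun i => (mulRoot (f i)).comp (LinearMap.proj i))

theorem charpoly_piRoot {ι : Type*} [Fintype ι] {f : ι → F[X]} (hf : ∀ i, (f i).Monic) :
    (haveI := fun i => (hf i).finite_adjoinRoot; (piRoot f).charpoly) = ∏ i, f i := by
  classical
  haveI := fun i => (hf i).finite_adjoinRoot
  let b := fun i => (AdjoinRoot.powerBasis (hf i).ne_zero).basis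
  rw [← LinearMap.charpoly_toMatrix (piRoot f) (Pi.basis b)]
  have h1 : LinearMap.toMatrix (Pi.basis b) (Pi.basis b) (piRoot f) =
      Matrix.blockDiagonal' (fun i => LinearMap.toMatrix (b i) (b i) (mulRoot (f i))) := by
    ext ⟨i, a⟩ ⟨j, c⟩
    rw [LinearMap.toMatrix_apply, Pi.basis_repr]
    by_cases hij : i = j
    · subst hij
      rw [Matrix.blockDiagonal'_apply_eq, LinearMap.toMatrix_apply]
      simp [piRoot, Pi.basis_apply]
    · rw [Matrix.blockDiagonal'_apply_ne _ _ _ hij]
      simp [piRoot, Pi.basis_apply, hij]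
  rw [h1, charpoly_blockDiagonal']
  apply Finset.prod_congr rfl
  intro i _
  rw [LinearMap.charpoly_toMatrix]
  exact charpoly_mulRoot (hf i)

theorem charpoly_of_isDec {V : Type*} [AddCommGroup V] [Module F V] [FiniteDimensional F V] {φ : Module.End F V}
    {ι : Type*} [Fintype ι] {f : ι → F[X]} (h : IsDec φ f) : φ.charpoly = ∏ i, f i := by
  obtain ⟨h1, E, hE⟩ := h
  haveI := fun i => (h1 i).finite_adjoinRoot
  rw [← charpoly_piRoot h1]
  have h2 : piRoot f = E.conj φ := by
    apply LinearMap.ext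
    intro w
    funext i
    show AdjoinRoot.root (f i) * w i = E (φ (E.symm w)) i
    rw [hE, LinearEquiv.apply_symm_apply]
  rw [h2, LinearEquiv.charpoly_conj]

theorem finrank_of_isDec {V : Type*} [AddCommGroup V] [Module F V] {φ : Module.End F V}
    {ι : Type*} [Fintype ι] {f : ι → F[X]} (h : IsDec φ f) : finrank F V = ∑ i, (f i).natDegree := by
  obtain ⟨h1, E, -⟩ := h
  haveI := fun i => (h1 i).finite_adjoinRoot
  rw [E.finrank_eq, Module.finrank_pi_fintype]
  apply Finset.sum_congr rfl
  intro i _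
  exact finrank_quotient_span_eq_natDegree

/-- polynomials in `φ` in the decomposition -/
theorem isDec_aeval {V : Type*} [AddCommGroup V] [Module F V] {φ : Module.End F V} {ι : Type*} [Fintype ι]
    {f : ι → F[X]} (E : V ≃ₗ[F] (∀ i, AdjoinRoot (f i))) (hE : ∀ v i, E (φ v) i = AdjoinRoot.root (f i) * E v i)
    (g : F[X]) (v : V) (i : ι) : E ((aeval φ g) v) i = AdjoinRoot.mk (f i) g * E v i := by
  induction g using Polynomial.induction_on' generalizing v with
  | add p q hp hq => rw [map_add, LinearMap.add_apply, map_add, Pi.add_apply, hp, hq, map_add, add_mul]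
  | monomial n a =>
    rw [aeval_monomial, Module.End.mul_apply, Module.algebraMap_end_apply, map_smul, Pi.smul_apply]
    have hpow : ∀ n v, E ((φ ^ n) v) i = AdjoinRoot.root (f i) ^ n * E v i := by
      intro n
      induction n with
      | zero => intro v; simp
      | succ n ih => intro v; rw [pow_succ, Module.End.mul_apply, ih, hE, pow_succ]; ring
    rw [hpow, ← C_mul_X_pow_eq_monomial, map_mul, map_pow, AdjoinRoot.mk_X, AdjoinRoot.mk_C, Algebra.smul_def, mul_assoc]
    rfl

theorem aeval_eq_zero_iff {V : Type*} [AddCommGroup V] [Module F V] {φ : Module.End F V} {ι : Type*} [Fintype ι]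
    {f : ι → F[X]} (h : IsDec φ f) (g : F[X]) : aeval φ g = 0 ↔ ∀ i, f i ∣ g := by
  classical
  obtain ⟨h1, E, hE⟩ := h
  constructor
  · intro h i
    rw [← AdjoinRoot.mk_eq_zero]
    have h2 := isDec_aeval E hE g (E.symm (Pi.single i 1)) i
    rw [h, LinearMap.zero_apply, map_zero, LinearEquiv.apply_symm_apply, Pi.single_eq_same, mul_one] at h2
    exact h2.symm
  · intro h
    apply LinearMap.ext
    intro v
    apply E.injective
    funext i
    rw [isDec_aeval E hE, (AdjoinRoot.mk_eq_zero).2 (h i), zero_mul]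
    simp

/-- existence of an endomorphism of given type -/
theorem exists_of_type {n : ℕ} {ι : Type*} [Fintype ι] (f : ι → F[X]) (hf : ∀ i, (f i).Monic)
    (hn : ∑ i, (f i).natDegree = n) : ∃ A : Matrix (Fin n) (Fin n) F, IsDec (A.mulVecLin) f := by
  classical
  haveI := fun i => (hf i).finite_adjoinRoot
  have h1 : finrank F (Fin n → F) = finrank F (∀ i, AdjoinRoot (f i)) := by
    rw [Module.finrank_fintype_fun_eq_card, Fintype.card_fin, Module.finrank_pi_fintype, ← hn]
    apply Finset.sum_congr rfl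
    intro i _
    exact finrank_quotient_span_eq_natDegree.symm
  let E := LinearEquiv.ofFinrankEq _ _ h1
  refine ⟨LinearMap.toMatrix' (E.symm.conj (piRoot f)), hf, E, ?_⟩
  intro v i
  rw [← Matrix.toLin'_apply', Matrix.toLin'_toMatrix']
  show E (E.symm (piRoot f (E.symm.symm v))) i = _
  rw [LinearEquiv.apply_symm_apply]
  rfl

/-- equality of multisets gives an equivalence -/
theorem exists_equiv_of_map_eq {α : Type*} {ι κ : Type*} [Fintype ι] [Fintype κ] (f : ι → α) (g : κ → α)
    (h : (Finset.univ : Finset ι).val.map f = (Finset.univ : Finset κ).val.map g) : ∃ e : ι ≃ κ, ∀ i, g (e i) = f i := by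
  classical
  have hc : ∀ x, Fintype.card {i // f i = x} = Fintype.card {j // g j = x} := by
    intro x
    have h1 := congrArg (Multiset.count x) h
    rw [Multiset.count_map, Multiset.count_map] at h1
    rw [Fintype.card_subtype, Fintype.card_subtype]
    have e1 : (Finset.univ.filter (fun i => f i = x)).card = Multiset.card ((Finset.univ : Finset ι).val.filter (fun a => x = f a)) := by
      rw [Finset.card_def, Finset.filter_val]
      simp only [eq_comm]
    have e2 : (Finset.univ.filter (fun i => g i = x)).card = Multiset.card ((Finset.univ : Finset κ).val.filter (fun a => x = g a)) := by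
      rw [Finset.card_def, Finset.filter_val]
      simp only [eq_comm]
    rw [e1, e2, h1]
  refine ⟨Equiv.ofFiberEquiv (f := f) (g := g) (fun x => Fintype.equivOfCardEq (hc x)), ?_⟩
  intro i
  exact Equiv.ofFiberEquiv_map _ i

theorem conj_of_multiset {V W : Type*} [AddCommGroup V] [Module F V] [AddCommGroup W] [Module F W]
    {φ : Module.End F V} {ψ : Module.End F W} {ι κ : Type*} [Fintype ι] [Fintype κ] {f : ι → F[X]} {g : κ → F[X]}
    (h1 : IsDec φ f) (h2 : IsDec ψ g) (h : (Finset.univ : Finset ι).val.map f = (Finset.univ : Finset κ).val.map g) :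
    ∃ e : V ≃ₗ[F] W, ∀ v, e (φ v) = ψ (e v) := by
  obtain ⟨e, he⟩ := exists_equiv_of_map_eq f g h
  have h3 := isDec_reindex h2 e
  have h4 : g ∘ e = f := funext he
  rw [h4] at h3
  exact conj_of_isDec h1 h3

/-- products of monic irreducibles determine the multiset -/
theorem multiset_eq_of_prod_eq {S T : Multiset F[X]} (hS : ∀ p ∈ S, p.Monic ∧ Irreducible p) (hT : ∀ p ∈ T, p.Monic ∧ Irreducible p)
    (h : S.prod = T.prod) : S = T := by
  classical
  have key : ∀ U : Multiset F[X], (∀ p ∈ U, p.Monic ∧ Irreducible p) → UniqueFactorizationMonoid.normalizedFactors U.prod = U := by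
    intro U hU
    rw [UniqueFactorizationMonoid.normalizedFactors_prod_eq U (fun a ha => (hU a ha).2)]
    conv_rhs => rw [← Multiset.map_id U]
    apply Multiset.map_congr rfl
    intro p hp
    exact (hU p hp).1.normalize_eq_self
  rw [← key S hS, ← key T hT, h]

/-- semisimple endomorphisms with the same characteristic polynomial are conjugate -/
theorem conj_of_charpoly_eq {V W : Type*} [AddCommGroup V] [Module F V] [FiniteDimensional F V] [AddCommGroup W] [Module F W] [FiniteDimensional F W]
    {φ : Module.End F V} {ψ : Module.End F W} {ι κ : Type*} [Fintype ι] [Fintype κ] {f : ι → F[X]} {g : κ → F[X]}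
    (h1 : IsDec φ f) (h2 : IsDec ψ g) (hf : ∀ i, Irreducible (f i)) (hg : ∀ i, Irreducible (g i))
    (h : φ.charpoly = ψ.charpoly) : ∃ e : V ≃ₗ[F] W, ∀ v, e (φ v) = ψ (e v) := by
  apply conj_of_multiset h1 h2
  apply multiset_eq_of_prod_eq
  · intro p hp
    obtain ⟨i, -, rfl⟩ := Multiset.mem_map.1 hp
    exact ⟨h1.1 i, hf i⟩
  · intro p hp
    obtain ⟨i, -, rfl⟩ := Multiset.mem_map.1 hp
    exact ⟨h2.1 i, hg i⟩
  · have e1 := charpoly_of_isDec h1
    have e2 := charpoly_of_isDec h2
    rw [e1, e2] at h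
    exact h

/-- squarefree annihilator gives an irreducible decomposition -/
theorem exists_isDec_irr {V : Type*} [AddCommGroup V] [Module F V] [FiniteDimensional F V] (φ : Module.End F V)
    (g : F[X]) (hg : Squarefree g) (hφ : aeval φ g = 0) : ∃ (k : ℕ) (f : Fin k → F[X]), IsDec φ f ∧ ∀ i, Irreducible (f i) := by
  obtain ⟨k, f, hf, hp⟩ := exists_isDec φ
  refine ⟨k, f, hf, ?_⟩
  intro i
  obtain ⟨p, e, hpm, hpi, he, hfe⟩ := hp i
  have h1 := (aeval_eq_zero_iff hf g).1 hφ i
  have h2 : e = 1 := by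
    by_contra hne
    have h3 : p * p ∣ g := by
      refine dvd_trans ?_ h1
      rw [hfe, ← pow_two]
      exact pow_dvd_pow p (by omega)
    exact hpi.not_isUnit (hg p h3)
  rw [hfe, h2, pow_one]
  exact hpi

end Cfsg.Agent.H8.RCF
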