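import Mathlib
import Cfsg.Agent.H8.RCF

set_option autoImplicit false

namespace Cfsg.Agent.H8.RCF

open Polynomial Module

variable {F : Type*} [Field F]

/-- top coefficient functional -/
noncomputable def lam {f : F[X]} (hf : f.Monic) : AdjoinRoot f →ₗ[F] F :=
  (Polynomial.lcoeff F (f.natDegree - 1)).comp (AdjoinRoot.modByMonicHom hf)

theorem lam_nondeg {f : F[X]} (hf : f.Monic) (a : AdjoinRoot f) (ha : a ≠ 0) : ∃ b, lam hf (a * b) ≠ 0 := by
  set g := AdjoinRoot.modByMonicHom hf a with hg
  have hag : AdjoinRoot.mk f g = a := AdjoinRoot.mk_leftInverse hf a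
  have hg0 : g ≠ 0 := by
    intro h; apply ha; rw [← hag, h, map_zero]
  obtain ⟨g', hg'⟩ := AdjoinRoot.mk_surjective a
  have hgd : g = g' %ₘ f := by rw [hg, ← hg', AdjoinRoot.modByMonicHom_mk]
  have hf1 : f ≠ 1 := by
    intro h
    apply hg0
    rw [hgd, h, Polynomial.modByMonic_one]
  have hdeg : g.degree < f.degree := by rw [hgd]; exact Polynomial.degree_modByMonic_lt _ hf
  have hnd : g.natDegree < f.natDegree := Polynomial.natDegree_lt_natDegree hg0 hdeg
  refine ⟨AdjoinRoot.mk f (X ^ (f.natDegree - 1 - g.natDegree)), ?_⟩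
  have h1 : a * AdjoinRoot.mk f (X ^ (f.natDegree - 1 - g.natDegree)) = AdjoinRoot.mk f (g * X ^ (f.natDegree - 1 - g.natDegree)) := by
    rw [map_mul, hag]
  rw [h1, lam, LinearMap.comp_apply, AdjoinRoot.modByMonicHom_mk]
  have h2 : (g * X ^ (f.natDegree - 1 - g.natDegree)) %ₘ f = g * X ^ (f.natDegree - 1 - g.natDegree) := by
    rw [Polynomial.modByMonic_eq_self_iff hf]
    apply Polynomial.degree_lt_degree
    rw [Polynomial.natDegree_mul hg0 (pow_ne_zero _ X_ne_zero), natDegree_X_pow]
    omega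
  rw [h2, Polynomial.lcoeff_apply]
  have h3 : f.natDegree - 1 = g.natDegree + (f.natDegree - 1 - g.natDegree) := by omega
  rw [h3, Polynomial.coeff_mul_X_pow' , if_pos (by omega)]
  have h4 : g.natDegree + (f.natDegree - 1 - g.natDegree) - (g.natDegree + (f.natDegree - 1 - g.natDegree) - g.natDegree) = g.natDegree := by omega
  rw [h4]
  exact leadingCoeff_ne_zero.2 hg0

theorem conj_transpose {n : Type*} [Fintype n] [DecidableEq n] (A : Matrix n n F) :
    ∃ S : (Matrix n n F)ˣ, (S : Matrix n n F) * A = A.transpose * S := by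
  classical
  obtain ⟨k, f, ⟨hf, E, hE⟩, -⟩ := exists_isDec A.mulVecLin
  let β : LinearMap.BilinForm F (∀ i, AdjoinRoot (f i)) :=
    LinearMap.mk₂ F (fun a b => ∑ i, lam (hf i) (a i * b i))
      (by intro a b c; simp only [Pi.add_apply, add_mul, map_add, Finset.sum_add_distrib])
      (by intro c a b; simp only [Pi.smul_apply, smul_mul_assoc, map_smul, Finset.smul_sum])
      (by intro a b c; simp only [Pi.add_apply, mul_add, map_add, Finset.sum_add_distrib])
      (by intro c a b; simp only [Pi.smul_apply, mul_smul_comm, map_smul, Finset.smul_sum])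
  let B : LinearMap.BilinForm F (n → F) := β.comp (E : (n → F) →ₗ[F] _) (E : (n → F) →ₗ[F] _)
  have hB : ∀ u v, B u v = ∑ i, lam (hf i) (E u i * E v i) := fun u v => rfl
  have hself : ∀ u v, B (A.mulVec u) v = B u (A.mulVec v) := by
    intro u v
    rw [hB, hB]
    apply Finset.sum_congr rfl
    intro i _
    have h1 := hE u i
    have h2 := hE v i
    rw [Matrix.mulVecLin_apply] at h1 h2
    rw [h1, h2]
    congr 1
    ring
  have hnd : ∀ u, (∀ v, B u v = 0) → u = 0 := by
    intro u hu
    by_contra hu0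
    have hE0 : E u ≠ 0 := by
      intro h; apply hu0; exact E.injective (by rw [h, map_zero])
    obtain ⟨i, hi⟩ : ∃ i, E u i ≠ 0 := by
      by_contra hcon; push Not at hcon; exact hE0 (funext hcon)
    obtain ⟨b, hb⟩ := lam_nondeg (hf i) _ hi
    apply hb
    have h1 := hu (E.symm (Pi.single i b))
    rw [hB, LinearEquiv.apply_symm_apply, Finset.sum_eq_single i] at h1
    · rwa [Pi.single_eq_same] at h1
    · intro j _ hj
      rw [Pi.single_eq_of_ne hj, mul_zero, map_zero]
    · simp
  set S : Matrix n n F := LinearMap.BilinForm.toMatrix' B with hS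
  have hBS : ∀ u v, B u v = u ⬝ᵥ S.mulVec v := by
    intro u v
    conv_lhs => rw [← Matrix.toBilin'_toMatrix' B]
    rw [Matrix.toBilin'_apply']
  have hrel : S * A = A.transpose * S := by
    ext i j
    have h1 := hself (Pi.single i 1) (Pi.single j 1)
    rw [hBS, hBS, Matrix.mulVec_mulVec] at h1
    have e1 : (Pi.single i 1 : n → F) ⬝ᵥ (S * A).mulVec (Pi.single j 1) = (S * A) i j := by
      simp [single_dotProduct]
    have e2 : (A.mulVec (Pi.single i 1 : n → F)) ⬝ᵥ S.mulVec (Pi.single j 1) = (A.transpose * S) i j := by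
      rw [Matrix.mulVec_single_one, Matrix.mulVec_single_one, Matrix.mul_apply]
      rfl
    rw [← e1, ← h1, e2]
  have hSu : IsUnit S := by
    rw [Matrix.isUnit_iff_isUnit_det, isUnit_iff_ne_zero]
    intro hdet
    rw [← Matrix.det_transpose] at hdet
    obtain ⟨v, hv0, hv⟩ := Matrix.exists_mulVec_eq_zero_iff.2 hdet
    apply hv0
    apply hnd
    intro w
    rw [hBS, Matrix.dotProduct_mulVec, ← Matrix.mulVec_transpose, hv, zero_dotProduct]
  exact ⟨hSu.unit, hrel⟩

/-- determinant of a componentwise multiplication -/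
theorem det_pi_mul {ι : Type*} [Fintype ι] {f : ι → F[X]} (hf : ∀ i, (f i).Monic) (y : ∀ i, AdjoinRoot (f i)) :
    LinearMap.det (LinearMap.pi (fun i => (LinearMap.mulLeft F (y i)).comp (LinearMap.proj i)) : Module.End F (∀ i, AdjoinRoot (f i))) =
      ∏ i, Algebra.norm F (y i) := by
  classical
  haveI := fun i => (hf i).finite_adjoinRoot
  let b := fun i => (AdjoinRoot.powerBasis (hf i).ne_zero).basis
  rw [← LinearMap.det_toMatrix (Pi.basis b)]
  have h1 : LinearMap.toMatrix (Pi.basis b) (Pi.basis b) (LinearMap.pi (fun i => (LinearMap.mulLeft F (y i)).comp (LinearMap.proj i))) =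
      Matrix.blockDiagonal' (fun i => LinearMap.toMatrix (b i) (b i) (LinearMap.mulLeft F (y i))) := by
    ext ⟨i, a⟩ ⟨j, c⟩
    rw [LinearMap.toMatrix_apply, Pi.basis_repr]
    by_cases hij : i = j
    · subst hij
      rw [Matrix.blockDiagonal'_apply_eq, LinearMap.toMatrix_apply]
      simp [Pi.basis_apply]
    · rw [Matrix.blockDiagonal'_apply_ne _ _ _ hij]
      simp [Pi.basis_apply, hij]
  rw [h1, det_blockDiagonal']
  apply Finset.prod_congr rfl
  intro i _
  rw [LinearMap.det_toMatrix, Algebra.norm_apply]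
  rfl

/-- the centralizer contains elements with prescribed norms -/
theorem exists_commuting {n : Type*} [Fintype n] [DecidableEq n] (A : Matrix n n F) {ι : Type*} [Fintype ι] {f : ι → F[X]}
    (h : IsDec A.mulVecLin f) (y : ∀ i, AdjoinRoot (f i)) :
    ∃ C : Matrix n n F, C * A = A * C ∧ C.det = ∏ i, Algebra.norm F (y i) := by
  obtain ⟨hf, E, hE⟩ := h
  let c : Module.End F (n → F) := E.symm.conj (LinearMap.pi (fun i => (LinearMap.mulLeft F (y i)).comp (LinearMap.proj i)))
  have hc : ∀ v i, E (c v) i = y i * E v i := by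
    intro v i
    show E (E.symm _) i = _
    rw [LinearEquiv.apply_symm_apply]
    rfl
  refine ⟨LinearMap.toMatrix' c, ?_, ?_⟩
  · have h1 : c * A.mulVecLin = A.mulVecLin * c := by
      apply LinearMap.ext
      intro v
      apply E.injective
      funext i
      rw [Module.End.mul_apply, Module.End.mul_apply, hc, hE, hE, hc]
      ring
    have h2 := congrArg LinearMap.toMatrix' h1
    rw [LinearMap.toMatrix'_mul, LinearMap.toMatrix'_mul] at h2
    have h3 : LinearMap.toMatrix' A.mulVecLin = A := by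
      rw [← Matrix.toLin'_apply', LinearMap.toMatrix'_toLin']
    rwa [h3] at h2
  · rw [LinearMap.det_toMatrix', ← det_pi_mul hf]
    show LinearMap.det (E.symm.conj _) = _
    rw [LinearEquiv.conj_apply, LinearMap.comp_assoc]
    exact LinearMap.det_conj (LinearMap.pi (fun i => (LinearMap.mulLeft F (y i)).comp (LinearMap.proj i))) E.symm

/-- conjugacy of matrices from linear equivalences -/
theorem matrix_conj_of_equiv {n : Type*} [Fintype n] [DecidableEq n] (A B : Matrix n n F) (e : (n → F) ≃ₗ[F] (n → F))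
    (he : ∀ v, e (A.mulVecLin v) = B.mulVecLin (e v)) : ∃ P : (Matrix n n F)ˣ, (P : Matrix n n F) * A = B * P := by
  have h1 : (e : (n → F) →ₗ[F] (n → F)) * A.mulVecLin = B.mulVecLin * (e : (n → F) →ₗ[F] (n → F)) := by
    apply LinearMap.ext
    intro v
    exact he v
  have h2 := congrArg LinearMap.toMatrix' h1
  rw [LinearMap.toMatrix'_mul, LinearMap.toMatrix'_mul] at h2
  have h3 : ∀ M : Matrix n n F, LinearMap.toMatrix' M.mulVecLin = M := by
    intro M
    rw [← Matrix.toLin'_apply', LinearMap.toMatrix'_toLin']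
  rw [h3, h3] at h2
  have hu : IsUnit (LinearMap.toMatrix' (e : (n → F) →ₗ[F] (n → F))) := by
    refine ⟨⟨LinearMap.toMatrix' (e : (n → F) →ₗ[F] (n → F)), LinearMap.toMatrix' (e.symm : (n → F) →ₗ[F] (n → F)), ?_, ?_⟩, rfl⟩
    · rw [← LinearMap.toMatrix'_mul, ← LinearMap.toMatrix'_one]
      congr 1
      apply LinearMap.ext; intro v; simp
    · rw [← LinearMap.toMatrix'_mul, ← LinearMap.toMatrix'_one]
      congr 1
      apply LinearMap.ext; intro v; simp
  exact ⟨hu.unit, h2⟩

theorem isDec_of_matrix_conj {n : Type*} [Fintype n] [DecidableEq n] {A B : Matrix n n F} {ι : Type*} [Fintype ι] {f : ι → F[X]}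
    (hB : IsDec B.mulVecLin f) (P : (Matrix n n F)ˣ) (hP : (P : Matrix n n F) * A = B * P) : IsDec A.mulVecLin f := by
  let e : (n → F) ≃ₗ[F] (n → F) := LinearEquiv.ofLinear (P : Matrix n n F).mulVecLin ((P⁻¹ : (Matrix n n F)ˣ) : Matrix n n F).mulVecLin
    (by rw [← Matrix.mulVecLin_mul, Units.mul_inv, Matrix.mulVecLin_one]) (by rw [← Matrix.mulVecLin_mul, Units.inv_mul, Matrix.mulVecLin_one])
  refine isDec_of_conj hB e ?_
  intro v
  show (P : Matrix n n F).mulVec (A.mulVec v) = B.mulVec ((P : Matrix n n F).mulVec v)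
  rw [Matrix.mulVec_mulVec, Matrix.mulVec_mulVec, hP]

/-- finite order prime to the characteristic gives a semisimple decomposition -/
theorem exists_isDec_of_pow_eq_one {n : Type*} [Fintype n] [DecidableEq n] (A : Matrix n n F) (N : ℕ) (hN : (N : F) ≠ 0)
    (hA : A ^ N = 1) : ∃ (k : ℕ) (f : Fin k → F[X]), IsDec A.mulVecLin f ∧ ∀ i, Irreducible (f i) := by
  apply exists_isDec_irr _ (X ^ N - 1)
  · have := (Polynomial.separable_X_pow_sub_C (1 : F) hN one_ne_zero)
    have h2 : (X ^ N - 1 : F[X]).Separable := by simpa using this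
    exact h2.squarefree
  · have h3 : A.mulVecLin ^ N = 1 := by
      have : ∀ k, A.mulVecLin ^ k = (A ^ k).mulVecLin := by
        intro k
        induction k with
        | zero => simp [Module.End.one_eq_id]
        | succ k ih => rw [pow_succ, pow_succ, Matrix.mulVecLin_mul, ih]; rfl
      rw [this, hA, Matrix.mulVecLin_one]; rfl
    simp [h3]

end Cfsg.Agent.H8.RCF
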