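import Mathlib
import Cfsg.Agent.H8.RCF2

set_option autoImplicit false

namespace Cfsg.Agent.H8.RCF

open Polynomial Module

variable {F : Type*} [Field F]

theorem finrank_ker_mul (d h g' : F[X]) (hd : d.Monic) (hh : h.Monic) (hco : IsCoprime h g') :
    finrank F (LinearMap.ker (LinearMap.mulLeft F (AdjoinRoot.mk (d * h) (d * g')))) = d.natDegree := by
  classical
  let L : Polynomial.degreeLT F d.natDegree →ₗ[F] AdjoinRoot (d * h) :=
    { toFun := fun b => AdjoinRoot.mk (d * h) (h * b)
      map_add' := by intro a b; rw [Submodule.coe_add, mul_add, map_add]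
      map_smul' := by
        intro c b
        rw [Submodule.coe_smul, mul_smul_comm, RingHom.id_apply, ← AdjoinRoot.smul_mk] }
  have hinj : Function.Injective L := by
    rw [injective_iff_map_eq_zero]
    intro b hb
    have h1 : AdjoinRoot.mk (d * h) (h * b) = 0 := hb
    rw [AdjoinRoot.mk_eq_zero, mul_comm d h] at h1
    have h2 : d ∣ b := (mul_dvd_mul_iff_left hh.ne_zero).1 h1
    apply Subtype.ext
    by_contra hb0
    have h3 := Polynomial.mem_degreeLT.1 b.2
    have h4 := Polynomial.degree_le_of_dvd h2 hb0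
    rw [Polynomial.degree_eq_natDegree hd.ne_zero] at h4
    exact absurd h3 (not_lt.2 h4)
  have hrange : LinearMap.range L = LinearMap.ker (LinearMap.mulLeft F (AdjoinRoot.mk (d * h) (d * g'))) := by
    ext x
    rw [LinearMap.mem_range, LinearMap.mem_ker, LinearMap.mulLeft_apply]
    constructor
    · rintro ⟨b, rfl⟩
      show AdjoinRoot.mk (d * h) (d * g') * AdjoinRoot.mk (d * h) (h * b) = 0
      rw [← map_mul, AdjoinRoot.mk_eq_zero]
      exact ⟨g' * b, by ring⟩
    · intro hx
      obtain ⟨a, rfl⟩ := AdjoinRoot.mk_surjective x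
      rw [← map_mul, AdjoinRoot.mk_eq_zero, mul_assoc] at hx
      have h2 : h ∣ g' * a := (mul_dvd_mul_iff_left hd.ne_zero).1 hx
      obtain ⟨b, rfl⟩ := hco.dvd_of_dvd_mul_left h2
      refine ⟨⟨b %ₘ d, ?_⟩, ?_⟩
      · rw [Polynomial.mem_degreeLT, ← Polynomial.degree_eq_natDegree hd.ne_zero]
        exact Polynomial.degree_modByMonic_lt _ hd
      · show AdjoinRoot.mk (d * h) (h * (b %ₘ d)) = AdjoinRoot.mk (d * h) (h * b)
        rw [AdjoinRoot.mk_eq_mk]
        refine ⟨-(b /ₘ d), ?_⟩
        have := Polynomial.modByMonic_add_div b d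
        linear_combination h * this
  rw [← hrange, LinearMap.finrank_range_of_inj hinj, (Polynomial.degreeLTEquiv F d.natDegree).finrank_eq]
  simp

theorem finrank_ker_aeval {V : Type*} [AddCommGroup V] [Module F V] {φ : Module.End F V} {ι : Type*} [Fintype ι]
    {f : ι → F[X]} (h : IsDec φ f) (g : F[X]) :
    finrank F (LinearMap.ker (aeval φ g)) = ∑ i, finrank F (LinearMap.ker (LinearMap.mulLeft F (AdjoinRoot.mk (f i) g))) := by
  classical
  obtain ⟨h1, E, hE⟩ := h
  haveI := fun i => (h1 i).finite_adjoinRoot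
  let e : LinearMap.ker (aeval φ g) ≃ₗ[F] (∀ i, LinearMap.ker (LinearMap.mulLeft F (AdjoinRoot.mk (f i) g))) :=
    { toFun := fun v i => ⟨E v.1 i, by
        rw [LinearMap.mem_ker, LinearMap.mulLeft_apply, ← isDec_aeval E hE, LinearMap.mem_ker.1 v.2, map_zero]; rfl⟩
      map_add' := by intro a b; funext i; apply Subtype.ext; simp
      map_smul' := by intro a b; funext i; apply Subtype.ext; simp
      invFun := fun w => ⟨E.symm (fun i => (w i).1), by
        rw [LinearMap.mem_ker]
        apply E.injective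
        rw [map_zero]
        funext i
        rw [isDec_aeval E hE, LinearEquiv.apply_symm_apply]
        exact (w i).2⟩
      left_inv := by intro v; apply Subtype.ext; exact E.symm_apply_apply _
      right_inv := by
        intro w; funext i; apply Subtype.ext
        show E (E.symm _) i = _
        rw [LinearEquiv.apply_symm_apply] }
  rw [e.finrank_eq, Module.finrank_pi_fintype]

/-- `f` is a power of a monic irreducible polynomial -/
def IsPP (f : F[X]) : Prop := ∃ (p : F[X]) (e : ℕ), p.Monic ∧ Irreducible p ∧ 1 ≤ e ∧ f = p ^ e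

theorem eq_of_dvd_irr {p q : F[X]} (hp : p.Monic) (hq : q.Monic) (hpi : Irreducible p) (hqi : Irreducible q) (h : p ∣ q) : p = q := by
  have := (hpi.associated_of_dvd hqi h)
  exact Polynomial.eq_of_monic_of_associated hp hq this

theorem pow_inj_irr {p q : F[X]} (hp : p.Monic) (hq : q.Monic) (hpi : Irreducible p) (hqi : Irreducible q) {a b : ℕ} (ha : 1 ≤ a)
    (h : p ^ a = q ^ b) : p = q ∧ a = b := by
  have h1 : p ∣ q ^ b := by rw [← h]; exact dvd_pow_self p (by omega)
  have h2 := eq_of_dvd_irr hp hq hpi hqi (hpi.prime.dvd_of_dvd_pow h1)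
  subst h2
  refine ⟨rfl, ?_⟩
  have h3 := congrArg natDegree h
  rw [natDegree_pow, natDegree_pow] at h3
  exact Nat.eq_of_mul_eq_mul_right (hpi.natDegree_pos) h3

theorem finrank_ker_pow_self {p : F[X]} (hp : p.Monic) (e k : ℕ) :
    finrank F (LinearMap.ker (LinearMap.mulLeft F (AdjoinRoot.mk (p ^ e) (p ^ k)))) = min e k * p.natDegree := by
  rcases le_total e k with h | h
  · have h1 := finrank_ker_mul (p ^ e) 1 (p ^ (k - e)) (hp.pow e) monic_one isCoprime_one_left
    rw [mul_one, ← pow_add, Nat.add_sub_cancel' h] at h1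
    rw [h1, natDegree_pow, min_eq_left h]
  · have h1 := finrank_ker_mul (p ^ k) (p ^ (e - k)) 1 (hp.pow k) (hp.pow _) isCoprime_one_right
    rw [mul_one, ← pow_add, Nat.add_sub_cancel' h] at h1
    rw [h1, natDegree_pow, min_eq_right h]

theorem finrank_ker_pow_ne {p q : F[X]} (hp : p.Monic) (hq : q.Monic) (hpi : Irreducible p) (hqi : Irreducible q) (hne : q ≠ p) (e k : ℕ) :
    finrank F (LinearMap.ker (LinearMap.mulLeft F (AdjoinRoot.mk (q ^ e) (p ^ k)))) = 0 := by
  have hco : IsCoprime q p := by
    rw [hqi.coprime_iff_not_dvd]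
    intro h
    exact hne (eq_of_dvd_irr hq hp hqi hpi h)
  have h1 := finrank_ker_mul 1 (q ^ e) (p ^ k) monic_one (hq.pow e) (hco.pow)
  rw [one_mul, one_mul] at h1
  rw [h1, natDegree_one]

open scoped Classical in
theorem count_formula {V : Type*} [AddCommGroup V] [Module F V] {φ : Module.End F V} {ι : Type*} [Fintype ι]
    {f : ι → F[X]} (h : IsDec φ f) (hpp : ∀ i, IsPP (f i)) {p : F[X]} (hp : p.Monic) (hpi : Irreducible p) {k : ℕ} (hk : 1 ≤ k) :
    (p.natDegree : ℤ) * (((Finset.univ : Finset ι).val.map f).count (p ^ k) : ℤ) =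
      2 * (finrank F (LinearMap.ker (aeval φ (p ^ k))) : ℤ) - finrank F (LinearMap.ker (aeval φ (p ^ (k - 1)))) -
        finrank F (LinearMap.ker (aeval φ (p ^ (k + 1)))) := by
  rw [finrank_ker_aeval h, finrank_ker_aeval h, finrank_ker_aeval h, Multiset.count_map]
  have e1 : Multiset.card ((Finset.univ : Finset ι).val.filter (fun a => p ^ k = f a)) = (Finset.univ.filter (fun i => p ^ k = f i)).card := by
    rw [Finset.card_def, Finset.filter_val]
  rw [e1, Finset.card_filter]
  push_cast
  rw [Finset.mul_sum, Finset.mul_sum, ← Finset.sum_sub_distrib, ← Finset.sum_sub_distrib]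
  apply Finset.sum_congr rfl
  intro i _
  obtain ⟨q, e, hq, hqi, he, hfi⟩ := hpp i
  rw [hfi]
  by_cases hqp : q = p
  · subst hqp
    rw [finrank_ker_pow_self hq, finrank_ker_pow_self hq, finrank_ker_pow_self hq]
    by_cases hek : k = e
    · subst hek
      rw [if_pos rfl, min_self, min_eq_right (by omega : k - 1 ≤ k), min_eq_left (by omega : k ≤ k + 1)]
      push_cast [Nat.cast_sub hk]
      ring
    · rw [if_neg]
      · rcases lt_or_gt_of_ne hek with h1 | h1
        · rw [min_eq_right (by omega), min_eq_right (by omega), min_eq_right (by omega)]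
          push_cast [Nat.cast_sub hk]
          ring
        · rw [min_eq_left (by omega), min_eq_left (by omega), min_eq_left (by omega)]
          push_cast
          ring
      · intro h1
        exact hek (pow_inj_irr hq hq hqi hqi hk h1).2
  · rw [finrank_ker_pow_ne hp hq hpi hqi hqp, finrank_ker_pow_ne hp hq hpi hqi hqp, finrank_ker_pow_ne hp hq hpi hqi hqp, if_neg]
    · simp
    · intro h1
      exact hqp (pow_inj_irr hp hq hpi hqi hk h1).1.symm

/-- the multiset of elementary divisors is determined by the dimensions of the kernels -/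
theorem multiset_eq_of_ker {V W : Type*} [AddCommGroup V] [Module F V] [AddCommGroup W] [Module F W]
    {φ : Module.End F V} {ψ : Module.End F W} {ι κ : Type*} [Fintype ι] [Fintype κ] {f : ι → F[X]} {g : κ → F[X]}
    (h1 : IsDec φ f) (h2 : IsDec ψ g) (hf : ∀ i, IsPP (f i)) (hg : ∀ i, IsPP (g i))
    (h : ∀ (p : F[X]) (k : ℕ), p.Monic → Irreducible p → finrank F (LinearMap.ker (aeval φ (p ^ k))) = finrank F (LinearMap.ker (aeval ψ (p ^ k)))) :
    (Finset.univ : Finset ι).val.map f = (Finset.univ : Finset κ).val.map g := by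
  classical
  ext a
  by_cases ha : IsPP a
  · obtain ⟨p, k, hp, hpi, hk, rfl⟩ := ha
    have e1 := count_formula h1 hf hp hpi hk
    have e2 := count_formula h2 hg hp hpi hk
    rw [h _ _ hp hpi, h _ _ hp hpi, h _ _ hp hpi, ← e2] at e1
    have h3 : (p.natDegree : ℤ) ≠ 0 := by
      have := hpi.natDegree_pos
      exact_mod_cast this.ne'
    have h4 := mul_left_cancel₀ h3 e1
    exact_mod_cast h4
  · rw [Multiset.count_eq_zero_of_notMem, Multiset.count_eq_zero_of_notMem]
    · intro hmem
      obtain ⟨i, -, rfl⟩ := Multiset.mem_map.1 hmem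
      exact ha (hg i)
    · intro hmem
      obtain ⟨i, -, rfl⟩ := Multiset.mem_map.1 hmem
      exact ha (hf i)

/-- conjugate endomorphisms have the same elementary divisors -/
theorem multiset_eq_of_conj {V W : Type*} [AddCommGroup V] [Module F V] [AddCommGroup W] [Module F W]
    {φ : Module.End F V} {ψ : Module.End F W} {ι κ : Type*} [Fintype ι] [Fintype κ] {f : ι → F[X]} {g : κ → F[X]}
    (h1 : IsDec φ f) (h2 : IsDec ψ g) (hf : ∀ i, IsPP (f i)) (hg : ∀ i, IsPP (g i)) (e : V ≃ₗ[F] W) (he : ∀ v, e (φ v) = ψ (e v)) :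
    (Finset.univ : Finset ι).val.map f = (Finset.univ : Finset κ).val.map g := by
  have h3 := isDec_of_conj h2 e he
  exact multiset_eq_of_ker h1 h3 hf hg (fun _ _ _ _ => rfl)

end Cfsg.Agent.H8.RCF
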