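import Mathlib
import Cfsg.Agent.H8.RCF2

set_option autoImplicit false

namespace Cfsg.Agent.H8

open Polynomial Module RCF

variable {F : Type*} [Field F] [Finite F]

theorem natCast_ne_zero_of_coprime (p : ℕ) [Fact p.Prime] [CharP F p] {N : ℕ} (h : N.Coprime p) : (N : F) ≠ 0 := by
  intro h0
  rw [CharP.cast_eq_zero_iff F p] at h0
  have h1 := Nat.Coprime.eq_one_of_dvd h.symm h0
  exact (Fact.out : p.Prime).one_lt.ne' h1

/-- determinant is surjective on centralizers of semisimple elements -/
theorem exists_commuting_det (p : ℕ) [Fact p.Prime] [CharP F p] {n : ℕ} (hn : 1 ≤ n) (x : GL (Fin n) F)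
    (hx : (orderOf x).Coprime p) (d : Fˣ) : ∃ c : GL (Fin n) F, c * x = x * c ∧ Matrix.GeneralLinearGroup.det c = d := by
  classical
  have hA : ((x : Matrix (Fin n) (Fin n) F)) ^ (orderOf x) = 1 := by
    rw [← Units.val_pow_eq_pow_val, pow_orderOf_eq_one]; rfl
  obtain ⟨k, f, hdec, hirr⟩ := exists_isDec_of_pow_eq_one (x : Matrix (Fin n) (Fin n) F) (orderOf x)
    (natCast_ne_zero_of_coprime p hx) hA
  have hk : 0 < k := by
    by_contra h
    have hk0 : k = 0 := by omega
    subst hk0
    have := finrank_of_isDec hdec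
    rw [Module.finrank_fintype_fun_eq_card, Fintype.card_fin] at this
    simp at this
    omega
  let i0 : Fin k := ⟨0, hk⟩
  haveI : Fact (Irreducible (f i0)) := ⟨hirr i0⟩
  haveI : FiniteDimensional F (AdjoinRoot (f i0)) := (hdec.1 i0).finite_adjoinRoot
  haveI : Finite (AdjoinRoot (f i0)) := Module.finite_of_finite F
  obtain ⟨y, hy⟩ := FiniteField.norm_surjective F (AdjoinRoot (f i0)) (d : F)
  obtain ⟨C, hC, hdet⟩ := exists_commuting (x : Matrix (Fin n) (Fin n) F) hdec (Function.update (fun i => 1) i0 y)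
  have hprod : ∏ i, Algebra.norm F ((Function.update (fun i => (1 : AdjoinRoot (f i))) i0 y) i) = d := by
    rw [Finset.prod_eq_single i0]
    · rw [Function.update_self, hy]
    · intro j _ hj
      rw [Function.update_of_ne hj, map_one]
    · simp
  rw [hprod] at hdet
  have hu : IsUnit C := by
    rw [Matrix.isUnit_iff_isUnit_det, hdet]; exact d.isUnit
  refine ⟨hu.unit, ?_, ?_⟩
  · apply Units.ext; exact hC
  · apply Units.ext; exact hdet

/-- semisimple elements with equal characteristic polynomials are conjugate in `GL_n` -/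
theorem gl_conj_of_charpoly_eq (p : ℕ) [Fact p.Prime] [CharP F p] {n : ℕ} (x y : GL (Fin n) F)
    (hx : (orderOf x).Coprime p) (hy : (orderOf y).Coprime p)
    (h : (x : Matrix (Fin n) (Fin n) F).charpoly = (y : Matrix (Fin n) (Fin n) F).charpoly) : IsConj x y := by
  have hA : ∀ z : GL (Fin n) F, ((z : Matrix (Fin n) (Fin n) F)) ^ (orderOf z) = 1 := by
    intro z
    rw [← Units.val_pow_eq_pow_val, pow_orderOf_eq_one]; rfl
  obtain ⟨k, f, hdec, hirr⟩ := exists_isDec_of_pow_eq_one (x : Matrix (Fin n) (Fin n) F) (orderOf x)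
    (natCast_ne_zero_of_coprime p hx) (hA x)
  obtain ⟨l, g, hdec', hirr'⟩ := exists_isDec_of_pow_eq_one (y : Matrix (Fin n) (Fin n) F) (orderOf y)
    (natCast_ne_zero_of_coprime p hy) (hA y)
  have hcp : ∀ M : Matrix (Fin n) (Fin n) F, M.mulVecLin.charpoly = M.charpoly := by
    intro M
    rw [← Matrix.toLin'_apply', Matrix.charpoly_toLin']
  obtain ⟨e, he⟩ := conj_of_charpoly_eq hdec hdec' hirr hirr' (by rw [hcp, hcp, h])
  obtain ⟨P, hP⟩ := matrix_conj_of_equiv _ _ e he
  rw [isConj_iff]
  refine ⟨P, ?_⟩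
  rw [mul_inv_eq_iff_eq_mul]
  apply Units.ext
  exact hP

omit [Finite F] in
theorem charpoly_eq_of_gl_conj {n : ℕ} {x y : GL (Fin n) F} (h : IsConj x y) :
    (x : Matrix (Fin n) (Fin n) F).charpoly = (y : Matrix (Fin n) (Fin n) F).charpoly := by
  obtain ⟨c, rfl⟩ := isConj_iff.1 h
  rw [Units.val_mul, Units.val_mul, Matrix.coe_units_inv, Matrix.charpoly_units_conj]

omit [Finite F] in
theorem charpoly_eq_of_sl_conj {n : ℕ} {x y : Matrix.SpecialLinearGroup (Fin n) F} (h : IsConj x y) :
    (x : Matrix (Fin n) (Fin n) F).charpoly = (y : Matrix (Fin n) (Fin n) F).charpoly := by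
  have h1 := charpoly_eq_of_gl_conj (MonoidHom.map_isConj (Matrix.SpecialLinearGroup.toGL : Matrix.SpecialLinearGroup (Fin n) F →* GL (Fin n) F) h)
  have h2 : ∀ z : Matrix.SpecialLinearGroup (Fin n) F, ((Matrix.SpecialLinearGroup.toGL z : GL (Fin n) F) : Matrix (Fin n) (Fin n) F) = (z : Matrix (Fin n) (Fin n) F) := fun z => rfl
  rw [h2, h2] at h1
  exact h1

/-- conjugate in `GL_n` implies conjugate in `SL_n` for semisimple elements -/
theorem sl_conj_of_gl_conj (p : ℕ) [Fact p.Prime] [CharP F p] {n : ℕ} (x y : Matrix.SpecialLinearGroup (Fin n) F)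
    (hx : (orderOf x).Coprime p) (h : IsConj (Matrix.SpecialLinearGroup.toGL x) (Matrix.SpecialLinearGroup.toGL y)) :
    IsConj x y := by
  have hinj : Function.Injective (Matrix.SpecialLinearGroup.toGL : Matrix.SpecialLinearGroup (Fin n) F →* GL (Fin n) F) := by
    intro a b h
    apply Subtype.ext
    exact congrArg Units.val h
  rcases Nat.eq_zero_or_pos n with hn | hn
  · subst hn
    have : x = y := by
      apply Subtype.ext
      exact Subsingleton.elim _ _
    rw [this]
  · obtain ⟨g, hg⟩ := isConj_iff.1 h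
    obtain ⟨c, hc1, hc2⟩ := exists_commuting_det p hn (Matrix.SpecialLinearGroup.toGL x)
      (by rw [orderOf_injective _ hinj]; exact hx) (Matrix.GeneralLinearGroup.det g)⁻¹
    have hdet : ((g * c : GL (Fin n) F) : Matrix (Fin n) (Fin n) F).det = 1 := by
      have h1 : Matrix.GeneralLinearGroup.det (g * c) = 1 := by
        rw [map_mul, hc2, mul_inv_cancel]
      exact congrArg Units.val h1
    rw [isConj_iff]
    let s : Matrix.SpecialLinearGroup (Fin n) F := ⟨_, hdet⟩
    have h2 : Matrix.SpecialLinearGroup.toGL s = g * c := by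
      apply Units.ext; rfl
    refine ⟨s, hinj ?_⟩
    rw [map_mul, map_mul, map_inv, h2, ← hg, mul_assoc g c, hc1]
    group

/-- powers: root orders -/
theorem order_coprime_of_isDec (p : ℕ) [Fact p.Prime] [CharP F p] {n k : ℕ} (x : GL (Fin n) F) {f : Fin k → F[X]}
    (hdec : IsDec (x : Matrix (Fin n) (Fin n) F).mulVecLin f) (hirr : ∀ i, Irreducible (f i)) : (orderOf x).Coprime p := by
  classical
  have hp : p.Prime := Fact.out
  set A := (x : Matrix (Fin n) (Fin n) F) with hA
  -- x ^ (p * m) = 1 → x ^ m = 1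
  have key : ∀ m : ℕ, A ^ (m * p) = 1 → A ^ m = 1 := by
    intro m hm
    have hmv : ∀ k, A.mulVecLin ^ k = (A ^ k).mulVecLin := by
      intro k
      induction k with
      | zero => simp [Module.End.one_eq_id]
      | succ k ih => rw [pow_succ, pow_succ, Matrix.mulVecLin_mul, ih]; rfl
    have h1 : aeval A.mulVecLin (X ^ (m * p) - 1 : F[X]) = 0 := by
      rw [map_sub, map_pow, aeval_X, map_one, hmv, hm, Matrix.mulVecLin_one]
      exact sub_self _
    have h2 := (aeval_eq_zero_iff hdec _).1 h1
    have h3 : (X ^ (m * p) - 1 : F[X]) = (X ^ m - 1) ^ p := by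
      rw [sub_pow_char (p := p), one_pow, ← pow_mul]
    have h4 : aeval A.mulVecLin (X ^ m - 1 : F[X]) = 0 := by
      rw [aeval_eq_zero_iff hdec]
      intro i
      have := h2 i
      rw [h3] at this
      exact (hirr i).prime.dvd_of_dvd_pow this
    rw [map_sub, map_pow, aeval_X, map_one, hmv, sub_eq_zero] at h4
    ext i j
    have h5 := congrFun (LinearMap.congr_fun h4 (Pi.single j 1)) i
    simpa [Matrix.one_apply, Pi.single_apply, eq_comm] using h5
  rw [Nat.coprime_comm, hp.coprime_iff_not_dvd]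
  rintro ⟨m, hm⟩
  have h1 : A ^ (m * p) = 1 := by
    rw [mul_comm, ← hm, hA, ← Units.val_pow_eq_pow_val, pow_orderOf_eq_one]; rfl
  have h2 := key m h1
  have h3 : x ^ m = 1 := by
    apply Units.ext
    rw [Units.val_pow_eq_pow_val]; exact h2
  have h4 := orderOf_dvd_of_pow_eq_one h3
  have h5 := orderOf_pos x
  have hm0 : 0 < m := by
    rcases Nat.eq_zero_or_pos m with h | h
    · rw [h, mul_zero] at hm; omega
    · exact h
  have h6 := Nat.le_of_dvd hm0 h4
  rw [hm] at h6
  have := hp.two_le
  nlinarith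

/-- every monic polynomial with nonzero constant term is the characteristic polynomial of a semisimple element -/
theorem exists_semisimple (p : ℕ) [Fact p.Prime] [CharP F p] {n : ℕ} (g : F[X]) (hg : g.Monic) (hdeg : g.natDegree = n)
    (h0 : g.coeff 0 ≠ 0) : ∃ x : GL (Fin n) F, (orderOf x).Coprime p ∧ (x : Matrix (Fin n) (Fin n) F).charpoly = g := by
  classical
  set S := UniqueFactorizationMonoid.normalizedFactors g with hS
  have hprod : S.prod = g := by
    rw [hS, UniqueFactorizationMonoid.prod_normalizedFactors_eq hg.ne_zero, hg.normalize_eq_self]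
  have hSm : ∀ q ∈ S, q.Monic ∧ Irreducible q := by
    intro q hq
    have h1 := UniqueFactorizationMonoid.irreducible_of_normalized_factor q hq
    have h2 := UniqueFactorizationMonoid.normalize_normalized_factor q hq
    refine ⟨?_, h1⟩
    rw [← h2]
    exact Polynomial.monic_normalize h1.ne_zero
  let f : Fin S.toList.length → F[X] := fun i => S.toList.get i
  have hfm : ∀ i, (f i).Monic := fun i => (hSm _ (Multiset.mem_toList.1 (List.get_mem _ _))).1
  have hfi : ∀ i, Irreducible (f i) := fun i => (hSm _ (Multiset.mem_toList.1 (List.get_mem _ _))).2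
  have hfprod : ∏ i, f i = g := by
    have h1 : (List.ofFn f).prod = ∏ i, f i := List.prod_ofFn
    rw [← h1, List.ofFn_get, Multiset.prod_toList, hprod]
  have hfsum : ∑ i, (f i).natDegree = n := by
    rw [← hdeg, ← hfprod, Polynomial.natDegree_prod_of_monic _ _ (fun i _ => hfm i)]
  obtain ⟨A, hA⟩ := exists_of_type f hfm hfsum
  have hcp : A.charpoly = g := by
    rw [← Matrix.charpoly_toLin', Matrix.toLin'_apply', charpoly_of_isDec hA, hfprod]
  have hdet : IsUnit A := by
    rw [Matrix.isUnit_iff_isUnit_det, isUnit_iff_ne_zero, Matrix.det_eq_sign_charpoly_coeff, hcp]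
    exact mul_ne_zero (pow_ne_zero _ (neg_ne_zero.2 one_ne_zero)) h0
  exact ⟨hdet.unit, order_coprime_of_isDec p hdet.unit hA hfi, hcp⟩

end Cfsg.Agent.H8
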