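import Mathlib
import Cfsg.Agent.H8.RCF3
import Cfsg.Agent.H8.SemiSimple

set_option autoImplicit false

namespace Cfsg.Agent.H8

open Polynomial Module RCF

variable {F : Type*} [Field F]

theorem gl_conj_of_multiset {n : ℕ} {x y : GL (Fin n) F} {ι κ : Type*} [Fintype ι] [Fintype κ] {f : ι → F[X]} {g : κ → F[X]}
    (h1 : IsDec (x : Matrix (Fin n) (Fin n) F).mulVecLin f) (h2 : IsDec (y : Matrix (Fin n) (Fin n) F).mulVecLin g)
    (h : (Finset.univ : Finset ι).val.map f = (Finset.univ : Finset κ).val.map g) : IsConj x y := by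
  obtain ⟨e, he⟩ := conj_of_multiset h1 h2 h
  obtain ⟨P, hP⟩ := matrix_conj_of_equiv _ _ e he
  rw [isConj_iff]
  refine ⟨P, ?_⟩
  rw [mul_inv_eq_iff_eq_mul]
  apply Units.ext
  exact hP

theorem multiset_eq_of_gl_conj {n : ℕ} {x y : GL (Fin n) F} {ι κ : Type*} [Fintype ι] [Fintype κ] {f : ι → F[X]} {g : κ → F[X]}
    (h1 : IsDec (x : Matrix (Fin n) (Fin n) F).mulVecLin f) (h2 : IsDec (y : Matrix (Fin n) (Fin n) F).mulVecLin g)
    (hf : ∀ i, IsPP (f i)) (hg : ∀ i, IsPP (g i)) (h : IsConj x y) :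
    (Finset.univ : Finset ι).val.map f = (Finset.univ : Finset κ).val.map g := by
  obtain ⟨c, hc⟩ := isConj_iff.1 h
  have hc' : c * x = y * c := by rw [← hc]; group
  have hc1 : ((c⁻¹ : GL (Fin n) F) : Matrix (Fin n) (Fin n) F) * (c : Matrix (Fin n) (Fin n) F) = 1 := by
    rw [← Units.val_mul, inv_mul_cancel, Units.val_one]
  have hc2 : (c : Matrix (Fin n) (Fin n) F) * ((c⁻¹ : GL (Fin n) F) : Matrix (Fin n) (Fin n) F) = 1 := by
    rw [← Units.val_mul, mul_inv_cancel, Units.val_one]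
  let e : (Fin n → F) ≃ₗ[F] (Fin n → F) :=
    LinearEquiv.ofLinear (c : Matrix (Fin n) (Fin n) F).mulVecLin ((c⁻¹ : GL (Fin n) F) : Matrix (Fin n) (Fin n) F).mulVecLin
      (by rw [← Matrix.mulVecLin_mul, hc2, Matrix.mulVecLin_one]) (by rw [← Matrix.mulVecLin_mul, hc1, Matrix.mulVecLin_one])
  apply multiset_eq_of_conj h1 h2 hf hg e
  intro v
  show (c : Matrix (Fin n) (Fin n) F).mulVec ((x : Matrix (Fin n) (Fin n) F).mulVec v) = (y : Matrix (Fin n) (Fin n) F).mulVec ((c : Matrix (Fin n) (Fin n) F).mulVec v)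
  rw [Matrix.mulVec_mulVec, Matrix.mulVec_mulVec, ← Units.val_mul, hc', Units.val_mul]

theorem mulVecLin_pow {n : ℕ} (A : Matrix (Fin n) (Fin n) F) (k : ℕ) : A.mulVecLin ^ k = (A ^ k).mulVecLin := by
  induction k with
  | zero => simp [Module.End.one_eq_id]
  | succ k ih => rw [pow_succ, pow_succ, Matrix.mulVecLin_mul, ih]; rfl

theorem aeval_X_sub_one_pow {n : ℕ} (A : Matrix (Fin n) (Fin n) F) (k : ℕ) :
    aeval A.mulVecLin ((X - 1) ^ k : F[X]) = ((A - 1) ^ k).mulVecLin := by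
  rw [map_pow, map_sub, aeval_X, map_one, ← mulVecLin_pow]
  congr 1
  rw [Module.End.one_eq_id]
  apply LinearMap.ext
  intro v
  simp [Matrix.sub_mulVec]

theorem X_sub_one_monic : (X - 1 : F[X]).Monic := by
  have := monic_X_sub_C (1 : F)
  rwa [map_one] at this

theorem X_sub_one_irr : Irreducible (X - 1 : F[X]) := by
  have := irreducible_X_sub_C (1 : F)
  rwa [map_one] at this

theorem X_sub_one_natDegree : (X - 1 : F[X]).natDegree = 1 := by
  have := natDegree_X_sub_C (1 : F)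
  rwa [map_one] at this

theorem mulVecLin_eq_zero {n : ℕ} {A : Matrix (Fin n) (Fin n) F} : A.mulVecLin = 0 ↔ A = 0 := by
  constructor
  · intro h
    rw [← Matrix.toLin'_apply'] at h
    exact (LinearEquiv.map_eq_zero_iff (Matrix.toLin' (R := F) (m := Fin n) (n := Fin n))).1 h
  · rintro rfl; simp

/-- elementary divisors of a unipotent matrix -/
theorem unip_type {n N : ℕ} {A : Matrix (Fin n) (Fin n) F} (hA : (A - 1) ^ N = 0) {ι : Type*} [Fintype ι] {f : ι → F[X]}
    (h : IsDec A.mulVecLin f) (hf : ∀ i, IsPP (f i)) (i : ι) : ∃ e, 1 ≤ e ∧ e ≤ N ∧ f i = (X - 1) ^ e := by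
  have h1 : aeval A.mulVecLin ((X - 1) ^ N : F[X]) = 0 := by
    rw [aeval_X_sub_one_pow, hA, Matrix.mulVecLin_zero]
  have h2 := (aeval_eq_zero_iff h _).1 h1 i
  obtain ⟨p, e, hp, hpi, he, hfi⟩ := hf i
  have h3 : p ∣ (X - 1) ^ N := (dvd_pow_self p (by omega : e ≠ 0)).trans (by rw [← hfi]; exact h2)
  have h4 := eq_of_dvd_irr hp X_sub_one_monic hpi X_sub_one_irr (hpi.prime.dvd_of_dvd_pow h3)
  subst h4
  refine ⟨e, he, ?_, hfi⟩
  rw [hfi] at h2
  have h5 := natDegree_le_of_dvd h2 (pow_ne_zero _ X_sub_one_irr.ne_zero)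
  rw [natDegree_pow, natDegree_pow, X_sub_one_natDegree] at h5
  omega

theorem gl_conj_of_unip_ranks {n N : ℕ} (x y : GL (Fin n) F)
    (hx : ((x : Matrix (Fin n) (Fin n) F) - 1) ^ N = 0) (hy : ((y : Matrix (Fin n) (Fin n) F) - 1) ^ N = 0)
    (h : ∀ k, (((x : Matrix (Fin n) (Fin n) F) - 1) ^ k).rank = (((y : Matrix (Fin n) (Fin n) F) - 1) ^ k).rank) : IsConj x y := by
  obtain ⟨k, f, hdf, hf⟩ := exists_isDec (x : Matrix (Fin n) (Fin n) F).mulVecLin
  obtain ⟨l, g, hdg, hg⟩ := exists_isDec (y : Matrix (Fin n) (Fin n) F).mulVecLin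
  apply gl_conj_of_multiset hdf hdg
  apply multiset_eq_of_ker hdf hdg hf hg
  intro p m hp hpi
  by_cases hpX : p = X - 1
  · subst hpX
    rw [aeval_X_sub_one_pow, aeval_X_sub_one_pow]
    have e1 := LinearMap.finrank_range_add_finrank_ker ((((x : Matrix (Fin n) (Fin n) F) - 1) ^ m).mulVecLin)
    have e2 := LinearMap.finrank_range_add_finrank_ker ((((y : Matrix (Fin n) (Fin n) F) - 1) ^ m).mulVecLin)
    have e3 := h m
    rw [Matrix.rank, Matrix.rank] at e3
    omega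
  · have hz : ∀ (A : Matrix (Fin n) (Fin n) F), (A - 1) ^ N = 0 → finrank F (LinearMap.ker (aeval A.mulVecLin (p ^ m))) = 0 := by
      intro A hA
      have hco : IsCoprime (p ^ m) ((X - 1) ^ N) := by
        apply IsCoprime.pow
        rw [hpi.coprime_iff_not_dvd]
        intro h
        exact hpX (eq_of_dvd_irr hp X_sub_one_monic hpi X_sub_one_irr h)
      obtain ⟨a, b, hab⟩ := hco
      have hker : LinearMap.ker (aeval A.mulVecLin (p ^ m)) = ⊥ := by
        rw [LinearMap.ker_eq_bot']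
        intro v hv
        have h1 := LinearMap.congr_fun (congrArg (aeval A.mulVecLin) hab) v
        rw [map_add, map_mul, map_mul, aeval_X_sub_one_pow, hA, Matrix.mulVecLin_zero, mul_zero, add_zero, Module.End.mul_apply, hv, map_zero, map_one] at h1
        exact h1.symm
      rw [hker, finrank_bot]
    rw [hz _ hx, hz _ hy]

end Cfsg.Agent.H8
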