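import Mathlib
import Cfsg.Agent.H8.SL2c
import Cfsg.Agent.H8.Disc

set_option autoImplicit false

namespace Cfsg.Agent.H8.SL2

open Matrix Polynomial

variable {F : Type*} [Field F]

theorem ns_of_trace_two (g : SpecialLinearGroup (Fin 2) F) (h1 : g ≠ 1) (h2 : g.1.trace = 2) : NS g.1 := by
  rw [ns_iff']
  rintro (h | h)
  · exact h1 h
  · apply h1
    rw [h] at h2
    have h3 : (-1 : SpecialLinearGroup (Fin 2) F).1.trace = -2 := by
      show (-1 : Matrix (Fin 2) (Fin 2) F).trace = -2
      rw [Matrix.trace_neg, Matrix.trace_one]; simp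
    rw [h3] at h2
    rw [h]
    apply Subtype.ext
    show (-1 : Matrix (Fin 2) (Fin 2) F) = 1
    have h4 : (2 : F) * 2 = 0 := by linear_combination -h2
    have h5 : (2 : F) = 0 := by
      rcases mul_eq_zero.1 h4 with h | h <;> exact h
    have h6 : (-1 : F) = 1 := by linear_combination -h5
    ext i j
    rw [Matrix.neg_apply, Matrix.one_apply]
    split_ifs
    · exact h6
    · simp

theorem u_ne_one {b : F} (hb : b ≠ 0) : u b ≠ 1 := by
  intro h
  have := congrFun (congrFun (congrArg Subtype.val h) 0) 1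
  rw [u_val] at this
  simp at this
  exact hb this

theorem u_trace (b : F) : (u b).1.trace = 2 := by
  rw [u_val, Matrix.trace_fin_two]; simp; norm_num

/-- trace of a class -/
noncomputable def trC (C : ConjClasses (SpecialLinearGroup (Fin 2) F)) : F :=
  Quotient.liftOn' C (fun g => g.1.trace) (fun _ _ h => trace_conj h)

theorem trC_mk (g : SpecialLinearGroup (Fin 2) F) : trC (ConjClasses.mk g) = g.1.trace := rfl

theorem trace_one_SL : (1 : SpecialLinearGroup (Fin 2) F).1.trace = 2 := by
  show (1 : Matrix (Fin 2) (Fin 2) F).trace = 2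
  rw [Matrix.trace_one]; simp

theorem trace_neg_SL (g : SpecialLinearGroup (Fin 2) F) : (-g).1.trace = - g.1.trace := by
  show (-g.1).trace = _
  rw [Matrix.trace_neg]

/-- the three classes of trace 2 in odd characteristic -/
theorem class_trace_two [Finite F] (h2 : ringChar F ≠ 2) : ∃ ν : F, ν ≠ 0 ∧ ¬ IsSquare ν ∧
    (∀ g : SpecialLinearGroup (Fin 2) F, g.1.trace = 2 → g = 1 ∨ IsConj g (u 1) ∨ IsConj g (u ν)) ∧ ¬ IsConj (u 1) (u ν) := by
  classical
  haveI := Fintype.ofFinite F
  obtain ⟨ν, hν⟩ := FiniteField.exists_nonsquare (F := F) h2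
  have hν0 : ν ≠ 0 := by rintro rfl; exact hν ⟨0, by simp⟩
  refine ⟨ν, hν0, hν, ?_, ?_⟩
  · intro g hg
    by_cases h1 : g = 1
    · left; exact h1
    · right
      obtain ⟨b, hb, hgb⟩ := conj_u g (ns_of_trace_two g h1 hg) hg
      by_cases hbs : IsSquare b
      · left
        exact hgb.trans ((u_conj_iff b 1 hb one_ne_zero).2 (by rwa [mul_one]))
      · right
        exact hgb.trans ((u_conj_iff b ν hb hν0).2 ((not_isSquare_mul hb hν).2 hbs))
  · rw [u_conj_iff 1 ν one_ne_zero hν0, one_mul]; exact hν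

theorem neg_conj {g h : SpecialLinearGroup (Fin 2) F} (H : IsConj g h) : IsConj (-g) (-h) := by
  obtain ⟨c, rfl⟩ := isConj_iff.1 H
  rw [isConj_iff]
  exact ⟨c, by rw [mul_neg, neg_mul]⟩

theorem card_fiber_two [Finite F] (h2 : ringChar F ≠ 2) : Nat.card {C : ConjClasses (SpecialLinearGroup (Fin 2) F) // trC C = 2} = 3 := by
  classical
  obtain ⟨ν, hν0, hν, hcl, hne⟩ := class_trace_two (F := F) h2
  have e : {C : ConjClasses (SpecialLinearGroup (Fin 2) F) // trC C = 2} ≃ ({ConjClasses.mk 1, ConjClasses.mk (u 1), ConjClasses.mk (u ν)} : Finset (ConjClasses (SpecialLinearGroup (Fin 2) F))) := by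
    refine Equiv.subtypeEquivRight ?_
    intro C
    obtain ⟨g, rfl⟩ := ConjClasses.exists_rep C
    rw [Finset.mem_insert, Finset.mem_insert, Finset.mem_singleton, ConjClasses.mk_eq_mk_iff_isConj, ConjClasses.mk_eq_mk_iff_isConj, ConjClasses.mk_eq_mk_iff_isConj]
    show g.1.trace = 2 ↔ _
    constructor
    · intro h
      rcases hcl g h with h | h | h
      · left; rw [h]
      · right; left; exact h
      · right; right; exact h
    · rintro (h | h | h)
      · rw [trace_conj h, trace_one_SL]
      · rw [trace_conj h, u_trace]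
      · rw [trace_conj h, u_trace]
  have hn1 : ∀ b : F, b ≠ 0 → ¬ IsConj 1 (u b) := by
    intro b hb h
    rw [isConj_one_right] at h
    exact u_ne_one hb h
  rw [Nat.card_congr e, Nat.card_eq_fintype_card, Fintype.card_coe, Finset.card_insert_of_notMem, Finset.card_insert_of_notMem, Finset.card_singleton]
  · rw [Finset.mem_singleton, ConjClasses.mk_eq_mk_iff_isConj]; exact hne
  · rw [Finset.mem_insert, Finset.mem_singleton, ConjClasses.mk_eq_mk_iff_isConj, ConjClasses.mk_eq_mk_iff_isConj]
    rintro (h | h)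
    · exact hn1 1 one_ne_zero h
    · exact hn1 ν hν0 h

theorem card_fiber_neg (t : F) : Nat.card {C : ConjClasses (SpecialLinearGroup (Fin 2) F) // trC C = t} =
    Nat.card {C : ConjClasses (SpecialLinearGroup (Fin 2) F) // trC C = -t} := by
  let nC : ConjClasses (SpecialLinearGroup (Fin 2) F) → ConjClasses (SpecialLinearGroup (Fin 2) F) :=
    fun C => Quotient.liftOn' C (fun g => ConjClasses.mk (-g)) (fun a b h => by
      show ConjClasses.mk (-a) = ConjClasses.mk (-b)
      rw [ConjClasses.mk_eq_mk_iff_isConj]; exact neg_conj h)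
  have hnC : ∀ g, nC (ConjClasses.mk g) = ConjClasses.mk (-g) := fun g => rfl
  have hinv : ∀ C, nC (nC C) = C := by
    intro C
    obtain ⟨g, rfl⟩ := ConjClasses.exists_rep C
    rw [hnC, hnC, neg_neg]
  have htr : ∀ C, trC (nC C) = - trC C := by
    intro C
    obtain ⟨g, rfl⟩ := ConjClasses.exists_rep C
    rw [hnC, trC_mk, trC_mk, trace_neg_SL]
  apply Nat.card_congr
  refine ⟨fun C => ⟨nC C.1, by rw [htr, C.2]⟩, fun C => ⟨nC C.1, by rw [htr, C.2, neg_neg]⟩, ?_, ?_⟩
  · intro C; apply Subtype.ext; exact hinv _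
  · intro C; apply Subtype.ext; exact hinv _

theorem exists_trace (t : F) : ∃ g : SpecialLinearGroup (Fin 2) F, NS g.1 ∧ g.1.trace = t := by
  refine ⟨mkSL !![0, -1; 1, t] (by simp), ?_, ?_⟩
  · right; left; rw [mkSL_val]; simp
  · rw [mkSL_val, Matrix.trace_fin_two]; simp

theorem card_fiber_other [Finite F] (t : F) (ht : t ^ 2 ≠ 4) : Nat.card {C : ConjClasses (SpecialLinearGroup (Fin 2) F) // trC C = t} = 1 := by
  rw [Nat.card_eq_one_iff_unique]
  have hns : ∀ g : SpecialLinearGroup (Fin 2) F, g.1.trace = t → NS g.1 := by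
    intro g hg
    rw [ns_iff']
    rintro (rfl | rfl)
    · rw [trace_one_SL] at hg; apply ht; rw [← hg]; norm_num
    · rw [trace_neg_SL, trace_one_SL] at hg; apply ht; rw [← hg]; norm_num
  constructor
  · constructor
    rintro ⟨C, hC⟩ ⟨D, hD⟩
    apply Subtype.ext
    obtain ⟨g, rfl⟩ := ConjClasses.exists_rep C
    obtain ⟨h, rfl⟩ := ConjClasses.exists_rep D
    show ConjClasses.mk g = ConjClasses.mk h
    rw [ConjClasses.mk_eq_mk_iff_isConj]
    rw [trC_mk] at hC hD
    exact sl_conj g h (hns g hC) (hns h hD) (by rw [hC, hD]) (Or.inl (by rw [hC]; exact ht))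
  · obtain ⟨g, -, hg⟩ := exists_trace t
    exact ⟨⟨ConjClasses.mk g, hg⟩⟩

theorem card_classes_odd [Finite F] (h2 : ringChar F ≠ 2) : Nat.card (ConjClasses (SpecialLinearGroup (Fin 2) F)) = Nat.card F + 4 := by
  classical
  haveI := Fintype.ofFinite F
  rw [← Nat.card_congr (Equiv.sigmaFiberEquiv (trC (F := F))), Nat.card_sigma]
  have h2' : (2 : F) ≠ 0 := Ring.two_ne_zero h2
  have h22 : (2 : F) ≠ -2 := by
    intro h
    have : (2 : F) * 2 = 0 := by linear_combination h
    rcases mul_eq_zero.1 this with h | h <;> exact h2' h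
  have hf : ∀ t : F, Nat.card {C : ConjClasses (SpecialLinearGroup (Fin 2) F) // trC C = t} = 1 + (if t = 2 then 2 else 0) + (if t = -2 then 2 else 0) := by
    intro t
    by_cases h1 : t = 2
    · rw [h1, card_fiber_two h2, if_pos rfl, if_neg h22]
    · by_cases h3 : t = -2
      · rw [h3, card_fiber_neg, neg_neg, card_fiber_two h2, if_neg (Ne.symm h22), if_pos rfl]
      · rw [if_neg h1, if_neg h3, card_fiber_other]
        intro h4
        have : (t - 2) * (t + 2) = 0 := by linear_combination h4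
        rcases mul_eq_zero.1 this with h | h
        · exact h1 (sub_eq_zero.1 h)
        · exact h3 (eq_neg_of_add_eq_zero_left h)
  rw [Finset.sum_congr rfl (fun t _ => hf t), Finset.sum_add_distrib, Finset.sum_add_distrib]
  simp

theorem charTwo_neg (h2 : ringChar F = 2) (g : SpecialLinearGroup (Fin 2) F) : -g = g := by
  haveI : CharP F 2 := by rw [← h2]; exact ringChar.charP F
  apply Subtype.ext
  show -g.1 = g.1
  ext i j
  rw [Matrix.neg_apply, CharTwo.neg_eq]

/-- PSL_2 facts -/
theorem comm_psl_iff (g h : SpecialLinearGroup (Fin 2) F) :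
    (QuotientGroup.mk h : ProjectiveSpecialLinearGroup (Fin 2) F) * QuotientGroup.mk g = QuotientGroup.mk g * QuotientGroup.mk h ↔
      (h * g * h⁻¹ = g ∨ h * g * h⁻¹ = -g) := by
  have h1 : (QuotientGroup.mk h : ProjectiveSpecialLinearGroup (Fin 2) F) * QuotientGroup.mk g = QuotientGroup.mk g * QuotientGroup.mk h ↔
      (QuotientGroup.mk (h * g * h⁻¹) : ProjectiveSpecialLinearGroup (Fin 2) F) = QuotientGroup.mk g := by
    constructor
    · intro H
      show (QuotientGroup.mk h : ProjectiveSpecialLinearGroup (Fin 2) F) * QuotientGroup.mk g * (QuotientGroup.mk h)⁻¹ = _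
      rw [H, mul_inv_cancel_right]
    · intro H
      have H' : (QuotientGroup.mk h : ProjectiveSpecialLinearGroup (Fin 2) F) * QuotientGroup.mk g * (QuotientGroup.mk h)⁻¹ = QuotientGroup.mk g := H
      rw [mul_inv_eq_iff_eq_mul] at H'
      exact H'
  rw [h1, QuotientGroup.eq, center_iff]
  generalize h * g * h⁻¹ = k
  constructor
  · rintro (H | H)
    · left; exact (inv_mul_eq_one.1 H)
    · right
      have h2 : g = k * -1 := by rw [← H]; group
      rw [mul_neg, mul_one] at h2
      rw [h2, neg_neg]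
  · rintro (H | H)
    · left; rw [H]; group
    · right; rw [H]
      have : (-g)⁻¹ = -g⁻¹ := by
        rw [inv_eq_iff_mul_eq_one, neg_mul_neg, mul_inv_cancel]
      rw [this]
      simp

end Cfsg.Agent.H8.SL2
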