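import Mathlib
import Cfsg.Agent.H8.SL2d

set_option autoImplicit false

namespace Cfsg.Agent.H8.SL2

open Matrix Polynomial

variable {F : Type*} [Field F]

abbrev pr : SpecialLinearGroup (Fin 2) F →* ProjectiveSpecialLinearGroup (Fin 2) F := QuotientGroup.mk' _

theorem pr_surj : Function.Surjective (pr (F := F)) := QuotientGroup.mk'_surjective _

theorem pr_eq_one (g : SpecialLinearGroup (Fin 2) F) : pr g = 1 ↔ (g = 1 ∨ g = -1) := by
  rw [← center_iff]
  exact QuotientGroup.eq_one_iff g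

theorem card_center [Finite F] : Nat.card (Subgroup.center (SpecialLinearGroup (Fin 2) F)) = if ringChar F = 2 then 1 else 2 := by
  classical
  have e : Subgroup.center (SpecialLinearGroup (Fin 2) F) ≃ ({1, -1} : Finset (SpecialLinearGroup (Fin 2) F)) := by
    refine Equiv.subtypeEquivRight ?_
    intro g
    rw [center_iff, Finset.mem_insert, Finset.mem_singleton]
  rw [Nat.card_congr e, Nat.card_eq_fintype_card, Fintype.card_coe]
  by_cases h2 : ringChar F = 2
  · rw [if_pos h2, charTwo_neg h2]; simp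
  · rw [if_neg h2, Finset.card_pair]
    intro h
    have h1 := trace_one_SL (F := F)
    have h3 := trace_neg_SL (1 : SpecialLinearGroup (Fin 2) F)
    rw [← h, h1] at h3
    have h2' : (2 : F) ≠ 0 := Ring.two_ne_zero h2
    have : (2 : F) * 2 = 0 := by linear_combination h3
    rcases mul_eq_zero.1 this with h | h <;> exact h2' h

/-- index of centralizers in `PSL_2` -/
theorem index_cent_psl [Finite F] (g : SpecialLinearGroup (Fin 2) F) :
    (Subgroup.centralizer ({pr g} : Set (ProjectiveSpecialLinearGroup (Fin 2) F))).index *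
      Nat.card {h : SpecialLinearGroup (Fin 2) F // h * g * h⁻¹ = g ∨ h * g * h⁻¹ = -g} = Nat.card F * (Nat.card F ^ 2 - 1) := by
  have h1 : ((Subgroup.centralizer ({pr g} : Set (ProjectiveSpecialLinearGroup (Fin 2) F))).comap pr : Set (SpecialLinearGroup (Fin 2) F)) = {h | h * g * h⁻¹ = g ∨ h * g * h⁻¹ = -g} := by
    ext h
    rw [SetLike.mem_coe, Subgroup.mem_comap, Subgroup.mem_centralizer_singleton_iff]
    exact comm_psl_iff g h
  have h2 : Nat.card ((Subgroup.centralizer ({pr g} : Set (ProjectiveSpecialLinearGroup (Fin 2) F))).comap pr) = Nat.card {h : SpecialLinearGroup (Fin 2) F // h * g * h⁻¹ = g ∨ h * g * h⁻¹ = -g} := by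
    apply Nat.card_congr
    exact Equiv.setCongr h1
  rw [← h2, ← Subgroup.index_comap_of_surjective _ (pr_surj (F := F)), Subgroup.index_mul_card, card_SL2]

theorem card_pm_of_trace_ne [Finite F] (g : SpecialLinearGroup (Fin 2) F) (h : ringChar F = 2 ∨ g.1.trace ≠ 0) :
    Nat.card {h : SpecialLinearGroup (Fin 2) F // h * g * h⁻¹ = g ∨ h * g * h⁻¹ = -g} = Nat.card (Subgroup.centralizer ({g} : Set (SpecialLinearGroup (Fin 2) F))) := by
  apply Nat.card_congr
  refine Equiv.subtypeEquivRight ?_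
  intro x
  rw [Subgroup.mem_centralizer_singleton_iff]
  have e : x * g * x⁻¹ = g ↔ x * g = g * x := mul_inv_eq_iff_eq_mul
  rw [← e]
  constructor
  · rintro (H | H)
    · exact H
    · by_cases h2 : ringChar F = 2
      · rw [H, charTwo_neg h2]
      · exfalso
        have h3 := trace_conj (isConj_iff.2 ⟨x, H⟩)
        rw [trace_neg_SL] at h3
        have h4 := h.resolve_left h2
        apply h4
        have h2' : (2 : F) ≠ 0 := Ring.two_ne_zero h2
        have : 2 * g.1.trace = 0 := by linear_combination h3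
        exact (mul_eq_zero.1 this).resolve_left h2'
  · intro H; left; exact H

theorem ns_of_trace [Finite F] (g : SpecialLinearGroup (Fin 2) F) (h : g.1.trace ^ 2 ≠ 4) : NS g.1 := by
  rw [ns_iff']
  rintro (rfl | rfl)
  · rw [trace_one_SL] at h; apply h; norm_num
  · rw [trace_neg_SL, trace_one_SL] at h; apply h; norm_num

theorem card_pm_of_trace_zero [Finite F] (g : SpecialLinearGroup (Fin 2) F) (h2 : ringChar F ≠ 2) (h : g.1.trace = 0) :
    Nat.card {h : SpecialLinearGroup (Fin 2) F // h * g * h⁻¹ = g ∨ h * g * h⁻¹ = -g} = 2 * Nat.card (Subgroup.centralizer ({g} : Set (SpecialLinearGroup (Fin 2) F))) := by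
  have h2' : (2 : F) ≠ 0 := Ring.two_ne_zero h2
  have h4 : (4 : F) ≠ 0 := by
    have : (4 : F) = 2 * 2 := by norm_num
    rw [this]; exact mul_ne_zero h2' h2'
  have ht : g.1.trace ^ 2 ≠ 4 := by rw [h]; intro h3; apply h4; rw [← h3]; ring
  have ht' : (-g).1.trace ^ 2 ≠ 4 := by rw [trace_neg_SL, h]; intro h3; apply h4; rw [← h3]; ring
  have hgn := ns_of_trace g ht
  have hgn' := ns_of_trace (-g) ht'
  obtain ⟨c, hc⟩ := isConj_iff.1 (sl_conj g (-g) hgn hgn' (by rw [trace_neg_SL, h, neg_zero]) (Or.inl ht))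
  have hne : g ≠ -g := by
    intro H
    have h3 : g.1 = -g.1 := congrArg Subtype.val H
    rcases hgn with h5 | h5 | h5
    · have := congrFun (congrFun h3 0) 1
      rw [Matrix.neg_apply] at this
      have h6 : 2 * g.1 0 1 = 0 := by linear_combination this
      exact h5 ((mul_eq_zero.1 h6).resolve_left h2')
    · have := congrFun (congrFun h3 1) 0
      rw [Matrix.neg_apply] at this
      have h6 : 2 * g.1 1 0 = 0 := by linear_combination this
      exact h5 ((mul_eq_zero.1 h6).resolve_left h2')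
    · have e1 := congrFun (congrFun h3 0) 0
      have e2 := congrFun (congrFun h3 1) 1
      rw [Matrix.neg_apply] at e1 e2
      have h6 : 2 * (g.1 0 0) = 0 := by linear_combination e1
      have h7 : 2 * (g.1 1 1) = 0 := by linear_combination e2
      apply h5
      rw [(mul_eq_zero.1 h6).resolve_left h2', (mul_eq_zero.1 h7).resolve_left h2']
  have e : {h : SpecialLinearGroup (Fin 2) F // h * g * h⁻¹ = g ∨ h * g * h⁻¹ = -g} ≃
      (Subgroup.centralizer ({g} : Set (SpecialLinearGroup (Fin 2) F))) ⊕ (Subgroup.centralizer ({g} : Set (SpecialLinearGroup (Fin 2) F))) := by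
    classical
    have hA : ∀ x : (Subgroup.centralizer ({g} : Set (SpecialLinearGroup (Fin 2) F))), x.1 * g * x.1⁻¹ = g :=
      fun x => mul_inv_eq_iff_eq_mul.2 (Subgroup.mem_centralizer_singleton_iff.1 x.2)
    have hB : ∀ x : (Subgroup.centralizer ({g} : Set (SpecialLinearGroup (Fin 2) F))), (c * x.1) * g * (c * x.1)⁻¹ = -g := by
      intro x
      rw [← hc]
      have : c * x.1 * g * (c * x.1)⁻¹ = c * (x.1 * g * x.1⁻¹) * c⁻¹ := by group
      rw [this, hA]
    let φ : (Subgroup.centralizer ({g} : Set (SpecialLinearGroup (Fin 2) F))) ⊕ (Subgroup.centralizer ({g} : Set (SpecialLinearGroup (Fin 2) F))) →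
        {h : SpecialLinearGroup (Fin 2) F // h * g * h⁻¹ = g ∨ h * g * h⁻¹ = -g} :=
      Sum.elim (fun x => ⟨x.1, Or.inl (hA x)⟩) (fun x => ⟨c * x.1, Or.inr (hB x)⟩)
    refine (Equiv.ofBijective φ ⟨?_, ?_⟩).symm
    · have hmix : ∀ x y : (Subgroup.centralizer ({g} : Set (SpecialLinearGroup (Fin 2) F))), x.1 ≠ c * y.1 := by
        intro x y H
        have h3 : x.1 * g * x.1⁻¹ = g := mul_inv_eq_iff_eq_mul.2 (Subgroup.mem_centralizer_singleton_iff.1 x.2)
        have h4 : y.1 * g * y.1⁻¹ = g := mul_inv_eq_iff_eq_mul.2 (Subgroup.mem_centralizer_singleton_iff.1 y.2)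
        apply hne
        rw [← hc]
        conv_lhs => rw [← h3]
        rw [H]
        have : c * y.1 * g * (c * y.1)⁻¹ = c * (y.1 * g * y.1⁻¹) * c⁻¹ := by group
        rw [this, h4]
      rintro (x | x) (y | y) H
      · have := congrArg Subtype.val H
        exact congrArg Sum.inl (Subtype.ext this)
      · exact absurd (congrArg Subtype.val H) (hmix x y)
      · exact absurd (congrArg Subtype.val H).symm (hmix y x)
      · have h5 : c * x.1 = c * y.1 := congrArg Subtype.val H
        exact congrArg Sum.inr (Subtype.ext (mul_left_cancel h5))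
    · rintro ⟨x, hx⟩
      rcases hx with H | H
      · exact ⟨Sum.inl ⟨x, Subgroup.mem_centralizer_singleton_iff.2 (mul_inv_eq_iff_eq_mul.1 H)⟩, rfl⟩
      · refine ⟨Sum.inr ⟨c⁻¹ * x, ?_⟩, ?_⟩
        · rw [Subgroup.mem_centralizer_singleton_iff]
          apply mul_inv_eq_iff_eq_mul.1
          have : c⁻¹ * x * g * (c⁻¹ * x)⁻¹ = c⁻¹ * (x * g * x⁻¹) * c := by group
          rw [this, H, ← hc]; group
        · apply Subtype.ext
          show c * (c⁻¹ * x) = x
          group
  rw [Nat.card_congr e, Nat.card_sum, two_mul]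

/-- non-split property passes to commuting elements -/
theorem nonsplit_of_comm (g0 g : SpecialLinearGroup (Fin 2) F) (h0 : ∀ c : F, c ^ 2 - g0.1.trace * c + 1 ≠ 0) (hns0 : NS g0.1) (hg : NS g.1)
    (hc : g * g0 = g0 * g) : ∀ c : F, c ^ 2 - g.1.trace * c + 1 ≠ 0 := by
  intro c hc'
  obtain ⟨v, hv, hgv⟩ := exists_eig g c hc'
  obtain ⟨x, y, hxy⟩ := commutant g0.1 g.1 hns0 (congrArg Subtype.val hc)
  have hy : y ≠ 0 := by
    rintro rfl
    rw [ns_iff] at hg
    exact hg ⟨x, by rw [hxy, zero_smul, add_zero]⟩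
  rw [hxy, Matrix.add_mulVec, Matrix.smul_mulVec, Matrix.one_mulVec, Matrix.smul_mulVec] at hgv
  have h1 : g0.1.mulVec v = ((c - x) / y) • v := by
    have h2 : y • g0.1.mulVec v = (c - x) • v := by
      rw [sub_smul, ← hgv]; abel
    rw [div_eq_inv_mul, mul_smul, ← h2, smul_smul, inv_mul_cancel₀ hy, one_smul]
  exact h0 _ (root_or g0 _ v hv h1)

theorem nonsplit_ns (g : SpecialLinearGroup (Fin 2) F) (h : ∀ c : F, c ^ 2 - g.1.trace * c + 1 ≠ 0) : NS g.1 := by
  rw [ns_iff']
  rintro (rfl | rfl)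
  · apply h 1
    rw [trace_one_SL]; ring
  · apply h (-1)
    rw [trace_neg_SL, trace_one_SL]; ring

/-- a non-split element of order `q + 1` -/
theorem exists_nonsplit_gen (F : Type*) [Field F] [Finite F] : ∃ g : SpecialLinearGroup (Fin 2) F, (∀ c : F, c ^ 2 - g.1.trace * c + 1 ≠ 0) ∧ orderOf g = Nat.card F + 1 := by
  obtain ⟨g0, h0⟩ := exists_nonsplit F
  obtain ⟨hcyc, hcard⟩ := cent_nonsplit g0 h0
  obtain ⟨g, hg⟩ := IsCyclic.exists_ofOrder_eq_natCard (α := Subgroup.centralizer ({g0} : Set (SpecialLinearGroup (Fin 2) F)))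
  have ho : orderOf g.1 = Nat.card F + 1 := by rw [← hcard, ← hg]; exact Subgroup.orderOf_coe g
  have hq : 1 < Nat.card F := Finite.one_lt_card
  have hns : NS g.1.1 := by
    rw [ns_iff']
    rintro (h | h)
    · rw [h, orderOf_one] at ho; omega
    · have h1 : (g.1) ^ 2 = 1 := by rw [h]; simp
      have h2 := orderOf_dvd_of_pow_eq_one h1
      rw [ho] at h2
      have := Nat.le_of_dvd (by norm_num) h2
      omega
  exact ⟨g.1, nonsplit_of_comm g0 g.1 h0 (nonsplit_ns g0 h0) hns (Subgroup.mem_centralizer_singleton_iff.1 g.2), ho⟩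

theorem pow_nonsplit [Finite F] (g : SpecialLinearGroup (Fin 2) F) (h : ∀ c : F, c ^ 2 - g.1.trace * c + 1 ≠ 0) : g ^ (Nat.card F + 1) = 1 := by
  obtain ⟨-, hcard⟩ := cent_nonsplit g h
  have h1 : (⟨g, Subgroup.mem_centralizer_singleton_iff.2 rfl⟩ : Subgroup.centralizer ({g} : Set (SpecialLinearGroup (Fin 2) F))) ^ (Nat.card F + 1) = 1 := by
    rw [← hcard]; exact pow_card_eq_one'
  exact congrArg Subtype.val h1

/-- elements of each order in the image of a cyclic subgroup -/
theorem exists_order_of_cyclic [Finite F] (T : Subgroup (SpecialLinearGroup (Fin 2) F)) (hT : IsCyclic T) (hZ : Subgroup.center (SpecialLinearGroup (Fin 2) F) ≤ T)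
    (m : ℕ) (hm : m * Nat.card (Subgroup.center (SpecialLinearGroup (Fin 2) F)) ∣ Nat.card T) : ∃ x : ProjectiveSpecialLinearGroup (Fin 2) F, orderOf x = m := by
  let φ : T →* ProjectiveSpecialLinearGroup (Fin 2) F := pr.comp T.subtype
  have hker : φ.ker = (Subgroup.center (SpecialLinearGroup (Fin 2) F)).subgroupOf T := by
    ext x
    rw [MonoidHom.mem_ker, Subgroup.mem_subgroupOf]
    exact QuotientGroup.eq_one_iff x.1
  have h1 := Subgroup.card_mul_index φ.ker
  rw [Subgroup.index_ker] at h1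
  have h2 : Nat.card φ.ker = Nat.card (Subgroup.center (SpecialLinearGroup (Fin 2) F)) := by
    rw [hker]
    exact Nat.card_congr (Subgroup.subgroupOfEquivOfLe hZ).toEquiv
  rw [h2] at h1
  haveI : IsCyclic φ.range := isCyclic_of_surjective φ.rangeRestrict φ.rangeRestrict_surjective
  obtain ⟨x, hx⟩ := IsCyclic.exists_ofOrder_eq_natCard (α := φ.range)
  have hpos : 0 < Nat.card (Subgroup.center (SpecialLinearGroup (Fin 2) F)) := Nat.card_pos
  have h3 : m ∣ Nat.card φ.range := by
    rw [← h1, mul_comm] at hm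
    exact Nat.dvd_of_mul_dvd_mul_left hpos hm
  obtain ⟨k, hk⟩ := h3
  have hk0 : k ≠ 0 := by
    rintro rfl
    rw [mul_zero] at hk
    exact Nat.card_pos.ne' hk
  refine ⟨(x ^ k).1, ?_⟩
  rw [Subgroup.orderOf_coe, orderOf_pow_of_dvd hk0 (by rw [hx, hk]; exact Dvd.intro_left m rfl), hx, hk, Nat.mul_div_cancel _ (Nat.pos_of_ne_zero hk0)]

theorem center_le_cent (g : SpecialLinearGroup (Fin 2) F) : Subgroup.center (SpecialLinearGroup (Fin 2) F) ≤ Subgroup.centralizer {g} :=
  Subgroup.center_le_centralizer _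

theorem dg_neg_one : dg (-1 : Fˣ) = -1 := by
  apply Subtype.ext
  rw [dg_val]
  show _ = (-1 : Matrix (Fin 2) (Fin 2) F)
  ext i j
  fin_cases i <;> fin_cases j <;> simp

theorem pr_pow_eq_one (g : SpecialLinearGroup (Fin 2) F) (k : ℕ) : (pr g) ^ k = 1 ↔ (g ^ k = 1 ∨ g ^ k = -1) := by
  rw [← map_pow, pr_eq_one]

theorem pow_pm_conj {g h : SpecialLinearGroup (Fin 2) F} (H : IsConj g h) (k : ℕ) : (g ^ k = 1 ∨ g ^ k = -1) ↔ (h ^ k = 1 ∨ h ^ k = -1) := by
  have key : ∀ g h : SpecialLinearGroup (Fin 2) F, IsConj g h → (g ^ k = 1 ∨ g ^ k = -1) → (h ^ k = 1 ∨ h ^ k = -1) := by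
    rintro g h H (h1 | h1)
    · left; exact (pow_conj_eq H k).1 h1
    · right
      obtain ⟨c, rfl⟩ := isConj_iff.1 H
      rw [conj_pow, h1, mul_neg, mul_one, neg_mul, mul_inv_cancel]
  exact ⟨key g h H, key h g H.symm⟩

end Cfsg.Agent.H8.SL2
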