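import Mathlib
import Cfsg.Agent.H8.SL2e

set_option autoImplicit false

namespace Cfsg.Agent.H8.SL2

open Matrix Polynomial

variable {F : Type*} [Field F]

/-- products of two elements of trace `σ` (with `σ² ≠ 4`) take every trace, odd characteristic -/
theorem exists_prod [Finite F] (h2 : ringChar F ≠ 2) (σ τ : F) (hσ : σ ^ 2 ≠ 4) : ∃ A B : SpecialLinearGroup (Fin 2) F,
    A.1.trace = σ ∧ B.1.trace = σ ∧ (A * B).1.trace = τ := by
  -- complete the square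
  have h2' : (2 : F) ≠ 0 := Ring.two_ne_zero h2
  have h4' : (4 : F) - σ ^ 2 ≠ 0 := by intro h; apply hσ; linear_combination -h
  -- centre of the conic : gradient zero
  let z0 : F := -(2 * (τ - σ ^ 2) + σ ^ 2) / (4 - σ ^ 2)
  let x0 : F := (σ - σ * z0) / 2
  have hx0 : 2 * x0 + σ * z0 - σ = 0 := by
    simp only [x0]; field_simp; ring
  have hz0 : σ * x0 + 2 * z0 + (τ - σ ^ 2) = 0 := by
    have e1 : (4 - σ ^ 2) * z0 = -(2 * (τ - σ ^ 2) + σ ^ 2) := by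
      simp only [z0]; field_simp
    have e2 : 2 * (σ * x0 + 2 * z0 + (τ - σ ^ 2)) = 0 := by
      linear_combination σ * hx0 + e1
    exact (mul_eq_zero.1 e2).resolve_left h2'
  let K : F := -(x0 ^ 2 + σ * x0 * z0 + z0 ^ 2 - σ * x0 + (τ - σ ^ 2) * z0 + 1)
  obtain ⟨X, Z, hXZ⟩ := exists_norm σ K (Or.inl hσ)
  set x := x0 + X with hx
  set z := z0 + Z with hz
  have hconic : x ^ 2 + σ * x * z + z ^ 2 - σ * x + (τ - σ ^ 2) * z + 1 = 0 := by
    have hK : K = -(x0 ^ 2 + σ * x0 * z0 + z0 ^ 2 - σ * x0 + (τ - σ ^ 2) * z0 + 1) := rfl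
    rw [hx, hz]
    linear_combination hXZ + X * hx0 + Z * hz0 + hK
  refine ⟨mkSL !![0, -1; 1, σ] (by simp), mkSL !![x, τ + z - σ * (σ - x); z, σ - x] (by
    rw [Matrix.det_fin_two_of]; linear_combination -hconic), ?_, ?_, ?_⟩
  · rw [mkSL_val, Matrix.trace_fin_two]; simp
  · rw [mkSL_val, Matrix.trace_fin_two]; simp
  · show (!![0, -1; 1, σ] * !![x, τ + z - σ * (σ - x); z, σ - x]).trace = τ
    rw [Matrix.trace_fin_two]
    simp [Matrix.mul_apply, Fin.sum_univ_two]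

/-- GL-conjugation moves products of classes to products of classes -/
theorem conj_prod [Finite F] (s A B t : SpecialLinearGroup (Fin 2) F) (hs : NS s.1) (hσ : s.1.trace ^ 2 ≠ 4) (hA : A.1.trace = s.1.trace) (hB : B.1.trace = s.1.trace)
    (hAB : NS (A * B).1) (ht : NS t.1) (htr : (A * B).1.trace = t.1.trace) :
    ∃ k l : SpecialLinearGroup (Fin 2) F, t = (k * s * k⁻¹) * (l * s * l⁻¹) := by
  obtain ⟨P, hP⟩ := gl_conj (A * B).1 t.1 hAB ht htr (by rw [(A * B).2, t.2])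
  have e1 : (P : Matrix (Fin 2) (Fin 2) F) * ((P⁻¹ : GL (Fin 2) F) : Matrix (Fin 2) (Fin 2) F) = 1 := by
    rw [← Units.val_mul, mul_inv_cancel, Units.val_one]
  have e2 : ((P⁻¹ : GL (Fin 2) F) : Matrix (Fin 2) (Fin 2) F) * (P : Matrix (Fin 2) (Fin 2) F) = 1 := by
    rw [← Units.val_mul, inv_mul_cancel, Units.val_one]
  have hdet : ∀ M : SpecialLinearGroup (Fin 2) F, ((P : Matrix (Fin 2) (Fin 2) F) * M.1 * ((P⁻¹ : GL (Fin 2) F) : Matrix (Fin 2) (Fin 2) F)).det = 1 := by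
    intro M
    rw [Matrix.det_mul, Matrix.det_mul, M.2, mul_one, ← Matrix.det_mul, e1, Matrix.det_one]
  let c : SpecialLinearGroup (Fin 2) F → SpecialLinearGroup (Fin 2) F := fun M => mkSL _ (hdet M)
  have hc : ∀ M, (c M).1.trace = M.1.trace := by
    intro M
    show ((P : Matrix (Fin 2) (Fin 2) F) * M.1 * ((P⁻¹ : GL (Fin 2) F) : Matrix (Fin 2) (Fin 2) F)).trace = _
    rw [Matrix.trace_mul_cycle, e2, one_mul]
  have hconj : ∀ M : SpecialLinearGroup (Fin 2) F, M.1.trace = s.1.trace → IsConj s M := by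
    intro M hM
    exact sl_conj s M hs (ns_of_trace M (by rw [hM]; exact hσ)) hM.symm (Or.inl hσ)
  obtain ⟨k, hk⟩ := isConj_iff.1 (hconj (c A) (by rw [hc, hA]))
  obtain ⟨l, hl⟩ := isConj_iff.1 (hconj (c B) (by rw [hc, hB]))
  refine ⟨k, l, ?_⟩
  rw [hk, hl]
  apply Subtype.ext
  show t.1 = ((P : Matrix (Fin 2) (Fin 2) F) * A.1 * ((P⁻¹ : GL (Fin 2) F) : Matrix (Fin 2) (Fin 2) F)) * ((P : Matrix (Fin 2) (Fin 2) F) * B.1 * ((P⁻¹ : GL (Fin 2) F) : Matrix (Fin 2) (Fin 2) F))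
  have h3 : (P : Matrix (Fin 2) (Fin 2) F) * (A.1 * B.1) = t.1 * P := hP
  calc t.1 = (t.1 * P) * ((P⁻¹ : GL (Fin 2) F) : Matrix (Fin 2) (Fin 2) F) := by rw [mul_assoc, e1, mul_one]
    _ = (P : Matrix (Fin 2) (Fin 2) F) * (A.1 * B.1) * ((P⁻¹ : GL (Fin 2) F) : Matrix (Fin 2) (Fin 2) F) := by rw [h3]
    _ = (P : Matrix (Fin 2) (Fin 2) F) * A.1 * (((P⁻¹ : GL (Fin 2) F) : Matrix (Fin 2) (Fin 2) F) * (P : Matrix (Fin 2) (Fin 2) F)) * B.1 * ((P⁻¹ : GL (Fin 2) F) : Matrix (Fin 2) (Fin 2) F) := by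
        rw [e2]; simp only [mul_assoc, one_mul]
    _ = _ := by simp only [mul_assoc]

end Cfsg.Agent.H8.SL2
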