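import Mathlib
import Cfsg.Prelude.Def_LieExceptional
import Cfsg.Prelude.Def_Sz

set_option autoImplicit false

namespace Cfsg.Agent.H8.Suz

open Matrix

class Hyp (F : Type*) [Field F] [Fintype F] (m : ℕ) : Prop where
  hm : 1 ≤ m
  hF : Fintype.card F = 2 ^ (2 * m + 1)

section field
variable {F : Type*} [Field F] [Fintype F] (m : ℕ) [H : Hyp F m]

theorem charP2 (F : Type*) [Field F] [Fintype F] (m : ℕ) [H : Hyp F m] : CharP F 2 := by
  obtain ⟨p, hp⟩ := CharP.exists F
  haveI := hp
  obtain ⟨n, hn, h⟩ := FiniteField.card F p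
  rw [H.hF] at h
  have h2 : p ∣ 2 ^ (2 * m + 1) := by rw [h]; exact dvd_pow_self p n.pos.ne'
  have h3 := (Nat.prime_dvd_prime_iff_eq hn Nat.prime_two).1 (hn.dvd_of_dvd_pow h2)
  rw [← h3]; exact hp

include m H in
theorem two0 : (2 : F) = 0 := by
  haveI := charP2 F m
  exact CharTwo.two_eq_zero

include m H in
theorem add_self (a : F) : a + a = 0 := by
  linear_combination a * (two0 m : (2 : F) = 0)

include m H in
theorem neg_eq (a : F) : -a = a := by
  linear_combination (-a) * (two0 m : (2 : F) = 0)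

include m H in
theorem eq_of_add_zero {a b : F} (h : a + b = 0) : a = b := by
  linear_combination h - b * (two0 m : (2 : F) = 0)

include m H in
theorem sq_add (a b : F) : (a + b) ^ 2 = a ^ 2 + b ^ 2 := by
  linear_combination (a * b) * (two0 m : (2 : F) = 0)

include m H in
theorem sq_inj {a b : F} (h : a ^ 2 = b ^ 2) : a = b := by
  have h1 : (a + b) ^ 2 = 0 := by
    rw [sq_add m, h]; exact add_self m _
  exact eq_of_add_zero m (pow_eq_zero_iff (two_ne_zero)|>.1 h1)

omit [Fintype F] H in
/-- the Tits endomorphism -/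
def th (x : F) : F := x ^ (2 ^ (m + 1))

omit [Fintype F] H in
/-- its square root -/
def rh (x : F) : F := x ^ (2 ^ m)

include H in
theorem th_add (a b : F) : th m (a + b) = th m a + th m b := by
  haveI := charP2 F m
  exact add_pow_char_pow _ _ _ _

omit [Fintype F] H in
theorem th_mul (a b : F) : th m (a * b) = th m a * th m b := mul_pow _ _ _

omit [Fintype F] H in
theorem th_one : th m (1 : F) = 1 := one_pow _

omit [Fintype F] H in
theorem th_zero : th m (0 : F) = 0 := zero_pow (by positivity)

omit [Fintype F] H in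
theorem th_eq_zero {a : F} : th m a = 0 ↔ a = 0 := pow_eq_zero_iff (by positivity)

omit [Fintype F] H in
theorem th_inv (a : F) : th m a⁻¹ = (th m a)⁻¹ := inv_pow _ _

omit [Fintype F] H in
theorem th_pow (a : F) (k : ℕ) : th m (a ^ k) = (th m a) ^ k := by
  unfold th; rw [← pow_mul, ← pow_mul, mul_comm]

include H in
theorem th_th (a : F) : th m (th m a) = a ^ 2 := by
  unfold th
  rw [← pow_mul, ← pow_add]
  have h1 : 2 ^ (m + 1 + (m + 1)) = Fintype.card F * 2 := by rw [H.hF]; ring
  rw [h1, pow_mul, FiniteField.pow_card]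

include H in
theorem th_inj {a b : F} (h : th m a = th m b) : a = b := by
  have h1 : a ^ 2 = b ^ 2 := by rw [← th_th m, ← th_th m, h]
  exact sq_inj m h1

omit [Fintype F] H in
theorem rh_mul (a b : F) : rh m (a * b) = rh m a * rh m b := mul_pow _ _ _

omit [Fintype F] H in
theorem rh_one : rh m (1 : F) = 1 := one_pow _

omit [Fintype F] H in
theorem rh_zero : rh m (0 : F) = 0 := zero_pow (by positivity)

omit [Fintype F] H in
theorem rh_eq_zero {a : F} : rh m a = 0 ↔ a = 0 := pow_eq_zero_iff (by positivity)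

omit [Fintype F] H in
theorem rh_sq (a : F) : rh m a ^ 2 = th m a := by
  unfold rh th
  rw [← pow_mul, pow_succ]

omit [Fintype F] H in
theorem rh_th (a : F) : rh m (th m a) = th m (rh m a) := by
  unfold rh th
  rw [← pow_mul, ← pow_mul, mul_comm]

include H in
theorem rh_th' (a : F) : rh m (th m a) = a := by
  apply sq_inj m
  rw [rh_sq, th_th]

include H in
theorem th_rh' (a : F) : th m (rh m a) = a := by rw [← rh_th, rh_th']

include H in
theorem rh_add (a b : F) : rh m (a + b) = rh m a + rh m b := by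
  haveI := charP2 F m
  exact add_pow_char_pow _ _ _ _

/-- the coordinate function of the ovoid -/
def ff (x y : F) : F := x * y + th m x * x ^ 2 + th m y

include H in
/-- no solutions of `s^σ = s + 1` -/
theorem no_sol (s : F) : th m s ≠ s + 1 := by
  intro h
  have h1 : th m (th m s) = s := by
    rw [h, th_add, h, th_one]
    linear_combination (1 : F) * (two0 m : (2 : F) = 0)
  rw [th_th] at h1
  have h2 : s * (s + 1) = 0 := by linear_combination h1 + s * (two0 m : (2 : F) = 0)
  rcases mul_eq_zero.1 h2 with h3 | h3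
  · rw [h3, th_zero] at h
    rw [zero_add] at h
    exact zero_ne_one h
  · have h4 : s = 1 := eq_of_add_zero m h3
    rw [h3, th_eq_zero] at h
    rw [h] at h4
    exact zero_ne_one h4

include H in
theorem ff_eq_zero {x y : F} : ff m x y = 0 ↔ x = 0 ∧ y = 0 := by
  constructor
  · intro h
    by_cases hx : x = 0
    · refine ⟨hx, ?_⟩
      unfold ff at h
      rw [hx, th_zero, zero_mul, zero_mul, zero_add, zero_add, th_eq_zero] at h
      exact h
    · exfalso
      have hX : th m x ≠ 0 := fun h0 => hx ((th_eq_zero m).1 h0)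
      apply no_sol m (y * (x * th m x)⁻¹)
      have h1 : th m (y * (x * th m x)⁻¹) = th m y * (th m x * x ^ 2)⁻¹ := by
        rw [th_mul, th_inv, th_mul, th_th]
      rw [h1]
      unfold ff at h
      have h2 : th m y = x * y + th m x * x ^ 2 := by
        linear_combination h - (x * y + th m x * x ^ 2) * (two0 m : (2 : F) = 0)
      rw [h2]
      field_simp
  · rintro ⟨rfl, rfl⟩
    unfold ff
    rw [th_zero]; ring

include H in
theorem th_ff (x y : F) : th m (ff m x y) = th m x * th m y + x ^ 2 * th m x ^ 2 + y ^ 2 := by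
  unfold ff
  rw [th_add, th_add, th_mul, th_mul, th_th, th_th, th_pow]

include H in
/-- the key identity -/
theorem ff_inv (x y : F) (h : ff m x y ≠ 0) : ff m (y * (ff m x y)⁻¹) (x * (ff m x y)⁻¹) = (ff m x y)⁻¹ := by
  have hth : th m (ff m x y) ≠ 0 := fun h0 => h ((th_eq_zero m).1 h0)
  have h1 : ff m (y * (ff m x y)⁻¹) (x * (ff m x y)⁻¹) = y * x * ((ff m x y)⁻¹) ^ 2 + th m y * y ^ 2 * ((th m (ff m x y))⁻¹ * ((ff m x y)⁻¹) ^ 2) + th m x * (th m (ff m x y))⁻¹ := by
    conv_lhs => unfold ff
    rw [th_mul, th_mul, th_inv]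
    change _ * _ + _ * (th m (ff m x y))⁻¹ * _ + _ * (th m (ff m x y))⁻¹ = _
    change (y * (ff m x y)⁻¹) * (x * (ff m x y)⁻¹) + th m y * (th m (ff m x y))⁻¹ * (y * (ff m x y)⁻¹) ^ 2 + th m x * (th m (ff m x y))⁻¹ = _
    ring
  rw [h1]
  have h2 : y * x * th m (ff m x y) + th m y * y ^ 2 + th m x * ff m x y ^ 2 = th m (ff m x y) * ff m x y := by
    rw [th_ff]
    unfold ff
    linear_combination (y * x * th m x * th m y + y * x ^ 3 * th m x ^ 2) * (two0 m : (2 : F) = 0)
  field_simp
  linear_combination h2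

end field

end Cfsg.Agent.H8.Suz
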