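import Mathlib
import Cfsg.Agent.H8.SzA

set_option autoImplicit false

namespace Cfsg.Agent.H8.Suz

open Matrix

variable {F : Type*} [Field F] [Fintype F] (m : ℕ) [H : Hyp F m]

omit [Fintype F] H in
def Um (a b : F) : Matrix (Fin 4) (Fin 4) F :=
  !![1, a, b + a * th m a, ff m a b; 0, 1, th m a, b; 0, 0, 1, a; 0, 0, 0, 1]

omit [Fintype F] H in
theorem Um_det (a b : F) : (Um m a b).det = 1 := by
  rw [Matrix.det_of_upperTriangular]
  · simp [Um, Fin.prod_univ_four]
  · intro i j hij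
    fin_cases i <;> fin_cases j <;> simp_all [Um]

omit [Fintype F] H in
def Us (a b : F) : SpecialLinearGroup (Fin 4) F := ⟨Um m a b, Um_det m a b⟩

include H in
theorem Um_mul (a b c d : F) : Um m a b * Um m c d = Um m (a + c) (b + d + th m a * c) := by
  have h2 := (two0 m : (2 : F) = 0)
  ext i j
  rw [Matrix.mul_apply, Fin.sum_univ_four]
  fin_cases i <;> fin_cases j <;> simp [Um, ff, th_add, th_mul, th_th] <;> try ring
  · linear_combination (-(c * th m a)) * h2
  · linear_combination (-(a^2 * th m c) - (th m a + th m c) * a * c - th m a * c ^ 2) * h2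

include H in
theorem Us_mul (a b c d : F) : Us m a b * Us m c d = Us m (a + c) (b + d + th m a * c) :=
  Subtype.ext (Um_mul m a b c d)

omit [Fintype F] H in
theorem Um_zero : Um m (0 : F) 0 = 1 := by
  ext i j
  fin_cases i <;> fin_cases j <;> simp [Um, ff, th_zero]

omit [Fintype F] H in
theorem Us_zero : Us m (0 : F) 0 = 1 := Subtype.ext (Um_zero m)

omit [Fintype F] H in
def Hm (k : F) : Matrix (Fin 4) (Fin 4) F := Matrix.diagonal ![k * rh m k, rh m k, (rh m k)⁻¹, (k * rh m k)⁻¹]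

omit [Fintype F] H in
theorem Hm_det {k : F} (hk : k ≠ 0) : (Hm m k).det = 1 := by
  have : rh m k ≠ 0 := fun h => hk ((rh_eq_zero m).1 h)
  rw [Hm, Matrix.det_diagonal, Fin.prod_univ_four]
  simp
  field_simp

omit [Fintype F] H in
def Hs (k : Fˣ) : SpecialLinearGroup (Fin 4) F := ⟨Hm m k, Hm_det m k.ne_zero⟩

omit [Fintype F] H in
theorem Hm_mul (k l : F) : Hm m k * Hm m l = Hm m (k * l) := by
  rw [Hm, Hm, Hm, Matrix.diagonal_mul_diagonal]
  congr 1
  funext i
  fin_cases i <;> simp [rh_mul] <;> ring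

omit [Fintype F] H in
theorem Hs_mul (k l : Fˣ) : Hs m k * Hs m l = Hs m (k * l) := Subtype.ext (Hm_mul m (k : F) (l : F))

omit [Fintype F] H in
theorem Hm_one : Hm m (1 : F) = 1 := by
  rw [Hm, ← Matrix.diagonal_one]
  congr 1
  funext i
  fin_cases i <;> simp [rh_one]

omit [Fintype F] H in
theorem Hs_one : Hs m (1 : Fˣ) = 1 := Subtype.ext (Hm_one m)

omit [Fintype F] H in
def Wm (F : Type*) [Field F] : Matrix (Fin 4) (Fin 4) F := !![0, 0, 0, 1; 0, 0, 1, 0; 0, 1, 0, 0; 1, 0, 0, 0]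

omit [Fintype F] H in
theorem Wm_det : (Wm F).det = 1 := by
  rw [Wm]
  simp [Matrix.det_succ_row_zero, Fin.sum_univ_succ, Fin.succAbove]
  try norm_num

omit [Fintype F] H in
def Ws (F : Type*) [Field F] : SpecialLinearGroup (Fin 4) F := ⟨Wm F, Wm_det⟩

omit [Fintype F] H in
theorem Wm_mul : Wm F * Wm F = 1 := by
  ext i j
  rw [Matrix.mul_apply, Fin.sum_univ_four]
  fin_cases i <;> fin_cases j <;> simp [Wm]

omit [Fintype F] H in
theorem Ws_mul : Ws F * Ws F = 1 := Subtype.ext Wm_mul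

omit [Fintype F] H in
theorem WHs (k : Fˣ) : Ws F * Hs m k = Hs m k⁻¹ * Ws F := by
  apply Subtype.ext
  show Wm F * Hm m (k : F) = Hm m ((k⁻¹ : Fˣ) : F) * Wm F
  have hk : rh m (k : F) ≠ 0 := fun h => k.ne_zero ((rh_eq_zero m).1 h)
  ext i j
  rw [Hm, Hm, Matrix.mul_diagonal, Matrix.diagonal_mul]
  have h1 : rh m ((k : F)⁻¹) = (rh m (k : F))⁻¹ := inv_pow _ _
  fin_cases i <;> fin_cases j <;> simp [Wm, h1, mul_comm]

include H in
theorem HUs (k : Fˣ) (a b : F) : Hs m k * Us m a b = Us m ((k : F) * a) ((k : F) * th m (k : F) * b) * Hs m k := by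
  apply Subtype.ext
  show Hm m (k : F) * Um m a b = Um m _ _ * Hm m (k : F)
  have hk0 := k.ne_zero
  have hk : rh m (k : F) ≠ 0 := fun h => k.ne_zero ((rh_eq_zero m).1 h)
  have h1 : th m (k : F) = rh m (k : F) ^ 2 := (rh_sq m _).symm
  ext i j
  rw [Hm, Matrix.mul_diagonal, Matrix.diagonal_mul]
  have h3 : th m (rh m (k : F) ^ 2) = (k : F) ^ 2 := by rw [rh_sq, th_th]
  fin_cases i <;> fin_cases j <;> simp [Um, ff, th_mul, th_th, h1, h3] <;> try field_simp
  all_goals try ring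

/-! ### points -/

omit [Fintype F] H in
theorem ptv_ne (x y : F) : (![ff m x y, y, x, 1] : Fin 4 → F) ≠ 0 := fun h => one_ne_zero (congrFun h 3)

omit [Fintype F] H in
def pt (x y : F) : Projectivization F (Fin 4 → F) := Projectivization.mk F ![ff m x y, y, x, 1] (ptv_ne m x y)

omit [Fintype F] H in
abbrev inf (F : Type*) [Field F] : Projectivization F (Fin 4 → F) := suzukiPointInfinity F

omit [Fintype F] H in
theorem infv_ne : (![1, 0, 0, 0] : Fin 4 → F) ≠ 0 := fun h => one_ne_zero (congrFun h 0)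

omit [Fintype F] H in
theorem mem_ovoid (p : Projectivization F (Fin 4 → F)) : p ∈ suzukiOvoid F m ↔ p = inf F ∨ ∃ x y, p = pt m x y := by
  have hff : ∀ x y : F, x * y + x ^ (2 ^ (m + 1) + 2) + y ^ (2 ^ (m + 1)) = ff m x y := by
    intro x y
    unfold ff th
    rw [pow_add]
  constructor
  · rintro ⟨v, hv, rfl, h | ⟨x, y, h⟩⟩
    · subst h
      exact Or.inl rfl
    · right
      subst h
      refine ⟨x, y, ?_⟩
      unfold pt
      congr 1
      rw [hff]
  · rintro (h | ⟨x, y, h⟩)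
    · exact ⟨_, infv_ne, h, Or.inl rfl⟩
    · refine ⟨_, ptv_ne m x y, h, Or.inr ⟨x, y, ?_⟩⟩
      rw [hff]

omit [Fintype F] H in
theorem pt_zero : pt m (0 : F) 0 = suzukiPointZero F := by
  unfold pt suzukiPointZero
  congr 1
  unfold ff
  rw [th_zero]
  simp

omit [Fintype F] H in
theorem pt_ne_inf (x y : F) : pt m x y ≠ inf F := by
  intro h
  obtain ⟨c, hc⟩ := (Projectivization.mk_eq_mk_iff' F _ _ (ptv_ne m x y) infv_ne).1 h
  have h3 := congrFun hc 3
  simp at h3

omit [Fintype F] H in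
theorem pt_inj {x y x' y' : F} (h : pt m x y = pt m x' y') : x = x' ∧ y = y' := by
  obtain ⟨c, hc⟩ := (Projectivization.mk_eq_mk_iff' F _ _ (ptv_ne m x y) (ptv_ne m x' y')).1 h
  have h1 := congrFun hc 1
  have h2 := congrFun hc 2
  have h3 := congrFun hc 3
  simp at h1 h2 h3
  rw [h3, one_mul] at h1 h2
  exact ⟨h2.symm, h1.symm⟩

omit [Fintype F] H in
theorem smul_eq (g : SpecialLinearGroup (Fin 4) F) (v v' : Fin 4 → F) (hv : v ≠ 0) (hv' : v' ≠ 0) (c : F) (hc : c ≠ 0)
    (h : (g : Matrix (Fin 4) (Fin 4) F) *ᵥ v = c • v') : g • Projectivization.mk F v hv = Projectivization.mk F v' hv' := by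
  rw [Projectivization.smul_mk]
  rw [Projectivization.mk_eq_mk_iff']
  exact ⟨c, h.symm⟩

include H in
theorem Us_pt (a b x y : F) : Us m a b • pt m x y = pt m (x + a) (y + b + th m a * x) := by
  have h2 := (two0 m : (2 : F) = 0)
  apply smul_eq _ _ _ _ _ 1 one_ne_zero
  rw [one_smul]
  show Um m a b *ᵥ _ = _
  funext i
  fin_cases i <;> simp [Um, ff, Matrix.mulVec, dotProduct, Fin.sum_univ_four, th_add, th_mul, th_th] <;> try ring
  · linear_combination (-(a^2 * th m x) - (th m a + th m x) * a * x - th m a * x ^ 2) * h2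

omit [Fintype F] H in
theorem Us_inf (a b : F) : Us m a b • inf F = inf F := by
  apply smul_eq _ _ _ _ _ 1 one_ne_zero
  rw [one_smul]
  show Um m a b *ᵥ _ = _
  funext i
  fin_cases i <;> simp [Um, Matrix.mulVec, dotProduct, Fin.sum_univ_four]

include H in
theorem Hs_pt (k : Fˣ) (x y : F) : Hs m k • pt m x y = pt m ((k : F) * x) ((k : F) * th m (k : F) * y) := by
  have hk0 := k.ne_zero
  have hk : rh m (k : F) ≠ 0 := fun h => k.ne_zero ((rh_eq_zero m).1 h)
  have h1 : th m (k : F) = rh m (k : F) ^ 2 := (rh_sq m _).symm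
  have h3 : th m (rh m (k : F) ^ 2) = (k : F) ^ 2 := by rw [rh_sq, th_th]
  apply smul_eq _ _ _ _ _ (((k : F) * rh m (k : F))⁻¹) (inv_ne_zero (mul_ne_zero hk0 hk))
  show Hm m (k : F) *ᵥ _ = _
  funext i
  rw [Hm, Matrix.mulVec_diagonal]
  fin_cases i <;> simp [ff, th_mul, th_th, h1, h3] <;> try field_simp
  all_goals try ring

omit [Fintype F] H in
theorem Hs_inf (k : Fˣ) : Hs m k • inf F = inf F := by
  have hk0 := k.ne_zero
  have hk : rh m (k : F) ≠ 0 := fun h => k.ne_zero ((rh_eq_zero m).1 h)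
  apply smul_eq _ _ _ _ _ ((k : F) * rh m (k : F)) (mul_ne_zero hk0 hk)
  show Hm m (k : F) *ᵥ _ = _
  funext i
  rw [Hm, Matrix.mulVec_diagonal]
  fin_cases i <;> simp

omit [Fintype F] H in
theorem Ws_inf : Ws F • inf F = pt m 0 0 := by
  rw [pt_zero]
  apply smul_eq _ _ _ _ _ 1 one_ne_zero
  rw [one_smul]
  show Wm F *ᵥ _ = _
  funext i
  fin_cases i <;> simp [Wm, Matrix.mulVec, dotProduct, Fin.sum_univ_four]

omit [Fintype F] H in
theorem Ws_zero : Ws F • pt m (0 : F) 0 = inf F := by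
  rw [← Ws_inf m, ← mul_smul, Ws_mul, one_smul]

include H in
theorem Ws_pt {x y : F} (h : ¬ (x = 0 ∧ y = 0)) : Ws F • pt m x y = pt m (y * (ff m x y)⁻¹) (x * (ff m x y)⁻¹) := by
  have hf : ff m x y ≠ 0 := fun h0 => h ((ff_eq_zero m).1 h0)
  apply smul_eq _ _ _ _ _ (ff m x y) hf
  show Wm F *ᵥ _ = _
  rw [ff_inv m x y hf]
  funext i
  fin_cases i <;> simp [Wm, Matrix.mulVec, dotProduct, Fin.sum_univ_four] <;> field_simp

end Cfsg.Agent.H8.Suz
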