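import Mathlib
import Cfsg.Agent.H8.SzB

set_option autoImplicit false

namespace Cfsg.Agent.H8.Suz

open Matrix
open scoped Pointwise

variable {F : Type*} [Field F] [Fintype F] (m : ℕ) [H : Hyp F m]

instance : Finite (Projectivization F (Fin 4 → F)) := by
  apply Finite.of_surjective (fun v : {v : Fin 4 → F // v ≠ 0} => Projectivization.mk F v.1 v.2)
  intro p
  induction p using Projectivization.ind with
  | h v hv => exact ⟨⟨v, hv⟩, rfl⟩

omit H in
theorem mem_Sz (g : SpecialLinearGroup (Fin 4) F) (h : ∀ p ∈ suzukiOvoid F m, g • p ∈ suzukiOvoid F m) : g ∈ Cfsg.Sz F m := by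
  show g ∈ MulAction.stabilizer _ _
  rw [MulAction.mem_stabilizer_set_iff_smul_set_subset (Set.toFinite _)]
  rintro _ ⟨p, hp, rfl⟩
  exact h p hp

omit [Fintype F] H in
theorem Sz_smul {g : SpecialLinearGroup (Fin 4) F} (hg : g ∈ Cfsg.Sz F m) {p : Projectivization F (Fin 4 → F)} (hp : p ∈ suzukiOvoid F m) :
    g • p ∈ suzukiOvoid F m := by
  have h : g • suzukiOvoid F m = suzukiOvoid F m := hg
  rw [← h]
  exact Set.smul_mem_smul_set hp

include H in
theorem Us_mem (a b : F) : Us m a b ∈ Cfsg.Sz F m := by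
  apply mem_Sz
  intro p hp
  rw [mem_ovoid] at hp ⊢
  rcases hp with rfl | ⟨x, y, rfl⟩
  · left; exact Us_inf m a b
  · right; exact ⟨_, _, Us_pt m a b x y⟩

include H in
theorem Hs_mem (k : Fˣ) : Hs m k ∈ Cfsg.Sz F m := by
  apply mem_Sz
  intro p hp
  rw [mem_ovoid] at hp ⊢
  rcases hp with rfl | ⟨x, y, rfl⟩
  · left; exact Hs_inf m k
  · right; exact ⟨_, _, Hs_pt m k x y⟩

include H in
theorem Ws_mem : Ws F ∈ Cfsg.Sz F m := by
  apply mem_Sz
  intro p hp
  rw [mem_ovoid] at hp ⊢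
  rcases hp with rfl | ⟨x, y, rfl⟩
  · right; exact ⟨0, 0, Ws_inf m⟩
  · by_cases h : x = 0 ∧ y = 0
    · left; rw [h.1, h.2, Ws_zero]
    · right; exact ⟨_, _, Ws_pt m h⟩

omit H in
theorem exists_ne01 (hF : 4 ≤ Fintype.card F) : ∃ y : F, y ≠ 0 ∧ y ≠ 1 := by
  classical
  by_contra hcon
  push Not at hcon
  have : (Finset.univ : Finset F) ⊆ {0, 1} := by
    intro y _
    by_cases h : y = 0
    · rw [h]; simp
    · rw [hcon y h]; simp
  have h1 := Finset.card_le_card this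
  have h2 : ({0, 1} : Finset F).card ≤ 2 := Finset.card_le_two
  rw [Finset.card_univ] at h1
  omega

include H in
theorem card_ge : 8 ≤ Fintype.card F := by
  rw [H.hF]
  have : 2 ^ 3 ≤ 2 ^ (2 * m + 1) := Nat.pow_le_pow_right (by norm_num) (by have := H.hm; omega)
  omega

include H in
theorem exists_th_ne : ∃ y : F, th m y ≠ y ^ 2 := by
  obtain ⟨y, h0, h1⟩ := exists_ne01 (F := F) (by have := card_ge (F := F) m; omega)
  by_contra hcon
  push Not at hcon
  have h2 := hcon y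
  have h3 : th m (th m y) = (y ^ 2) ^ 2 := by rw [h2]; exact hcon _
  rw [th_th] at h3
  have h4 : y = y ^ 2 := sq_inj m h3
  have h5 : y * (y - 1) = 0 := by linear_combination -h4
  rcases mul_eq_zero.1 h5 with h | h
  · exact h0 h
  · exact h1 (sub_eq_zero.1 h)

include H in
theorem additive_lemma (c0 c1 c2 : F) (h : ∀ y : F, c0 * th m y + c1 * y ^ 2 + c2 * (th m y * y ^ 2) = 0) : c2 = 0 ∧ c0 = 0 ∧ c1 = 0 := by
  have h2 := (two0 m : (2 : F) = 0)
  obtain ⟨y, hy⟩ := exists_th_ne (F := F) m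
  have e1 := h y
  have e2 := h (y + 1)
  have e3 := h 1
  rw [th_one] at e3
  rw [th_add, th_one] at e2
  have hc2 : c2 = 0 := by
    by_contra hne
    apply hy
    have h4 : c2 * (th m y - y ^ 2) = 0 := by
      linear_combination e2 - e1 - e3 - (c1 * y + c2 * y * (th m y + 1) + c2 * y^2) * h2
    rcases mul_eq_zero.1 h4 with h5 | h5
    · exact absurd h5 hne
    · exact sub_eq_zero.1 h5
  rw [hc2] at e1 e3
  have h5 : c0 * (th m y - y ^ 2) = 0 := by
    linear_combination e1 - y ^ 2 * e3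
  have hc0 : c0 = 0 := by
    rcases mul_eq_zero.1 h5 with h6 | h6
    · exact h6
    · exact absurd (sub_eq_zero.1 h6) hy
  refine ⟨hc2, hc0, ?_⟩
  rw [hc0] at e3
  linear_combination e3

include H in
theorem two_pt {g : SpecialLinearGroup (Fin 4) F} (hg : g ∈ Cfsg.Sz F m) (h1 : g • inf F = inf F) (h0 : g • pt m (0 : F) 0 = pt m 0 0) :
    ∃ k : Fˣ, g = Hs m k := by
  have h2 := (two0 m : (2 : F) = 0)
  set M : Matrix (Fin 4) (Fin 4) F := (g : Matrix (Fin 4) (Fin 4) F) with hM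
  -- first column
  obtain ⟨a, ha⟩ := (Projectivization.mk_eq_mk_iff' F _ _ ((smul_ne_zero_iff_ne _).2 infv_ne) infv_ne).1 h1
  have ha' : a • (![1, 0, 0, 0] : Fin 4 → F) = M *ᵥ ![1, 0, 0, 0] := ha
  have a0 := congrFun ha' 0
  have a1 := congrFun ha' 1
  have a2 := congrFun ha' 2
  have a3 := congrFun ha' 3
  simp [Matrix.mulVec, dotProduct, Fin.sum_univ_four] at a0 a1 a2 a3
  obtain ⟨d, hd⟩ := (Projectivization.mk_eq_mk_iff' F _ _ ((smul_ne_zero_iff_ne _).2 (ptv_ne m 0 0)) (ptv_ne m 0 0)).1 h0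
  have hf00 : ff m (0 : F) 0 = 0 := (ff_eq_zero m).2 ⟨rfl, rfl⟩
  have hd' : d • (![ff m 0 0, 0, 0, 1] : Fin 4 → F) = M *ᵥ ![ff m 0 0, 0, 0, 1] := hd
  rw [hf00] at hd'
  have d0 := congrFun hd' 0
  have d1 := congrFun hd' 1
  have d2 := congrFun hd' 2
  have d3 := congrFun hd' 3
  simp [Matrix.mulVec, dotProduct, Fin.sum_univ_four] at d0 d1 d2 d3
  -- other points
  have key : ∀ x y : F, ∃ c x' y' : F, c ≠ 0 ∧ c = M 3 1 * y + M 3 2 * x + d ∧ a * ff m x y + M 0 1 * y + M 0 2 * x = c * ff m x' y' ∧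
      M 1 1 * y + M 1 2 * x = c * y' ∧ M 2 1 * y + M 2 2 * x = c * x' ∧ (x' = 0 ∧ y' = 0 → x = 0 ∧ y = 0) := by
    intro x y
    have h3 : g • pt m x y ∈ suzukiOvoid F m := Sz_smul m hg ((mem_ovoid m _).2 (Or.inr ⟨x, y, rfl⟩))
    rcases (mem_ovoid m _).1 h3 with h4 | ⟨x', y', h4⟩
    · exfalso
      rw [← h1] at h4
      exact pt_ne_inf m x y (smul_left_cancel g h4)
    · obtain ⟨c, hc⟩ := (Projectivization.mk_eq_mk_iff' F _ _ ((smul_ne_zero_iff_ne _).2 (ptv_ne m x y)) (ptv_ne m x' y')).1 h4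
      have hc' : c • (![ff m x' y', y', x', 1] : Fin 4 → F) = M *ᵥ ![ff m x y, y, x, 1] := hc
      have c0 := congrFun hc' 0
      have c1 := congrFun hc' 1
      have c2 := congrFun hc' 2
      have c3 := congrFun hc' 3
      simp [Matrix.mulVec, dotProduct, Fin.sum_univ_four] at c0 c1 c2 c3
      rw [← a0, ← d0] at c0
      rw [← a1, ← d1] at c1
      rw [← a2, ← d2] at c2
      rw [← a3, ← d3] at c3
      refine ⟨c, x', y', ?_, ?_, ?_, ?_, ?_, ?_⟩
      · rintro rfl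
        rw [zero_smul] at hc
        exact ((smul_ne_zero_iff_ne g).2 (ptv_ne m x y)) hc.symm
      · rw [c3]; ring
      · rw [c0]; ring
      · rw [c1]; ring
      · rw [c2]; ring
      · rintro ⟨rfl, rfl⟩
        rw [← h0] at h4
        exact pt_inj m (smul_left_cancel g h4)
  have hd0 : d ≠ 0 := by
    obtain ⟨c, x', y', hc, hc2, -⟩ := key 0 0
    rw [mul_zero, mul_zero, zero_add, zero_add] at hc2
    rw [← hc2]; exact hc
  have ha0 : a ≠ 0 := by
    rintro rfl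
    rw [zero_smul] at ha
    exact ((smul_ne_zero_iff_ne g).2 (infv_ne (F := F))) ha.symm
  have m31 : M 3 1 = 0 := by
    by_contra hne
    obtain ⟨c, x', y', hc, hc2, -⟩ := key 0 (d * (M 3 1)⁻¹)
    apply hc
    rw [hc2]
    field_simp
    linear_combination d * h2
  have m32 : M 3 2 = 0 := by
    by_contra hne
    obtain ⟨c, x', y', hc, hc2, -⟩ := key (d * (M 3 2)⁻¹) 0
    apply hc
    rw [hc2]
    field_simp
    linear_combination d * h2
  have m01 : M 0 1 = 0 := by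
    by_contra hne
    obtain ⟨e, he⟩ : ∃ e, e = M 0 1 * a⁻¹ := ⟨_, rfl⟩
    have he0 : e ≠ 0 := by rw [he]; exact mul_ne_zero hne (inv_ne_zero ha0)
    have hte0 : th m e ≠ 0 := fun h => he0 ((th_eq_zero m).1 h)
    obtain ⟨c, x', y', hc, -, h5, -, -, h6⟩ := key 0 (e * th m e)
    have h7 : a * ff m 0 (e * th m e) + M 0 1 * (e * th m e) + M 0 2 * 0 = 0 := by
      have h8 : M 0 1 = a * e := by rw [he]; field_simp
      rw [h8]
      unfold ff
      rw [th_zero, th_mul, th_th]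
      linear_combination (a * e^2 * th m e) * h2
    rw [h7] at h5
    have h8 : ff m x' y' = 0 := by
      rcases mul_eq_zero.1 h5.symm with h | h
      · exact absurd h hc
      · exact h
    have h9 := h6 ((ff_eq_zero m).1 h8)
    exact mul_ne_zero he0 hte0 h9.2
  have m02 : M 0 2 = 0 := by
    by_contra hne
    obtain ⟨e, he⟩ : ∃ e, e = M 0 2 * a⁻¹ := ⟨_, rfl⟩
    have he0 : e ≠ 0 := by rw [he]; exact mul_ne_zero hne (inv_ne_zero ha0)
    have hte0 : th m e ≠ 0 := fun h => he0 ((th_eq_zero m).1 h)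
    obtain ⟨c, x', y', hc, -, h5, -, -, h6⟩ := key (th m e * e⁻¹) 0
    have h7 : a * ff m (th m e * e⁻¹) 0 + M 0 1 * 0 + M 0 2 * (th m e * e⁻¹) = 0 := by
      have h8 : M 0 2 = a * e := by rw [he]; field_simp
      rw [h8]
      unfold ff
      rw [th_zero, th_mul, th_th, th_inv]
      field_simp
      linear_combination (a * th m e * e) * h2
    rw [h7] at h5
    have h8 : ff m x' y' = 0 := by
      rcases mul_eq_zero.1 h5.symm with h | h
      · exact absurd h hc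
      · exact h
    have h9 := h6 ((ff_eq_zero m).1 h8)
    exact mul_ne_zero hte0 (inv_ne_zero he0) h9.1
  -- the quadratic identity
  have key2 : ∀ x y : F, a * d⁻¹ * ff m x y = ff m (M 2 1 * d⁻¹ * y + M 2 2 * d⁻¹ * x) (M 1 1 * d⁻¹ * y + M 1 2 * d⁻¹ * x) := by
    intro x y
    obtain ⟨c, x', y', hc, h3, h4, h5, h6, -⟩ := key x y
    rw [m31, m32, zero_mul, zero_mul, zero_add, zero_add] at h3
    rw [m01, m02, zero_mul, zero_mul, add_zero, add_zero] at h4
    rw [h3] at h4 h5 h6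
    have e1 : M 2 1 * d⁻¹ * y + M 2 2 * d⁻¹ * x = x' := by
      field_simp; linear_combination h6
    have e2 : M 1 1 * d⁻¹ * y + M 1 2 * d⁻¹ * x = y' := by
      field_simp; linear_combination h5
    rw [e1, e2]
    field_simp
    linear_combination h4
  obtain ⟨α, hα⟩ : ∃ α, α = M 1 1 * d⁻¹ := ⟨_, rfl⟩
  obtain ⟨β, hβ⟩ : ∃ β, β = M 2 1 * d⁻¹ := ⟨_, rfl⟩
  obtain ⟨γ, hγ⟩ : ∃ γ, γ = M 1 2 * d⁻¹ := ⟨_, rfl⟩
  obtain ⟨δ, hδ⟩ : ∃ δ, δ = M 2 2 * d⁻¹ := ⟨_, rfl⟩
  obtain ⟨κ, hκ⟩ : ∃ κ, κ = a * d⁻¹ := ⟨_, rfl⟩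
  rw [← hα, ← hβ, ← hγ, ← hδ, ← hκ] at key2
  have hκ0 : κ ≠ 0 := by rw [hκ]; exact mul_ne_zero ha0 (inv_ne_zero hd0)
  obtain ⟨r1, r2, r3⟩ := additive_lemma m (κ + th m α) (α * β) (th m β * β ^ 2) (by
    intro y
    have := key2 0 y
    unfold ff at this
    rw [mul_zero, mul_zero, add_zero, add_zero, th_zero, th_mul, th_mul] at this
    linear_combination this + (α * β * y ^ 2 + (th m β * β ^ 2) * th m y * y ^ 2 + th m α * th m y) * h2)
  obtain ⟨s1, s2, s3⟩ := additive_lemma m (th m γ) (γ * δ) (κ + th m δ * δ ^ 2) (by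
    intro x
    have := key2 x 0
    unfold ff at this
    rw [mul_zero, mul_zero, mul_zero, zero_add, zero_add, zero_add, th_zero, th_mul, th_mul] at this
    linear_combination this + (γ * δ * x ^ 2 + (th m δ * δ ^ 2) * th m x * x ^ 2 + th m γ * th m x) * h2)
  have hβ0 : β = 0 := by
    rcases mul_eq_zero.1 r1 with h | h
    · exact (th_eq_zero m).1 h
    · exact pow_eq_zero_iff (two_ne_zero) |>.1 h
  have hγ0 : γ = 0 := (th_eq_zero m).1 s2
  have t1 : κ = th m α := eq_of_add_zero m r2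
  have t2 : κ = th m δ * δ ^ 2 := eq_of_add_zero m s1
  have t3 : κ = δ * α := by
    have := key2 1 1
    unfold ff at this
    simp only [hβ0, hγ0, zero_mul, zero_add, add_zero, mul_one, th_one, one_pow] at this
    linear_combination this - t1 - t2
  have hδ0 : δ ≠ 0 := by
    rintro rfl
    rw [zero_mul] at t3
    exact hκ0 t3
  have hα2 : α = th m δ * δ := by
    have h5 : δ * (α - th m δ * δ) = 0 := by linear_combination t2 - t3
    rcases mul_eq_zero.1 h5 with h | h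
    · exact absurd h hδ0
    · exact sub_eq_zero.1 h
  have hr : rh m δ ^ 2 = th m δ := rh_sq m δ
  have hr0 : rh m δ ≠ 0 := fun h => hδ0 ((rh_eq_zero m).1 h)
  have m00 : M 0 0 = d * δ ^ 2 * rh m δ ^ 2 := by
    rw [← a0, hr]
    have : a = κ * d := by rw [hκ]; field_simp
    rw [this, t2]; ring
  have m11 : M 1 1 = d * δ * rh m δ ^ 2 := by
    have : M 1 1 = α * d := by rw [hα]; field_simp
    rw [this, hα2, hr]; ring
  have m22 : M 2 2 = d * δ := by
    have : M 2 2 = δ * d := by rw [hδ]; field_simp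
    rw [this]; ring
  have m21 : M 2 1 = 0 := by
    rw [hβ] at hβ0
    rcases mul_eq_zero.1 hβ0 with h | h
    · exact h
    · exact absurd h (inv_ne_zero hd0)
  have m12 : M 1 2 = 0 := by
    rw [hγ] at hγ0
    rcases mul_eq_zero.1 hγ0 with h | h
    · exact h
    · exact absurd h (inv_ne_zero hd0)
  have hMd : M = Matrix.diagonal ![d * δ ^ 2 * rh m δ ^ 2, d * δ * rh m δ ^ 2, d * δ, d] := by
    ext i j
    fin_cases i <;> fin_cases j <;> simp [m00, m11, m22, ← d3, m01, m02, m31, m32, m12, m21, ← d0, ← d1, ← d2, ← a1, ← a2, ← a3]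
  have hdet : d * δ * rh m δ = 1 := by
    have h5 : M.det = 1 := g.2
    rw [hMd, Matrix.det_diagonal, Fin.prod_univ_four] at h5
    have h6 : ((d * δ * rh m δ) ^ 2) ^ 2 = (1 ^ 2) ^ 2 := by
      rw [one_pow, one_pow, ← h5]
      simp
      ring
    exact sq_inj m (sq_inj m h6)
  have hdv : d = (δ * rh m δ)⁻¹ := by
    field_simp
    linear_combination hdet
  refine ⟨Units.mk0 δ hδ0, ?_⟩
  apply Subtype.ext
  show M = Hm m δ
  rw [hMd, Hm]
  congr 1
  funext i
  fin_cases i <;> simp [hdv] <;> field_simp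

/-! ### the group -/

def U (a b : F) : ↥(Cfsg.Sz F m) := ⟨Us m a b, Us_mem m a b⟩

def W (F : Type*) [Field F] [Fintype F] (m : ℕ) [H : Hyp F m] : ↥(Cfsg.Sz F m) := ⟨Ws F, Ws_mem m⟩

def T (m : ℕ) [H : Hyp F m] : Fˣ →* ↥(Cfsg.Sz F m) where
  toFun k := ⟨Hs m k, Hs_mem m k⟩
  map_one' := Subtype.ext (Hs_one m)
  map_mul' k l := Subtype.ext (Hs_mul m k l).symm

theorem U_mul (a b c d : F) : U m a b * U m c d = U m (a + c) (b + d + th m a * c) := Subtype.ext (Us_mul m a b c d)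

theorem U_zero : U m (0 : F) 0 = 1 := Subtype.ext (Us_zero m)

theorem W_mul : W F m * W F m = 1 := Subtype.ext Ws_mul

theorem W_inv : (W F m)⁻¹ = W F m := inv_eq_of_mul_eq_one_left (W_mul m)

theorem W_T (k : Fˣ) : W F m * T m k = T m k⁻¹ * W F m := Subtype.ext (WHs m k)

theorem T_U (k : Fˣ) (a b : F) : T m k * U m a b = U m ((k : F) * a) ((k : F) * th m (k : F) * b) * T m k := Subtype.ext (HUs m k a b)

theorem U_inv (a b : F) : (U m a b)⁻¹ = U m a (b + th m a * a) := by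
  apply inv_eq_of_mul_eq_one_left
  rw [U_mul, add_self m a]
  have : b + th m a * a + b + th m a * a = (0 : F) := by
    linear_combination (b + th m a * a) * (two0 m : (2 : F) = 0)
  rw [this, U_zero]

theorem T_conj_U (k : Fˣ) (a b : F) : T m k * U m a b * (T m k)⁻¹ = U m ((k : F) * a) ((k : F) * th m (k : F) * b) := by
  rw [T_U, mul_assoc, mul_inv_cancel, mul_one]

/-- action on the points -/
theorem U_pt (a b x y : F) : U m a b • pt m x y = pt m (x + a) (y + b + th m a * x) := Us_pt m a b x y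

theorem U_inf (a b : F) : U m a b • inf F = inf F := Us_inf m a b

theorem T_pt (k : Fˣ) (x y : F) : T m k • pt m x y = pt m ((k : F) * x) ((k : F) * th m (k : F) * y) := Hs_pt m k x y

theorem T_inf (k : Fˣ) : T m k • inf F = inf F := Hs_inf m k

theorem W_inf : W F m • inf F = pt m (0 : F) 0 := Ws_inf m

theorem W_pt0 : W F m • pt m (0 : F) 0 = inf F := Ws_zero m

theorem W_pt {x y : F} (h : ¬ (x = 0 ∧ y = 0)) : W F m • pt m x y = pt m (y * (ff m x y)⁻¹) (x * (ff m x y)⁻¹) := Ws_pt m h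

theorem U_pt0 (a b : F) : U m a b • pt m 0 0 = pt m a b := by
  rw [U_pt, zero_add, zero_add, mul_zero, add_zero]

theorem T_pt0 (k : Fˣ) : T m k • pt m (0 : F) 0 = pt m 0 0 := by
  rw [T_pt, mul_zero, mul_zero]

theorem two_pt' {g : ↥(Cfsg.Sz F m)} (h1 : g • inf F = inf F) (h0 : g • pt m (0 : F) 0 = pt m 0 0) : ∃ k : Fˣ, g = T m k := by
  obtain ⟨k, hk⟩ := two_pt m g.2 h1 h0
  exact ⟨k, Subtype.ext hk⟩

theorem smul_mem (g : ↥(Cfsg.Sz F m)) {p : Projectivization F (Fin 4 → F)} (hp : p ∈ suzukiOvoid F m) : g • p ∈ suzukiOvoid F m :=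
  Sz_smul m g.2 hp

/-- the stabilizer of infinity -/
theorem fix_inf {g : ↥(Cfsg.Sz F m)} (h1 : g • inf F = inf F) : ∃ a b : F, ∃ k : Fˣ, g = U m a b * T m k := by
  have h3 : g • pt m (0 : F) 0 ∈ suzukiOvoid F m := smul_mem m g ((mem_ovoid m _).2 (Or.inr ⟨0, 0, rfl⟩))
  rcases (mem_ovoid m _).1 h3 with h4 | ⟨a, b, h4⟩
  · exfalso
    rw [← h1] at h4
    exact pt_ne_inf m 0 0 (smul_left_cancel g h4)
  · obtain ⟨k, hk⟩ := two_pt' m (g := (U m a b)⁻¹ * g) (by
      rw [mul_smul, h1, inv_smul_eq_iff, U_inf]) (by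
      rw [mul_smul, h4, inv_smul_eq_iff, U_pt0])
    exact ⟨a, b, k, by rw [← hk]; group⟩

theorem bruhat (g : ↥(Cfsg.Sz F m)) : (∃ a b : F, ∃ k : Fˣ, g = U m a b * T m k) ∨ (∃ a b c d : F, ∃ k : Fˣ, g = U m a b * W F m * U m c d * T m k) := by
  have h3 : g • inf F ∈ suzukiOvoid F m := smul_mem m g ((mem_ovoid m _).2 (Or.inl rfl))
  rcases (mem_ovoid m _).1 h3 with h4 | ⟨a, b, h4⟩
  · left; exact fix_inf m h4
  · right
    obtain ⟨c, d, k, hk⟩ := fix_inf m (g := (U m a b * W F m)⁻¹ * g) (by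
      rw [mul_smul, h4, inv_smul_eq_iff, mul_smul, W_inf, U_pt0])
    exact ⟨a, b, c, d, k, by rw [mul_assoc (U m a b * W F m), ← hk]; group⟩

end Cfsg.Agent.H8.Suz
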