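import Mathlib
import Cfsg.Agent.H8.SzC
import Cfsg.Agent.S0326

set_option autoImplicit false

namespace Cfsg.Agent.H8.Suz

open Matrix
open scoped Pointwise

variable {F : Type*} [Field F] [Fintype F] (m : ℕ) [H : Hyp F m]

abbrev Om (F : Type*) [Field F] (m : ℕ) : Type _ := ↥(suzukiOvoid F m)

omit [Fintype F] H in
def oi (F : Type*) [Field F] (m : ℕ) : Om F m := ⟨inf F, (mem_ovoid m _).2 (Or.inl rfl)⟩

omit [Fintype F] H in
def op (a b : F) : Om F m := ⟨pt m a b, (mem_ovoid m _).2 (Or.inr ⟨a, b, rfl⟩)⟩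

omit [Fintype F] H in
theorem op_ne_oi (a b : F) : op m a b ≠ oi F m := fun h => pt_ne_inf m a b (congrArg Subtype.val h)

omit [Fintype F] H in
theorem op_inj {a b a' b' : F} (h : op m a b = op m a' b') : a = a' ∧ b = b' := pt_inj m (congrArg Subtype.val h)

omit [Fintype F] H in
theorem om_cases (p : Om F m) : p = oi F m ∨ ∃ a b, p = op m a b := by
  rcases (mem_ovoid m _).1 p.2 with h | ⟨a, b, h⟩
  · left; exact Subtype.ext h
  · right; exact ⟨a, b, Subtype.ext h⟩

omit [Fintype F] H in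
theorem smul_val (g : ↥(Cfsg.Sz F m)) (p : Om F m) : ((g • p : Om F m) : Projectivization F (Fin 4 → F)) = g • (p : Projectivization F (Fin 4 → F)) := rfl

theorem U_op (a b x y : F) : U m a b • op m x y = op m (x + a) (y + b + th m a * x) := Subtype.ext (U_pt m a b x y)

theorem U_oi (a b : F) : U m a b • oi F m = oi F m := Subtype.ext (U_inf m a b)

theorem T_op (k : Fˣ) (x y : F) : T m k • op m x y = op m ((k : F) * x) ((k : F) * th m (k : F) * y) := Subtype.ext (T_pt m k x y)

theorem T_oi (k : Fˣ) : T m k • oi F m = oi F m := Subtype.ext (T_inf m k)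

theorem W_oi : W F m • oi F m = op m (0 : F) 0 := Subtype.ext (W_inf m)

theorem W_op0 : W F m • op m (0 : F) 0 = oi F m := Subtype.ext (W_pt0 m)

theorem W_op {x y : F} (h : ¬ (x = 0 ∧ y = 0)) : W F m • op m x y = op m (y * (ff m x y)⁻¹) (x * (ff m x y)⁻¹) := Subtype.ext (W_pt m h)

theorem U_op0 (a b : F) : U m a b • op m (0 : F) 0 = op m a b := Subtype.ext (U_pt0 m a b)

theorem T_op0 (k : Fˣ) : T m k • op m (0 : F) 0 = op m 0 0 := Subtype.ext (T_pt0 m k)

theorem two_op {g : ↥(Cfsg.Sz F m)} (h1 : g • oi F m = oi F m) (h0 : g • op m (0 : F) 0 = op m 0 0) : ∃ k : Fˣ, g = T m k :=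
  two_pt' m (congrArg Subtype.val h1) (congrArg Subtype.val h0)

theorem fix_oi {g : ↥(Cfsg.Sz F m)} (h1 : g • oi F m = oi F m) : ∃ a b : F, ∃ k : Fˣ, g = U m a b * T m k := fix_inf m (congrArg Subtype.val h1)

theorem UT_oi (a b : F) (k : Fˣ) : (U m a b * T m k) • oi F m = oi F m := by rw [mul_smul, T_oi, U_oi]

theorem UT_op0 (a b : F) (k : Fˣ) : (U m a b * T m k) • op m (0 : F) 0 = op m a b := by rw [mul_smul, T_op0, U_op0]

theorem T_inj : Function.Injective (T m : Fˣ →* ↥(Cfsg.Sz F m)) := by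
  intro k l h
  have h1 : T m k • op m (1 : F) 0 = T m l • op m (1 : F) 0 := by rw [h]
  rw [T_op, T_op] at h1
  have := (op_inj m h1).1
  rw [mul_one, mul_one] at this
  exact Units.ext this

theorem UT_inj {a b a' b' : F} {k k' : Fˣ} (h : U m a b * T m k = U m a' b' * T m k') : a = a' ∧ b = b' ∧ k = k' := by
  have h1 : (U m a b * T m k) • op m (0 : F) 0 = (U m a' b' * T m k') • op m (0 : F) 0 := by rw [h]
  rw [UT_op0, UT_op0] at h1
  obtain ⟨rfl, rfl⟩ := op_inj m h1
  exact ⟨rfl, rfl, T_inj m (mul_left_cancel h)⟩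

theorem U_inj {a b a' b' : F} (h : U m a b = U m a' b') : a = a' ∧ b = b' := by
  have : U m a b * T m 1 = U m a' b' * T m 1 := by rw [h]
  obtain ⟨h1, h2, -⟩ := UT_inj m this
  exact ⟨h1, h2⟩

theorem two_trans : MulAction.IsMultiplyPretransitive ↥(Cfsg.Sz F m) (Om F m) 2 := by
  rw [MulAction.is_two_pretransitive_iff]
  have key : ∀ a b : Om F m, a ≠ b → ∃ g : ↥(Cfsg.Sz F m), g • oi F m = a ∧ g • op m (0 : F) 0 = b := by
    intro a b hab
    obtain ⟨g, hg⟩ : ∃ g : ↥(Cfsg.Sz F m), g • oi F m = a := by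
      rcases om_cases m a with rfl | ⟨x, y, rfl⟩
      · exact ⟨1, one_smul _ _⟩
      · exact ⟨U m x y * W F m, by rw [mul_smul, W_oi, U_op0]⟩
    have hb : g⁻¹ • b ≠ oi F m := by
      intro h
      apply hab
      rw [← hg, ← h, smul_inv_smul]
    rcases om_cases m (g⁻¹ • b) with h | ⟨x, y, h⟩
    · exact absurd h hb
    · refine ⟨g * U m x y, ?_, ?_⟩
      · rw [mul_smul, U_oi, hg]
      · rw [mul_smul, U_op0, ← h, smul_inv_smul]
  intro a b c d hab hcd
  obtain ⟨g, h1, h2⟩ := key a b hab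
  obtain ⟨g', h3, h4⟩ := key c d hcd
  exact ⟨g' * g⁻¹, by rw [← h1, mul_smul, inv_smul_smul, h3], by rw [← h2, mul_smul, inv_smul_smul, h4]⟩

/-- the Borel subgroup -/
def B (F : Type*) [Field F] [Fintype F] (m : ℕ) [H : Hyp F m] : Subgroup ↥(Cfsg.Sz F m) := MulAction.stabilizer ↥(Cfsg.Sz F m) (oi F m)

theorem mem_B {g : ↥(Cfsg.Sz F m)} : g ∈ B F m ↔ g • oi F m = oi F m := MulAction.mem_stabilizer_iff

theorem card_B : Nat.card (B F m) = (2 ^ (2 * m + 1)) ^ 2 * (2 ^ (2 * m + 1) - 1) := by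
  let f : F × F × Fˣ → B F m := fun x => ⟨U m x.1 x.2.1 * T m x.2.2, UT_oi m _ _ _⟩
  have hf : Function.Bijective f := by
    constructor
    · rintro ⟨a, b, k⟩ ⟨a', b', k'⟩ h
      obtain ⟨rfl, rfl, rfl⟩ := UT_inj m (congrArg Subtype.val h)
      rfl
    · rintro ⟨g, hg⟩
      obtain ⟨a, b, k, h⟩ := fix_oi m hg
      exact ⟨(a, b, k), Subtype.ext h.symm⟩
  rw [← Nat.card_congr (Equiv.ofBijective f hf), Nat.card_prod, Nat.card_prod, Nat.card_units, Nat.card_eq_fintype_card, H.hF]
  ring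

omit H in
theorem card_Om : Nat.card (Om F m) = Fintype.card F ^ 2 + 1 := Cfsg.Agent.S0326.result m

theorem pretrans (F : Type*) [Field F] [Fintype F] (m : ℕ) [H : Hyp F m] : MulAction.IsPretransitive ↥(Cfsg.Sz F m) (Om F m) :=
  haveI := two_trans (F := F) m
  MulAction.isPretransitive_of_is_two_pretransitive

theorem card_G : Nat.card ↥(Cfsg.Sz F m) = (2 ^ (2 * m + 1)) ^ 2 * ((2 ^ (2 * m + 1)) ^ 2 + 1) * (2 ^ (2 * m + 1) - 1) := by
  haveI := pretrans F m
  have h1 := MulAction.index_stabilizer_of_transitive ↥(Cfsg.Sz F m) (oi F m)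
  have h2 := (B F m).card_mul_index
  rw [card_B] at h2
  have h3 : (B F m).index = (2 ^ (2 * m + 1)) ^ 2 + 1 := by
    rw [← H.hF]
    exact h1.trans (card_Om m)
  rw [h3] at h2
  rw [← h2]; ring

/-- only the identity fixes three points -/
theorem three_pts {g : ↥(Cfsg.Sz F m)} {a b c : Om F m} (hab : a ≠ b) (hbc : b ≠ c) (hac : a ≠ c) (ha : g • a = a) (hb : g • b = b) (hc : g • c = c) : g = 1 := by
  obtain ⟨x, hx1, hx2⟩ := (MulAction.is_two_pretransitive_iff.1 (two_trans (F := F) m)) hab (op_ne_oi (F := F) m 0 0).symm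
  have h1 : x * g * x⁻¹ = 1 := by
    obtain ⟨k, hk⟩ := two_op m (g := x * g * x⁻¹) (by
      rw [← hx1, mul_smul, mul_smul, inv_smul_smul, ha]) (by
      rw [← hx2, mul_smul, mul_smul, inv_smul_smul, hb])
    have h3 : (x * g * x⁻¹) • (x • c) = x • c := by
      rw [mul_smul, mul_smul, inv_smul_smul, hc]
    rw [hk] at h3 ⊢
    rcases om_cases m (x • c) with h | ⟨u, v, h⟩
    · exfalso
      rw [← hx1] at h
      exact hac (smul_left_cancel x h).symm
    · rw [h, T_op] at h3
      obtain ⟨h4, h5⟩ := op_inj m h3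
      have hk1 : (k : F) = 1 := by
        by_cases hu : u = 0
        · have hv : v ≠ 0 := by
            rintro rfl
            rw [hu, ← hx2] at h
            exact hbc (smul_left_cancel x h).symm
          have h6 : (k : F) * th m (k : F) = 1 := by
            have : ((k : F) * th m (k : F) - 1) * v = 0 := by linear_combination h5
            rcases mul_eq_zero.1 this with h7 | h7
            · exact sub_eq_zero.1 h7
            · exact absurd h7 hv
          have h7 : th m (k : F) * (k : F) ^ 2 = 1 := by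
            have := congrArg (th m) h6
            rwa [th_mul, th_th, th_one] at this
          have h8 : (k : F) = 1 := by
            have : (k : F) * ((k : F) * th m (k : F)) = 1 := by linear_combination h7
            rwa [h6, mul_one] at this
          exact h8
        · have : ((k : F) - 1) * u = 0 := by linear_combination h4
          rcases mul_eq_zero.1 this with h7 | h7
          · exact sub_eq_zero.1 h7
          · exact absurd h7 hu
      have hk2 : k = 1 := Units.ext hk1
      rw [hk2, map_one]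
  have h2 : g = x⁻¹ * (x * g * x⁻¹) * x := by group
  rw [h2, h1]; group

theorem faithful : FaithfulSMul ↥(Cfsg.Sz F m) (Om F m) := by
  constructor
  intro g h hgh
  have : h⁻¹ * g = 1 := by
    apply three_pts m (op_ne_oi (F := F) m 0 0) (op_ne_oi (F := F) m 1 0).symm (fun h => zero_ne_one (op_inj m h).1)
    all_goals rw [mul_smul, hgh, inv_smul_smul]
  rw [inv_mul_eq_one] at this
  exact this.symm

end Cfsg.Agent.H8.Suz
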