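import Mathlib
import Cfsg.Agent.H8.SzD

set_option autoImplicit false

namespace Cfsg.Agent.H8.Suz

open Matrix
open scoped Pointwise commutatorElement

variable {F : Type*} [Field F] [Fintype F] (m : ℕ) [H : Hyp F m]

/-- the unipotent radical -/
def Q (F : Type*) [Field F] [Fintype F] (m : ℕ) [H : Hyp F m] : Subgroup ↥(Cfsg.Sz F m) where
  carrier := {g | ∃ a b : F, g = U m a b}
  one_mem' := ⟨0, 0, (U_zero m).symm⟩
  mul_mem' := by
    rintro _ _ ⟨a, b, rfl⟩ ⟨c, d, rfl⟩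
    exact ⟨_, _, U_mul m a b c d⟩
  inv_mem' := by
    rintro _ ⟨a, b, rfl⟩
    exact ⟨_, _, U_inv m a b⟩

/-- its centre -/
def Z (F : Type*) [Field F] [Fintype F] (m : ℕ) [H : Hyp F m] : Subgroup ↥(Cfsg.Sz F m) where
  carrier := {g | ∃ b : F, g = U m 0 b}
  one_mem' := ⟨0, (U_zero m).symm⟩
  mul_mem' := by
    rintro _ _ ⟨b, rfl⟩ ⟨d, rfl⟩
    refine ⟨b + d, ?_⟩
    rw [U_mul, add_zero, mul_zero, add_zero]
  inv_mem' := by
    rintro _ ⟨b, rfl⟩
    exact ⟨_, by rw [U_inv]⟩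

theorem mem_Q {g : ↥(Cfsg.Sz F m)} : g ∈ Q F m ↔ ∃ a b : F, g = U m a b := Iff.rfl
theorem mem_Z {g : ↥(Cfsg.Sz F m)} : g ∈ Z F m ↔ ∃ b : F, g = U m 0 b := Iff.rfl

theorem U_mem_Q (a b : F) : U m a b ∈ Q F m := ⟨a, b, rfl⟩
theorem U_mem_Z (b : F) : U m 0 b ∈ Z F m := ⟨b, rfl⟩

theorem Z_le_Q : Z F m ≤ Q F m := by
  rintro _ ⟨b, rfl⟩; exact U_mem_Q m 0 b

theorem Q_le_B : Q F m ≤ B F m := by
  rintro _ ⟨a, b, rfl⟩; exact U_oi m a b

theorem T_mem_B (k : Fˣ) : T m k ∈ B F m := T_oi m k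

theorem card_Q : Nat.card (Q F m) = (2 ^ (2 * m + 1)) ^ 2 := by
  let f : F × F → Q F m := fun x => ⟨U m x.1 x.2, U_mem_Q m _ _⟩
  have hf : Function.Bijective f := by
    constructor
    · rintro ⟨a, b⟩ ⟨a', b'⟩ h
      obtain ⟨rfl, rfl⟩ := U_inj m (congrArg Subtype.val h)
      rfl
    · rintro ⟨g, a, b, h⟩
      exact ⟨(a, b), Subtype.ext h.symm⟩
  rw [← Nat.card_congr (Equiv.ofBijective f hf), Nat.card_prod, Nat.card_eq_fintype_card, H.hF]
  ring

theorem card_Z : Nat.card (Z F m) = 2 ^ (2 * m + 1) := by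
  let f : F → Z F m := fun x => ⟨U m 0 x, U_mem_Z m _⟩
  have hf : Function.Bijective f := by
    constructor
    · intro a b h
      exact (U_inj m (congrArg Subtype.val h)).2
    · rintro ⟨g, b, h⟩
      exact ⟨b, Subtype.ext h.symm⟩
  rw [← Nat.card_congr (Equiv.ofBijective f hf), Nat.card_eq_fintype_card, H.hF]

theorem card_units : Nat.card Fˣ = 2 ^ (2 * m + 1) - 1 := by
  rw [Nat.card_units, Nat.card_eq_fintype_card, H.hF]

theorem card_T : Nat.card (T m : Fˣ →* ↥(Cfsg.Sz F m)).range = 2 ^ (2 * m + 1) - 1 := by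
  rw [← card_units (F := F) m]
  exact (Nat.card_congr (MonoidHom.ofInjective (T_inj (F := F) m)).toEquiv).symm

include H in
theorem odd_units : Odd (Nat.card Fˣ) := by
  rw [card_units (F := F) m]
  exact Nat.Even.sub_odd (Nat.one_le_two_pow) (even_iff_two_dvd.2 (dvd_pow_self 2 (by omega))) odd_one

include H in
/-- every unit is a square -/
theorem unit_sq (k : Fˣ) : ∃ l : Fˣ, k = l ^ 2 := by
  have h1 := odd_units (F := F) m
  obtain ⟨n, hn⟩ := h1
  refine ⟨k ^ (n + 1), ?_⟩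
  rw [← pow_mul]
  have : (n + 1) * 2 = Nat.card Fˣ + 1 := by omega
  rw [this, pow_succ, pow_card_eq_one', one_mul]

theorem UT_pow (a b : F) (k : Fˣ) (n : ℕ) : ∃ a' b' : F, (U m a b * T m k) ^ n = U m a' b' * T m (k ^ n) := by
  induction n with
  | zero => exact ⟨0, 0, by rw [pow_zero, pow_zero, U_zero, map_one, one_mul]⟩
  | succ n ih =>
    obtain ⟨a', b', h⟩ := ih
    rw [pow_succ, h, pow_succ, map_mul]
    refine ⟨a' + ((k ^ n : Fˣ) : F) * a, b' + ((k ^ n : Fˣ) : F) * th m ((k ^ n : Fˣ) : F) * b + th m a' * (((k ^ n : Fˣ) : F) * a), ?_⟩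
    rw [← U_mul]
    calc U m a' b' * T m (k ^ n) * (U m a b * T m k) = U m a' b' * (T m (k ^ n) * U m a b) * T m k := by group
      _ = _ := by rw [T_U]; group

/-- 2-elements of the Borel subgroup are unipotent -/
theorem mem_Q_of_pow {g : ↥(Cfsg.Sz F m)} (hg : g • oi F m = oi F m) {n : ℕ} (h : g ^ (2 ^ n) = 1) : g ∈ Q F m := by
  obtain ⟨a, b, k, rfl⟩ := fix_oi m hg
  obtain ⟨a', b', h1⟩ := UT_pow m a b k (2 ^ n)
  rw [h1] at h
  have h2 : U m a' b' * T m (k ^ 2 ^ n) = U m 0 0 * T m 1 := by rw [h, U_zero, map_one, one_mul]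
  obtain ⟨-, -, h3⟩ := UT_inj m h2
  have h4 : orderOf k ∣ 2 ^ n := orderOf_dvd_of_pow_eq_one h3
  have h5 : orderOf k ∣ Nat.card Fˣ := orderOf_dvd_natCard k
  have h6 : Nat.Coprime (2 ^ n) (Nat.card Fˣ) := Nat.Coprime.pow_left _ ((Nat.coprime_two_left).2 (odd_units (F := F) m))
  have h7 : orderOf k = 1 := Nat.eq_one_of_dvd_coprimes h6 h4 h5
  rw [orderOf_eq_one_iff] at h7
  rw [h7, map_one, mul_one]
  exact U_mem_Q m a b

theorem U_sq (a b : F) : U m a b * U m a b = U m 0 (th m a * a) := by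
  rw [U_mul, add_self m a, add_self m b, zero_add]

theorem mem_Z_of_sq {g : ↥(Cfsg.Sz F m)} (hg : g • oi F m = oi F m) (h : g * g = 1) : g ∈ Z F m := by
  obtain ⟨a, b, rfl⟩ := mem_Q_of_pow m hg (n := 1) (by rw [pow_one, sq, h])
  rw [U_sq, ← U_zero m] at h
  obtain ⟨-, h1⟩ := U_inj m h
  have ha : a = 0 := by
    rcases mul_eq_zero.1 h1 with h2 | h2
    · exact (th_eq_zero m).1 h2
    · exact h2
  rw [ha]; exact U_mem_Z m b

theorem W_fix : W F m • op m (1 : F) 1 = op m 1 1 := by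
  rw [W_op m (fun h => one_ne_zero h.1)]
  have : ff m (1 : F) 1 = 1 := by
    unfold ff
    rw [th_one]
    linear_combination (1 : F) * (two0 m : (2 : F) = 0)
  rw [this]; simp

include H in
theorem exists_unit_ne : ∃ k : Fˣ, (k : F) ≠ 1 := by
  obtain ⟨y, h0, h1⟩ := exists_ne01 (F := F) (by have := card_ge (F := F) m; omega)
  exact ⟨Units.mk0 y h0, h1⟩

include H in
theorem unit_th_ne {k : Fˣ} (hk : (k : F) ≠ 1) : (k : F) * th m (k : F) ≠ 1 := by
  intro h6
  apply hk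
  have h7 : th m (k : F) * (k : F) ^ 2 = 1 := by
    have := congrArg (th m) h6
    rwa [th_mul, th_th, th_one] at this
  have : (k : F) * ((k : F) * th m (k : F)) = 1 := by linear_combination h7
  rwa [h6, mul_one] at this

/-- a normal subgroup containing the root group `Z` is everything -/
theorem normal_top (N : Subgroup ↥(Cfsg.Sz F m)) [hN : N.Normal] (h : ∀ b : F, U m 0 b ∈ N) : N = ⊤ := by
  have hW : W F m ∈ N := by
    haveI := pretrans F m
    obtain ⟨x, hx⟩ := MulAction.exists_smul_eq ↥(Cfsg.Sz F m) (oi F m) (op m (1 : F) 1)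
    have h1 : x⁻¹ * W F m * x ∈ Z F m := by
      apply mem_Z_of_sq
      · rw [mul_smul, mul_smul, hx, W_fix, ← hx, inv_smul_smul]
      · have : x⁻¹ * W F m * x * (x⁻¹ * W F m * x) = x⁻¹ * (W F m * W F m) * x := by group
        rw [this, W_mul]; group
    obtain ⟨b, hb⟩ := h1
    have h2 := hN.conj_mem _ (h b) x
    rw [← hb] at h2
    have : x * (x⁻¹ * W F m * x) * x⁻¹ = W F m := by group
    rwa [this] at h2
  have hT : ∀ k : Fˣ, T m k ∈ N := by
    intro k
    obtain ⟨l, hl⟩ := unit_sq m k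
    have h1 := hN.conj_mem _ hW (T m l)
    have h2 := N.mul_mem h1 hW
    have h3 : T m l * W F m * (T m l)⁻¹ * W F m = T m k := by
      rw [mul_assoc _ (T m l)⁻¹, ← map_inv, mul_assoc]
      have : T m l⁻¹ * W F m = W F m * T m l := (W_T m l).symm
      rw [this, ← mul_assoc (W F m), W_mul, one_mul, ← map_mul, hl, sq]
    rwa [h3] at h2
  have hU : ∀ a b : F, U m a b ∈ N := by
    intro a b
    obtain ⟨k, hk⟩ := exists_unit_ne (F := F) m
    have hk2 : (k : F) + 1 ≠ 0 := fun h0 => hk (eq_of_add_zero m h0)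
    have h1 : T m k * U m (a * ((k : F) + 1)⁻¹) 0 * (T m k)⁻¹ * (U m (a * ((k : F) + 1)⁻¹) 0)⁻¹ ∈ N := by
      have h2 := hN.conj_mem _ (N.inv_mem (hT k)) (U m (a * ((k : F) + 1)⁻¹) 0)
      have h3 := N.mul_mem (hT k) h2
      convert h3 using 1; group
    rw [T_conj_U, U_inv, U_mul] at h1
    have h4 : (k : F) * (a * ((k : F) + 1)⁻¹) + a * ((k : F) + 1)⁻¹ = a := by
      field_simp
    rw [h4] at h1
    obtain ⟨e, he⟩ : ∃ e, U m a e ∈ N := ⟨_, h1⟩
    have h5 := N.mul_mem he (h (b + e))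
    have h6 : U m a e * U m 0 (b + e) = U m a b := by
      rw [U_mul, add_zero, mul_zero, add_zero]
      congr 1
      linear_combination e * (two0 m : (2 : F) = 0)
    rwa [h6] at h5
  rw [eq_top_iff]
  intro g _
  rcases bruhat m g with ⟨a, b, k, rfl⟩ | ⟨a, b, c, d, k, rfl⟩
  · exact N.mul_mem (hU _ _) (hT _)
  · exact N.mul_mem (N.mul_mem (N.mul_mem (hU _ _) hW) (hU _ _)) (hT _)

theorem perfect : commutator ↥(Cfsg.Sz F m) = ⊤ := by
  apply normal_top m
  intro b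
  obtain ⟨k, hk⟩ := exists_unit_ne (F := F) m
  have hk2 : (k : F) * th m (k : F) + 1 ≠ 0 := fun h0 => unit_th_ne m hk (eq_of_add_zero m h0)
  have h1 : ⁅T m k, U m (0 : F) (b * ((k : F) * th m (k : F) + 1)⁻¹)⁆ ∈ commutator ↥(Cfsg.Sz F m) := Subgroup.commutator_mem_commutator (Subgroup.mem_top _) (Subgroup.mem_top _)
  simp only [commutatorElement_def, T_conj_U, U_inv, U_mul, mul_zero, zero_add, th_zero, zero_mul, add_zero] at h1
  convert h1 using 2
  field_simp

noncomputable def iwasawa : MulAction.IwasawaStructure ↥(Cfsg.Sz F m) (Om F m) where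
  T p := Subgroup.closure {g | g • p = p ∧ g * g = 1}
  is_comm p := by
    apply Subgroup.isMulCommutative_closure
    haveI := pretrans F m
    obtain ⟨x, hx⟩ := MulAction.exists_smul_eq ↥(Cfsg.Sz F m) (oi F m) p
    have key : ∀ g : ↥(Cfsg.Sz F m), g • p = p → g * g = 1 → ∃ b : F, g = x * U m 0 b * x⁻¹ := by
      intro g hg hg2
      have h1 : x⁻¹ * g * x ∈ Z F m := by
        apply mem_Z_of_sq
        · rw [mul_smul, mul_smul, hx, hg, ← hx, inv_smul_smul]
        · have : x⁻¹ * g * x * (x⁻¹ * g * x) = x⁻¹ * (g * g) * x := by group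
          rw [this, hg2]; group
      obtain ⟨b, hb⟩ := h1
      exact ⟨b, by rw [← hb]; group⟩
    rintro g ⟨hg, hg2⟩ h ⟨hh, hh2⟩
    obtain ⟨b, rfl⟩ := key g hg hg2
    obtain ⟨c, rfl⟩ := key h hh hh2
    have h1 : U m 0 b * U m 0 c = U m 0 c * U m 0 b := by
      rw [U_mul, U_mul, mul_zero, add_zero, add_zero, add_zero, add_comm b c]
    calc x * U m 0 b * x⁻¹ * (x * U m 0 c * x⁻¹) = x * (U m 0 b * U m 0 c) * x⁻¹ := by group
      _ = x * (U m 0 c * U m 0 b) * x⁻¹ := by rw [h1]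
      _ = _ := by group
  is_conj g x := by
    rw [Subgroup.smul_closure]
    congr 1
    ext h
    rw [Set.mem_smul_set_iff_inv_smul_mem]
    show h • g • x = g • x ∧ h * h = 1 ↔ ((MulAut.conj g)⁻¹ h) • x = x ∧ (MulAut.conj g)⁻¹ h * (MulAut.conj g)⁻¹ h = 1
    rw [← map_inv, MulAut.conj_apply, inv_inv, mul_smul, mul_smul, inv_smul_eq_iff]
    have : g⁻¹ * h * g * (g⁻¹ * h * g) = 1 ↔ h * h = 1 := by
      have e : g⁻¹ * h * g * (g⁻¹ * h * g) = g⁻¹ * (h * h) * g := by group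
      rw [e]
      constructor
      · intro h1
        have : h * h = g * (g⁻¹ * (h * h) * g) * g⁻¹ := by group
        rw [this, h1]; group
      · intro h1
        rw [h1]; group
    rw [this]
  is_generator := by
    set N : Subgroup ↥(Cfsg.Sz F m) := ⨆ p : Om F m, Subgroup.closure {g | g • p = p ∧ g * g = 1} with hN
    have hle : ∀ p : Om F m, ∀ g : ↥(Cfsg.Sz F m), g • p = p → g * g = 1 → g ∈ N := fun p g h1 h2 =>
      (le_iSup (fun p : Om F m => Subgroup.closure {g : ↥(Cfsg.Sz F m) | g • p = p ∧ g * g = 1}) p) (Subgroup.subset_closure ⟨h1, h2⟩)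
    haveI : N.Normal := by
      constructor
      intro n hn g
      have h1 : N ≤ N.comap (MulAut.conj g).toMonoidHom := by
        rw [hN]
        apply iSup_le
        intro p
        rw [Subgroup.closure_le]
        rintro h ⟨h1, h2⟩
        show g * h * g⁻¹ ∈ N
        apply hle (g • p)
        · rw [mul_smul, mul_smul, inv_smul_smul, h1]
        · have : g * h * g⁻¹ * (g * h * g⁻¹) = g * (h * h) * g⁻¹ := by group
          rw [this, h2]; group
      exact h1 hn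
    apply normal_top m N
    intro b
    apply hle (oi F m) _ (U_oi m 0 b)
    rw [U_sq, mul_zero, U_zero]

theorem simple : IsSimpleGroup ↥(Cfsg.Sz F m) := by
  haveI := two_trans (F := F) m
  haveI : MulAction.IsPreprimitive ↥(Cfsg.Sz F m) (Om F m) := MulAction.isPreprimitive_of_is_two_pretransitive (two_trans (F := F) m)
  haveI : MulAction.IsQuasiPreprimitive ↥(Cfsg.Sz F m) (Om F m) := inferInstance
  haveI : Nontrivial ↥(Cfsg.Sz F m) := ⟨⟨U m 0 1, 1, fun h => by
    rw [← U_zero m] at h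
    exact one_ne_zero (U_inj m h).2⟩⟩
  exact MulAction.IwasawaStructure.isSimpleGroup (perfect m) (iwasawa m) (faithful m)

end Cfsg.Agent.H8.Suz
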