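import Mathlib
import Cfsg.Agent.H8.SzE

set_option autoImplicit false

namespace Cfsg.Agent.H8.Suz

open Matrix
open scoped Pointwise commutatorElement

variable {F : Type*} [Field F] [Fintype F] (m : ℕ) [H : Hyp F m]

/-! ### the form -/

omit [Fintype F] H in
theorem Wm_form : (Wm F)ᵀ * Wm F * Wm F = Wm F := by
  have : (Wm F)ᵀ = Wm F := by
    ext i j
    fin_cases i <;> fin_cases j <;> simp [Wm]
  rw [this, Wm_mul, one_mul]

include H in
theorem Um_form (a b : F) : (Um m a b)ᵀ * Wm F * Um m a b = Wm F := by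
  have h2 := (two0 m : (2 : F) = 0)
  have h4 : (4 : F) = 0 := by linear_combination 2 * h2
  ext i j
  fin_cases i <;> fin_cases j <;> simp [Um, Wm, ff, Matrix.mul_apply, Fin.sum_univ_four]
  all_goals (rw [← sub_eq_zero]; ring_nf; simp only [h2, h4, mul_zero, zero_mul, neg_zero, add_zero, sub_zero, zero_add, sub_self])

include H in
theorem Hm_form (k : F) (hk : k ≠ 0) : (Hm m k)ᵀ * Wm F * Hm m k = Wm F := by
  have hr : rh m k ≠ 0 := fun h => hk ((rh_eq_zero m).1 h)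
  rw [Hm, Matrix.diagonal_transpose]
  ext i j
  rw [Matrix.mul_diagonal, Matrix.diagonal_mul]
  fin_cases i <;> fin_cases j <;> simp [Wm]
  all_goals (field_simp)

/-- underlying matrix -/
def mat (g : ↥(Cfsg.Sz F m)) : Matrix (Fin 4) (Fin 4) F := (g : SpecialLinearGroup (Fin 4) F).1

omit [Fintype F] H in
theorem mat_mul (g h : ↥(Cfsg.Sz F m)) : mat m (g * h) = mat m g * mat m h := rfl

theorem mat_U (a b : F) : mat m (U m a b) = Um m a b := rfl
theorem mat_T (k : Fˣ) : mat m (T m k) = Hm m (k : F) := rfl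
theorem mat_W : mat m (W F m) = Wm F := rfl

def Sp (A : Matrix (Fin 4) (Fin 4) F) : Prop := Aᵀ * Wm F * A = Wm F

omit [Fintype F] H in
theorem Sp_mul {A C : Matrix (Fin 4) (Fin 4) F} (hA : Sp A) (hC : Sp C) : Sp (A * C) := by
  have hA' : Aᵀ * Wm F * A = Wm F := hA
  have hC' : Cᵀ * Wm F * C = Wm F := hC
  show (A * C)ᵀ * Wm F * (A * C) = Wm F
  have : (A * C)ᵀ * Wm F * (A * C) = Cᵀ * (Aᵀ * Wm F * A) * C := by
    rw [Matrix.transpose_mul]; simp only [Matrix.mul_assoc]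
  rw [this, hA', hC']

theorem mat_ind (P : Matrix (Fin 4) (Fin 4) F → Prop) (hmul : ∀ A C, P A → P C → P (A * C)) (hU : ∀ a b, P (Um m a b)) (hW : P (Wm F))
    (hT : ∀ k : F, k ≠ 0 → P (Hm m k)) (g : ↥(Cfsg.Sz F m)) : P (mat m g) := by
  rcases bruhat m g with ⟨a, b, k, h⟩ | ⟨a, b, c, d, k, h⟩
  · rw [h, mat_mul, mat_U, mat_T]
    exact hmul _ _ (hU _ _) (hT k k.ne_zero)
  · rw [h, mat_mul, mat_mul, mat_mul, mat_U, mat_U, mat_T, mat_W]
    exact hmul _ _ (hmul _ _ (hmul _ _ (hU _ _) hW) (hU _ _)) (hT k k.ne_zero)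

theorem form_all (g : ↥(Cfsg.Sz F m)) : Sp (mat m g) :=
  mat_ind m Sp (fun _ _ => Sp_mul) (Um_form m) Wm_form (Hm_form m) g

/-! ### the other description -/

/-- minors -/
def mn (A : Matrix (Fin 4) (Fin 4) F) (k l i j : Fin 4) : F := A k i * A l j - A l i * A k j

omit [Fintype F] H in
theorem cauchy_binet (A C : Matrix (Fin 4) (Fin 4) F) (k l i j : Fin 4) : mn (A * C) k l i j =
    mn A k l 0 1 * mn C 0 1 i j + mn A k l 0 2 * mn C 0 2 i j + mn A k l 0 3 * mn C 0 3 i j + mn A k l 1 2 * mn C 1 2 i j + mn A k l 1 3 * mn C 1 3 i j + mn A k l 2 3 * mn C 2 3 i j := by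
  unfold mn
  simp only [Matrix.mul_apply, Fin.sum_univ_four]
  ring

omit [Fintype F] H in
theorem Sp_col {A : Matrix (Fin 4) (Fin 4) F} (hA : Sp A) (i j : Fin 4) : A 0 i * A 3 j + A 1 i * A 2 j + A 2 i * A 1 j + A 3 i * A 0 j = Wm F i j := by
  have h : Aᵀ * Wm F * A = Wm F := hA
  rw [← h]
  simp only [Matrix.mul_apply, Matrix.transpose_apply, Fin.sum_univ_four]
  simp [Wm]
  ring

omit [Fintype F] H in
theorem Sp_row {A : Matrix (Fin 4) (Fin 4) F} (hA : Sp A) (i j : Fin 4) : A i 0 * A j 3 + A i 1 * A j 2 + A i 2 * A j 1 + A i 3 * A j 0 = Wm F i j := by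
  have h : Aᵀ * Wm F * A = Wm F := hA
  have h1 : (A * Wm F) * (Aᵀ * Wm F) = 1 := by
    rw [mul_eq_one_comm, ← Matrix.mul_assoc, h, Wm_mul]
  have h2 : A * Wm F * Aᵀ = Wm F := by
    calc A * Wm F * Aᵀ = (A * Wm F) * (Aᵀ * Wm F) * Wm F := by
          simp only [Matrix.mul_assoc, Wm_mul, Matrix.mul_one]
      _ = Wm F := by rw [h1, Matrix.one_mul]
  rw [← h2]
  simp only [Matrix.mul_apply, Matrix.transpose_apply, Fin.sum_univ_four]
  simp [Wm]
  ring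

omit [Fintype F] H in
theorem star4_apply (A : Matrix (Fin 4) (Fin 4) F) (p r : Fin 4) : Cfsg.Lie.star4 A p r = mn A (Cfsg.Lie.pairOf p).1 (Cfsg.Lie.pairOf p).2 (Cfsg.Lie.pairOf r).1 (Cfsg.Lie.pairOf r).2 := rfl

include H in
theorem star4_mul {A C : Matrix (Fin 4) (Fin 4) F} (hA : Sp A) (hC : Sp C) : Cfsg.Lie.star4 (A * C) = Cfsg.Lie.star4 A * Cfsg.Lie.star4 C := by
  have h2 := (two0 m : (2 : F) = 0)
  have hr : ∀ p : Fin 4, mn A (Cfsg.Lie.pairOf p).1 (Cfsg.Lie.pairOf p).2 0 3 = mn A (Cfsg.Lie.pairOf p).1 (Cfsg.Lie.pairOf p).2 1 2 := by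
    intro p
    have h := Sp_row hA (Cfsg.Lie.pairOf p).1 (Cfsg.Lie.pairOf p).2
    have hw : Wm F (Cfsg.Lie.pairOf p).1 (Cfsg.Lie.pairOf p).2 = 0 := by
      fin_cases p <;> simp [Wm, Cfsg.Lie.pairOf]
    rw [hw] at h
    unfold mn
    linear_combination h - (A (Cfsg.Lie.pairOf p).2 0 * A (Cfsg.Lie.pairOf p).1 3 + A (Cfsg.Lie.pairOf p).1 1 * A (Cfsg.Lie.pairOf p).2 2) * h2
  have hc : ∀ p : Fin 4, mn C 0 3 (Cfsg.Lie.pairOf p).1 (Cfsg.Lie.pairOf p).2 = mn C 1 2 (Cfsg.Lie.pairOf p).1 (Cfsg.Lie.pairOf p).2 := by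
    intro p
    have h := Sp_col hC (Cfsg.Lie.pairOf p).1 (Cfsg.Lie.pairOf p).2
    have hw : Wm F (Cfsg.Lie.pairOf p).1 (Cfsg.Lie.pairOf p).2 = 0 := by
      fin_cases p <;> simp [Wm, Cfsg.Lie.pairOf]
    rw [hw] at h
    unfold mn
    linear_combination h - (C 3 (Cfsg.Lie.pairOf p).1 * C 0 (Cfsg.Lie.pairOf p).2 + C 1 (Cfsg.Lie.pairOf p).1 * C 2 (Cfsg.Lie.pairOf p).2) * h2
  ext p r
  rw [star4_apply, cauchy_binet, hr, hc, Matrix.mul_apply, Fin.sum_univ_four]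
  simp only [star4_apply]
  have e0 : Cfsg.Lie.pairOf 0 = (0, 1) := rfl
  have e1 : Cfsg.Lie.pairOf 1 = (0, 2) := rfl
  have e2 : Cfsg.Lie.pairOf 2 = (1, 3) := rfl
  have e3 : Cfsg.Lie.pairOf 3 = (2, 3) := rfl
  simp only [e0, e1, e2, e3]
  linear_combination (mn A (Cfsg.Lie.pairOf p).1 (Cfsg.Lie.pairOf p).2 1 2 * mn C 1 2 (Cfsg.Lie.pairOf r).1 (Cfsg.Lie.pairOf r).2) * h2

def InS (m : ℕ) (A : Matrix (Fin 4) (Fin 4) F) : Prop := Sp A ∧ Cfsg.Lie.star4 A = A.map (fun x => x ^ (2 ^ (m + 1)))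

include H in
theorem InS_mul {A C : Matrix (Fin 4) (Fin 4) F} (hA : InS m A) (hC : InS m C) : InS m (A * C) := by
  haveI := charP2 F m
  refine ⟨Sp_mul hA.1 hC.1, ?_⟩
  rw [star4_mul m hA.1 hC.1, hA.2, hC.2]
  exact ((Matrix.map_mul : (A * C).map (iterateFrobenius F 2 (m + 1)) = _).symm)

include H in
theorem InS_U (a b : F) : InS m (Um m a b) := by
  have h2 := (two0 m : (2 : F) = 0)
  have h4 : (4 : F) = 0 := by linear_combination 2 * h2
  refine ⟨Um_form m a b, ?_⟩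
  have h : (Um m a b).map (fun x => x ^ (2 ^ (m + 1))) = (Um m a b).map (th m) := rfl
  rw [h]
  ext i j
  rw [star4_apply]
  fin_cases i <;> fin_cases j <;> simp [Um, mn, Cfsg.Lie.pairOf, th_zero, th_one, th_add, th_mul, th_th, th_ff]
  all_goals (try unfold ff)
  all_goals (rw [← sub_eq_zero]; ring_nf; try simp only [h2, h4, mul_zero, zero_mul, neg_zero, add_zero, sub_zero, zero_add, sub_self])

include H in
theorem InS_T {k : F} (hk : k ≠ 0) : InS m (Hm m k) := by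
  have hr : rh m k ≠ 0 := fun h => hk ((rh_eq_zero m).1 h)
  refine ⟨Hm_form m k hk, ?_⟩
  have h : (Hm m k).map (fun x => x ^ (2 ^ (m + 1))) = (Hm m k).map (th m) := rfl
  rw [h]
  ext i j
  rw [star4_apply]
  have h1 : th m (rh m k) = k := th_rh' m k
  have h2 : rh m k ^ 2 = th m k := rh_sq m k
  fin_cases i <;> fin_cases j <;> simp [Hm, mn, Cfsg.Lie.pairOf, th_zero, th_one, th_mul, th_inv, h1]
  · rw [← h2]; ring
  · field_simp
  · field_simp
  · rw [← h2]; field_simp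

include H in
theorem InS_W : InS m (Wm F) := by
  refine ⟨Wm_form, ?_⟩
  have h : (Wm F).map (fun x => x ^ (2 ^ (m + 1))) = (Wm F).map (th m) := rfl
  rw [h]
  ext i j
  rw [star4_apply]
  fin_cases i <;> fin_cases j <;> simp [Wm, mn, Cfsg.Lie.pairOf, th_zero, th_one]
  all_goals exact neg_eq m 1

theorem InS_mat (g : ↥(Cfsg.Sz F m)) : InS m (mat m g) :=
  mat_ind m (InS m) (fun _ _ => InS_mul m) (InS_U m) (InS_W m) (fun _ => InS_T m) g

include H in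
theorem InS_inf {g : SpecialLinearGroup (Fin 4) F} (hg : InS m g.1) : g • inf F ∈ suzukiOvoid F m := by
  have h2 := (two0 m : (2 : F) = 0)
  obtain ⟨h1, h3⟩ := hg
  have s0 : mn g.1 0 1 0 1 = th m (g.1 0 0) := by
    have := congrFun (congrFun h3 0) 0
    rw [star4_apply] at this
    exact this
  have s1 : mn g.1 0 2 0 1 = th m (g.1 1 0) := by
    have := congrFun (congrFun h3 1) 0
    rw [star4_apply] at this
    exact this
  have s2 : mn g.1 1 3 0 1 = th m (g.1 2 0) := by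
    have := congrFun (congrFun h3 2) 0
    rw [star4_apply] at this
    exact this
  have s3 : mn g.1 2 3 0 1 = th m (g.1 3 0) := by
    have := congrFun (congrFun h3 3) 0
    rw [star4_apply] at this
    exact this
  have hπ : mn g.1 0 3 0 1 = mn g.1 1 2 0 1 := by
    have h := Sp_col h1 0 1
    have hw : Wm F 0 1 = 0 := by simp [Wm]
    rw [hw] at h
    unfold mn
    linear_combination h - (g.1 3 0 * g.1 0 1 + g.1 1 0 * g.1 2 1) * h2
  obtain ⟨π, hπ'⟩ : ∃ π, π = mn g.1 1 2 0 1 := ⟨_, rfl⟩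
  obtain ⟨a, ha⟩ : ∃ a, a = g.1 0 0 := ⟨_, rfl⟩
  obtain ⟨b, hb⟩ : ∃ b, b = g.1 1 0 := ⟨_, rfl⟩
  obtain ⟨c, hc⟩ : ∃ c, c = g.1 2 0 := ⟨_, rfl⟩
  obtain ⟨d, hd⟩ : ∃ d, d = g.1 3 0 := ⟨_, rfl⟩
  have r1 : g.1 1 0 * mn g.1 2 3 0 1 + g.1 2 0 * mn g.1 1 3 0 1 + g.1 3 0 * mn g.1 1 2 0 1 = 0 := by
    unfold mn
    linear_combination (g.1 2 0 * (g.1 1 0 * g.1 3 1 - g.1 3 0 * g.1 1 1)) * h2
  have r2 : g.1 0 0 * mn g.1 2 3 0 1 + g.1 2 0 * mn g.1 0 3 0 1 + g.1 3 0 * mn g.1 0 2 0 1 = 0 := by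
    unfold mn
    linear_combination (g.1 2 0 * (g.1 0 0 * g.1 3 1 - g.1 3 0 * g.1 0 1)) * h2
  have r3 : g.1 0 0 * mn g.1 1 2 0 1 + g.1 1 0 * mn g.1 0 2 0 1 + g.1 2 0 * mn g.1 0 1 0 1 = 0 := by
    unfold mn
    linear_combination (g.1 1 0 * (g.1 0 0 * g.1 2 1 - g.1 2 0 * g.1 0 1)) * h2
  have r4 : g.1 0 0 * mn g.1 1 3 0 1 + g.1 1 0 * mn g.1 0 3 0 1 + g.1 3 0 * mn g.1 0 1 0 1 = 0 := by
    unfold mn
    linear_combination (g.1 1 0 * (g.1 0 0 * g.1 3 1 - g.1 3 0 * g.1 0 1)) * h2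
  rw [s3, s2, ← hπ', ← hd, ← hc, ← hb] at r1
  rw [s3, hπ, s1, ← hπ', ← hd, ← hc, ← hb, ← ha] at r2
  rw [s1, s0, ← hπ', ← hc, ← hb, ← ha] at r3
  rw [s2, hπ, s0, ← hπ', ← hd, ← hc, ← hb, ← ha] at r4
  have hcol : (g : Matrix (Fin 4) (Fin 4) F) *ᵥ ![1, 0, 0, 0] = ![a, b, c, d] := by
    funext i
    fin_cases i <;> simp [Matrix.mulVec, dotProduct, Fin.sum_univ_four, ha, hb, hc, hd]
  rw [mem_ovoid]
  by_cases hd0 : d = 0
  · left
    rw [hd0, zero_mul, add_zero, th_zero, mul_zero, zero_add] at r1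
    have hc0 : c = 0 := by
      rcases mul_eq_zero.1 r1 with h | h
      · exact h
      · exact (th_eq_zero m).1 h
    rw [hd0, hc0, th_zero, mul_zero, zero_add, zero_mul, add_zero] at r4
    rw [hc0, zero_mul, add_zero] at r3
    have hb0 : b = 0 := by
      by_contra hb0
      have hπ0 : π = 0 := by
        rcases mul_eq_zero.1 r4 with h | h
        · exact absurd h hb0
        · exact h
      rw [hπ0, mul_zero, zero_add] at r3
      rcases mul_eq_zero.1 r3 with h | h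
      · exact hb0 h
      · exact hb0 ((th_eq_zero m).1 h)
    have ha0 : a ≠ 0 := by
      rintro rfl
      rw [hb0, hc0, hd0] at hcol
      have h5 : g • (![1, 0, 0, 0] : Fin 4 → F) = 0 := by
        show (g : Matrix (Fin 4) (Fin 4) F) *ᵥ ![1, 0, 0, 0] = 0
        rw [hcol]
        funext i; fin_cases i <;> rfl
      exact ((smul_ne_zero_iff_ne g).2 (infv_ne (F := F))) h5
    apply smul_eq _ _ _ _ _ a ha0
    rw [hcol, hb0, hc0, hd0]
    funext i; fin_cases i <;> simp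
  · right
    refine ⟨c * d⁻¹, b * d⁻¹, ?_⟩
    apply smul_eq _ _ _ _ _ d hd0
    rw [hcol]
    have hthd : th m d ≠ 0 := fun h => hd0 ((th_eq_zero m).1 h)
    have e : a = d * ff m (c * d⁻¹) (b * d⁻¹) := by
      unfold ff
      rw [th_mul, th_mul, th_inv]
      field_simp
      linear_combination d * r2 - c * r1 - (d ^ 2 * th m b) * h2
    funext i
    fin_cases i
    · exact e
    · simp; field_simp
    · simp; field_simp
    · simp

theorem exists_rep {p : Projectivization F (Fin 4 → F)} (hp : p ∈ suzukiOvoid F m) : ∃ x : ↥(Cfsg.Sz F m), x • inf F = p := by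
  rcases (mem_ovoid m _).1 hp with rfl | ⟨a, b, rfl⟩
  · exact ⟨1, one_smul _ _⟩
  · exact ⟨U m a b * W F m, by rw [mul_smul, W_inf, U_pt0]⟩

include H in
theorem mem_Sz_iff (g : SpecialLinearGroup (Fin 4) F) : g ∈ Cfsg.Sz F m ↔ InS m g.1 := by
  constructor
  · intro h
    exact InS_mat m ⟨g, h⟩
  · intro h
    apply mem_Sz
    intro p hp
    obtain ⟨x, rfl⟩ := exists_rep m hp
    have h1 : g • x • inf F = (g * (x : SpecialLinearGroup (Fin 4) F)) • inf F := by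
      rw [mul_smul]; rfl
    rw [h1]
    apply InS_inf
    exact InS_mul m h (InS_mat m x)

omit [Fintype F] H in
theorem alt_eq (u v : Fin 4 → F) : Cfsg.Lie.altForm4 u v = u ⬝ᵥ (Wm F *ᵥ v) := by
  simp [Cfsg.Lie.altForm4, Wm, Matrix.mulVec, dotProduct, Fin.sum_univ_four]

omit [Fintype F] H in
theorem mem_Sp4 (g : GL (Fin 4) F) : g ∈ Cfsg.Lie.Sp4 F ↔ Sp (g : Matrix (Fin 4) (Fin 4) F) := by
  have key : ∀ u v : Fin 4 → F, Cfsg.Lie.altForm4 ((g : Matrix (Fin 4) (Fin 4) F) *ᵥ u) ((g : Matrix (Fin 4) (Fin 4) F) *ᵥ v) =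
      u ⬝ᵥ (((g : Matrix (Fin 4) (Fin 4) F)ᵀ * Wm F * (g : Matrix (Fin 4) (Fin 4) F)) *ᵥ v) := by
    intro u v
    rw [alt_eq, ← Matrix.vecMul_transpose, ← Matrix.dotProduct_mulVec, Matrix.mulVec_mulVec, Matrix.mulVec_mulVec, Matrix.mul_assoc]
  constructor
  · intro h
    show (g : Matrix (Fin 4) (Fin 4) F)ᵀ * Wm F * (g : Matrix (Fin 4) (Fin 4) F) = Wm F
    ext i j
    have h1 : Cfsg.Lie.altForm4 ((g : Matrix (Fin 4) (Fin 4) F) *ᵥ (Pi.single i 1)) ((g : Matrix (Fin 4) (Fin 4) F) *ᵥ (Pi.single j 1)) = Cfsg.Lie.altForm4 (Pi.single i 1) (Pi.single j 1) := h (Pi.single i 1) (Pi.single j 1)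
    rw [key, alt_eq] at h1
    simpa using h1
  · intro h u v
    have h' : (g : Matrix (Fin 4) (Fin 4) F)ᵀ * Wm F * (g : Matrix (Fin 4) (Fin 4) F) = Wm F := h
    show Cfsg.Lie.altForm4 ((g : Matrix (Fin 4) (Fin 4) F) *ᵥ u) ((g : Matrix (Fin 4) (Fin 4) F) *ᵥ v) = _
    rw [key, h', alt_eq]

include H in
theorem Sp_det {A : Matrix (Fin 4) (Fin 4) F} (hA : Sp A) : A.det = 1 := by
  have h : Aᵀ * Wm F * A = Wm F := hA
  have h1 := congrArg Matrix.det h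
  rw [Matrix.det_mul, Matrix.det_mul, Matrix.det_transpose, Wm_det, mul_one] at h1
  apply sq_inj m
  rw [sq, h1, one_pow]

include H in
/-- **the two descriptions of the Suzuki group agree** -/
theorem Lie_eq : Cfsg.Lie.Sz F (2 ^ (m + 1)) = (Cfsg.Sz F m).map (SpecialLinearGroup.toGL (n := Fin 4) (R := F)) := by
  apply le_antisymm
  · apply (Subgroup.closure_le _).2
    rintro g ⟨h1, h2⟩
    rw [mem_Sp4] at h1
    refine ⟨⟨(g : Matrix (Fin 4) (Fin 4) F), Sp_det m h1⟩, (mem_Sz_iff m (⟨_, Sp_det m h1⟩ : SpecialLinearGroup (Fin 4) F)).2 ⟨h1, h2⟩, ?_⟩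
    apply Units.ext; rfl
  · rintro _ ⟨s, hs, rfl⟩
    have hs' : InS m s.1 := (mem_Sz_iff m s).1 hs
    apply Subgroup.subset_closure
    refine ⟨?_, ?_⟩
    · rw [mem_Sp4]; exact hs'.1
    · exact hs'.2

include H in
noncomputable def eLie : ↥(Cfsg.Sz F m) ≃* ↥(Cfsg.Lie.Sz F (2 ^ (m + 1))) :=
  ((Cfsg.Sz F m).equivMapOfInjective _ (SpecialLinearGroup.toGL_injective (n := Fin 4) (R := F))).trans (MulEquiv.subgroupCongr (Lie_eq (F := F) m).symm)

end Cfsg.Agent.H8.Suz
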