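import Mathlib
import Cfsg.Agent.H8.SzF

set_option autoImplicit false

namespace Cfsg.Agent.H8.Suz

open Matrix
open scoped Pointwise commutatorElement

variable {F : Type*} [Field F] [Fintype F] (m : ℕ) [H : Hyp F m]

include H in
/-- every unit is of the form `k * k^σ` -/
theorem exists_kth (e : Fˣ) : ∃ k : Fˣ, (k : F) * th m (k : F) = e := by
  have h1 : th m (e : F) ≠ 0 := fun h => e.ne_zero ((th_eq_zero m).1 h)
  refine ⟨Units.mk0 (th m (e : F) * (e : F)⁻¹) (mul_ne_zero h1 (inv_ne_zero e.ne_zero)), ?_⟩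
  rw [Units.val_mk0, th_mul, th_th, th_inv]
  have := e.ne_zero
  field_simp

theorem index_Q : (Q F m).index = ((2 ^ (2 * m + 1)) ^ 2 + 1) * (2 ^ (2 * m + 1) - 1) := by
  have h1 := (Q F m).card_mul_index
  rw [card_Q, card_G, mul_assoc] at h1
  exact Nat.eq_of_mul_eq_mul_left (by positivity) h1

theorem isPGroup_Q : IsPGroup 2 (Q F m) := by
  apply IsPGroup.of_card (n := (2 * m + 1) * 2)
  rw [card_Q, ← pow_mul]

omit H in
theorem odd_index : Odd (((2 ^ (2 * m + 1)) ^ 2 + 1) * (2 ^ (2 * m + 1) - 1)) := by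
  apply Odd.mul
  · apply Even.add_one
    apply Even.pow_of_ne_zero _ two_ne_zero
    exact even_iff_two_dvd.2 (dvd_pow_self 2 (by omega))
  · exact Nat.Even.sub_odd (Nat.one_le_two_pow) (even_iff_two_dvd.2 (dvd_pow_self 2 (by omega))) odd_one

/-- the standard Sylow 2-subgroup -/
noncomputable def QS (F : Type*) [Field F] [Fintype F] (m : ℕ) [H : Hyp F m] : Sylow 2 ↥(Cfsg.Sz F m) :=
  (isPGroup_Q (F := F) m).toSylow (by
    haveI := Fact.mk Nat.prime_two
    rw [index_Q]
    have := odd_index m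
    rw [← Nat.not_even_iff_odd, even_iff_two_dvd] at this
    exact this)

theorem coe_QS : (QS F m : Subgroup ↥(Cfsg.Sz F m)) = Q F m := rfl

/-- the Sylow 2-subgroups are the conjugates of `Q` -/
theorem sylow_conj (P : Sylow 2 ↥(Cfsg.Sz F m)) : ∃ x : ↥(Cfsg.Sz F m), (P : Subgroup ↥(Cfsg.Sz F m)) = (Q F m).map (MulAut.conj x).toMonoidHom := by
  haveI := Fact.mk Nat.prime_two
  obtain ⟨x, hx⟩ := MulAction.exists_smul_eq ↥(Cfsg.Sz F m) (QS F m) P
  refine ⟨x, ?_⟩
  rw [← hx]
  rfl

noncomputable def sylE (P : Sylow 2 ↥(Cfsg.Sz F m)) : ↥(Q F m) ≃* ↥(P : Subgroup ↥(Cfsg.Sz F m)) :=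
  haveI := Fact.mk Nat.prime_two
  (Sylow.equiv (QS F m) P : _)

/-- centre of `Q` -/
theorem center_Q : Subgroup.center (Q F m) = (Z F m).subgroupOf (Q F m) := by
  ext ⟨g, a, b, rfl⟩
  rw [Subgroup.mem_subgroupOf, Subgroup.mem_center_iff]
  constructor
  · intro h
    by_cases ha : a = 0
    · rw [ha]; exact U_mem_Z m b
    · exfalso
      have key : ∀ c : F, th m c * a = th m a * c := by
        intro c
        have h1 := congrArg Subtype.val (h ⟨U m c 0, U_mem_Q m c 0⟩)
        have h2 : U m c 0 * U m a b = U m a b * U m c 0 := h1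
        rw [U_mul, U_mul] at h2
        have h3 := (U_inj m h2).2
        linear_combination h3
      -- th c = c for all c
      have h1 := key 1
      rw [th_one, one_mul, mul_one] at h1
      have h3 : ∀ c : F, th m c = c := by
        intro c
        have h4 := key c
        rw [← h1] at h4
        have : a * (th m c - c) = 0 := by linear_combination h4
        rcases mul_eq_zero.1 this with h5 | h5
        · exact absurd h5 ha
        · exact sub_eq_zero.1 h5
      obtain ⟨y, h0, hy1⟩ := exists_ne01 (F := F) (by have := card_ge (F := F) m; omega)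
      have h4 : th m (th m y) = y := by rw [h3, h3]
      rw [th_th] at h4
      have h5 : y * (y - 1) = 0 := by linear_combination h4
      rcases mul_eq_zero.1 h5 with h | h
      · exact h0 h
      · exact hy1 (sub_eq_zero.1 h)
  · rintro ⟨d, hd⟩ ⟨g, c, e, rfl⟩
    apply Subtype.ext
    show U m c e * U m a b = U m a b * U m c e
    obtain ⟨rfl, rfl⟩ := U_inj m hd
    rw [U_mul, U_mul, mul_zero, th_zero, zero_mul, add_zero, zero_add, add_comm e, add_zero]

/-- every element of `Z` is a commutator of elements of `Q` -/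
theorem Z_comm (b : F) : ∃ a c : F, U m 0 b = U m a 0 * U m c 0 * (U m a 0)⁻¹ * (U m c 0)⁻¹ := by
  have key : ∀ a c : F, U m a 0 * U m c 0 * (U m a 0)⁻¹ * (U m c 0)⁻¹ = U m 0 (th m a * c + th m c * a) := by
    intro a c
    have h2 := (two0 m : (2 : F) = 0)
    rw [mul_inv_eq_iff_eq_mul, mul_inv_eq_iff_eq_mul, U_mul, U_mul, U_mul]
    congr 1
    · ring
    · simp only [th_zero, zero_add, zero_mul, add_zero]
      linear_combination (-(th m c * a)) * h2
  by_cases hb : b = 0
  · exact ⟨0, 0, by rw [key, hb]; simp⟩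
  · -- a pair with nonzero commutator
    obtain ⟨y, h0, hy1⟩ := exists_ne01 (F := F) (by have := card_ge (F := F) m; omega)
    have hne : th m y + y ≠ 0 := by
      intro h
      have h3 : th m y = y := eq_of_add_zero m h
      have h4 : th m (th m y) = y := by rw [h3, h3]
      rw [th_th] at h4
      have h5 : y * (y - 1) = 0 := by linear_combination h4
      rcases mul_eq_zero.1 h5 with h | h
      · exact h0 h
      · exact hy1 (sub_eq_zero.1 h)
    obtain ⟨k, hk⟩ := exists_kth m (Units.mk0 (b * (th m y + y)⁻¹) (mul_ne_zero hb (inv_ne_zero hne)))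
    rw [Units.val_mk0] at hk
    refine ⟨(k : F) * y, (k : F), ?_⟩
    rw [key]
    congr 1
    rw [th_mul]
    have : b = (k : F) * th m (k : F) * (th m y + y) := by rw [hk]; field_simp
    rw [this]; ring

theorem comm_Q : commutator (Q F m) = (Z F m).subgroupOf (Q F m) := by
  apply le_antisymm
  · rw [commutator_def, Subgroup.commutator_le]
    rintro ⟨g, a, b, rfl⟩ - ⟨h, c, d, rfl⟩ -
    rw [Subgroup.mem_subgroupOf]
    show U m a b * U m c d * (U m a b)⁻¹ * (U m c d)⁻¹ ∈ Z F m
    rw [U_inv, U_inv, U_mul, U_mul, U_mul]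
    refine ⟨b + d + th m a * c + (b + th m a * a) + th m (a + c) * a + (d + th m c * c) + th m (a + c + a) * c, ?_⟩
    congr 1
    linear_combination (a + c) * (two0 m : (2 : F) = 0)
  · rintro ⟨g, a, b, rfl⟩ hg
    rw [Subgroup.mem_subgroupOf] at hg
    obtain ⟨d, hd⟩ := hg
    obtain ⟨rfl, rfl⟩ := U_inj m hd
    obtain ⟨a, c, h⟩ := Z_comm m b
    have h1 : (⟨U m 0 b, U_mem_Q m 0 b⟩ : Q F m) = ⁅(⟨U m a 0, U_mem_Q m a 0⟩ : Q F m), (⟨U m c 0, U_mem_Q m c 0⟩ : Q F m)⁆ := Subtype.ext h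
    rw [h1]
    exact Subgroup.commutator_mem_commutator (Subgroup.mem_top _) (Subgroup.mem_top _)

theorem U_pow4 (a b : F) : U m a b ^ 4 = 1 := by
  have : U m a b ^ 4 = (U m a b ^ 2) ^ 2 := by rw [← pow_mul]
  rw [this, sq (U m a b), U_sq, sq, U_sq, mul_zero, U_zero]

theorem exp_Q : Monoid.exponent (Q F m) = 4 := by
  have h1 : Monoid.exponent (Q F m) ∣ 4 := by
    apply Monoid.exponent_dvd_of_forall_pow_eq_one
    rintro ⟨g, a, b, rfl⟩
    exact Subtype.ext (U_pow4 m a b)
  have h2 : ¬ Monoid.exponent (Q F m) ∣ 2 := by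
    intro h
    have h3 : (⟨U m 1 0, U_mem_Q m 1 0⟩ : Q F m) ^ 2 = 1 := by
      obtain ⟨c, hc⟩ := h
      rw [hc, pow_mul, Monoid.pow_exponent_eq_one, one_pow]
    have h4 : U m (1 : F) 0 ^ 2 = 1 := congrArg Subtype.val h3
    rw [sq, U_sq, th_one, ← U_zero m, mul_one] at h4
    exact one_ne_zero (U_inj m h4).2
  have h3 : Monoid.exponent (Q F m) ∣ 2 ^ 2 := h1
  obtain ⟨k, hk, h4⟩ := (Nat.dvd_prime_pow Nat.prime_two).1 h3
  interval_cases k
  · exfalso; apply h2; rw [h4]; norm_num
  · exfalso; apply h2; rw [h4]; norm_num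
  · rw [h4]; norm_num

end Cfsg.Agent.H8.Suz
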