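import Mathlib
import Cfsg.Agent.H8.SzG

set_option autoImplicit false

namespace Cfsg.Agent.H8.Suz

open Matrix
open scoped Pointwise commutatorElement

variable {F : Type*} [Field F] [Fintype F] (m : ℕ) [H : Hyp F m]

/-- `Q` is normal in `B` -/
theorem conj_Q {b g : ↥(Cfsg.Sz F m)} (hb : b ∈ B F m) (hg : g ∈ Q F m) : b * g * b⁻¹ ∈ Q F m := by
  obtain ⟨x, y, k, rfl⟩ := fix_oi m hb
  obtain ⟨c, d, rfl⟩ := hg
  have : U m x y * T m k * U m c d * (U m x y * T m k)⁻¹ = U m x y * (T m k * U m c d * (T m k)⁻¹) * (U m x y)⁻¹ := by group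
  rw [this, T_conj_U]
  exact (Q F m).mul_mem ((Q F m).mul_mem (U_mem_Q m _ _) (U_mem_Q m _ _)) ((Q F m).inv_mem (U_mem_Q m _ _))

/-- a nontrivial unipotent element fixes only infinity -/
theorem U_fix {a b : F} (h : ¬ (a = 0 ∧ b = 0)) {p : Om F m} (hp : U m a b • p = p) : p = oi F m := by
  rcases om_cases m p with rfl | ⟨x, y, rfl⟩
  · rfl
  · exfalso
    rw [U_op] at hp
    obtain ⟨h1, h2⟩ := op_inj m hp
    have ha : a = 0 := by linear_combination h1
    rw [ha, th_zero, zero_mul, add_zero] at h2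
    exact h ⟨ha, by linear_combination h2⟩

theorem Q_fix {g : ↥(Cfsg.Sz F m)} (hg : g ∈ Q F m) (h1 : g ≠ 1) {p : Om F m} (hp : g • p = p) : p = oi F m := by
  obtain ⟨a, b, rfl⟩ := hg
  apply U_fix m _ hp
  rintro ⟨rfl, rfl⟩
  exact h1 (U_zero m)

/-- elements of `B` outside `Q` are conjugate under `Q` to elements of `T` -/
theorem conj_T {g : ↥(Cfsg.Sz F m)} (hg : g ∈ B F m) (h : g ∉ Q F m) : ∃ a b : F, ∃ k : Fˣ, (k : F) ≠ 1 ∧ g = U m a b * T m k * (U m a b)⁻¹ := by
  obtain ⟨x, y, k, rfl⟩ := fix_oi m hg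
  have hk : (k : F) ≠ 1 := by
    intro hk
    have : k = 1 := Units.ext hk
    apply h
    rw [this, map_one, mul_one]
    exact U_mem_Q m x y
  -- the element fixes a point other than infinity
  have hx : ∃ u v : F, (U m x y * T m k) • op m u v = op m u v := by
    have hk1 : (k : F) + 1 ≠ 0 := fun h0 => hk (eq_of_add_zero m h0)
    have hk2 : (k : F) * th m (k : F) + 1 ≠ 0 := fun h0 => unit_th_ne m hk (eq_of_add_zero m h0)
    refine ⟨x * ((k : F) + 1)⁻¹, (y + th m x * ((k : F) * (x * ((k : F) + 1)⁻¹))) * ((k : F) * th m (k : F) + 1)⁻¹, ?_⟩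
    rw [mul_smul, T_op, U_op]
    have h2 := (two0 m : (2 : F) = 0)
    congr 1
    · field_simp
      linear_combination ((k : F) * x) * h2
    · field_simp
      linear_combination ((k : F) * th m (k : F) * y * ((k : F) + 1) + (k : F) * th m (k : F) * th m x * (k : F) * x) * h2
  obtain ⟨u, v, huv⟩ := hx
  obtain ⟨l, hl⟩ := two_op m (g := (U m u v)⁻¹ * (U m x y * T m k) * U m u v) (by
    rw [mul_smul, mul_smul, U_oi, UT_oi, inv_smul_eq_iff, U_oi]) (by
    rw [mul_smul, mul_smul, U_op0, huv, inv_smul_eq_iff, U_op0])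
  refine ⟨u, v, l, ?_, ?_⟩
  · intro hl1
    have : l = 1 := Units.ext hl1
    rw [this, map_one] at hl
    have h3 : U m x y * T m k = 1 := by
      have : U m x y * T m k = U m u v * ((U m u v)⁻¹ * (U m x y * T m k) * U m u v) * (U m u v)⁻¹ := by group
      rw [this, hl]; group
    rw [h3] at h
    exact h (Q F m).one_mem
  · rw [← hl]; group

/-- normalizer of `Q` -/
theorem normalizer_Q : Subgroup.normalizer (Q F m : Set ↥(Cfsg.Sz F m)) = B F m := by
  apply le_antisymm
  · intro g hg
    rw [mem_B]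
    have h1 : g * U m 0 1 * g⁻¹ ∈ Q F m := (Subgroup.mem_normalizer_iff.1 hg _).1 (U_mem_Q m 0 1)
    apply Q_fix m h1
    · intro h
      have : U m (0 : F) 1 = 1 := by
        have e : U m (0 : F) 1 = g⁻¹ * (g * U m 0 1 * g⁻¹) * g := by group
        rw [e, h]; group
      rw [← U_zero m] at this
      exact one_ne_zero (U_inj m this).2
    · rw [mul_smul, mul_smul, inv_smul_smul, U_oi]
  · intro b hb
    rw [Subgroup.mem_normalizer_iff]
    intro h
    constructor
    · exact conj_Q m hb
    · intro h1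
      have h2 := conj_Q m ((B F m).inv_mem hb) h1
      have : b⁻¹ * (b * h * b⁻¹) * b⁻¹⁻¹ = h := by group
      rwa [this] at h2

/-- centralizers of unipotent elements are unipotent -/
theorem cent_Q {g : ↥(Cfsg.Sz F m)} (hg : g ∈ Q F m) (h1 : g ≠ 1) : Subgroup.centralizer {g} ≤ Q F m := by
  intro x hx
  rw [Subgroup.mem_centralizer_singleton_iff] at hx
  have hxB : x • oi F m = oi F m := by
    apply Q_fix m hg h1
    rw [← mul_smul, ← hx, mul_smul, (Q_le_B m hg : g • oi F m = oi F m)]
  by_contra hxQ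
  obtain ⟨a, b, k, hk, rfl⟩ := conj_T m hxB hxQ
  -- x fixes exactly infinity and U(a,b)0
  have h2 : (U m a b * T m k * (U m a b)⁻¹) • op m a b = op m a b := by
    rw [mul_smul, mul_smul, ← U_op0, inv_smul_smul, T_op0, U_op0]
  have h3 : (U m a b * T m k * (U m a b)⁻¹) • (g • op m a b) = g • op m a b := by
    rw [← mul_smul, hx, mul_smul, h2]
  have h4 : g • op m a b ≠ op m a b := fun h => op_ne_oi m a b (Q_fix m hg h1 h)
  have h5 : g • op m a b ≠ oi F m := by
    intro h
    have : g • op m a b = g • oi F m := by rw [h, (Q_le_B m hg : g • oi F m = oi F m)]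
    exact op_ne_oi m a b (smul_left_cancel g this)
  have h6 := three_pts m (op_ne_oi (F := F) m a b).symm h4.symm h5.symm hxB h2 h3
  have h7 : T m k = 1 := by
    have e : T m k = (U m a b)⁻¹ * (U m a b * T m k * (U m a b)⁻¹) * U m a b := by group
    rw [e, h6]; group
  rw [← map_one (T m)] at h7
  exact hk (congrArg Units.val (T_inj m h7))

theorem T_fix {k : Fˣ} (hk : (k : F) ≠ 1) {p : Om F m} (hp : T m k • p = p) : p = oi F m ∨ p = op m 0 0 := by
  by_contra hcon
  push Not at hcon
  have := three_pts m (op_ne_oi (F := F) m 0 0).symm hcon.2.symm hcon.1.symm (T_oi m k) (T_op0 m k) hp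
  rw [← map_one (T m)] at this
  exact hk (congrArg Units.val (T_inj m this))

theorem T_conj_W (k : Fˣ) : W F m * T m k * (W F m)⁻¹ = (T m k)⁻¹ := by
  rw [W_T, mul_assoc, mul_inv_cancel, mul_one, map_inv]

/-- elements preserving the pair of base points -/
theorem swap_or {x : ↥(Cfsg.Sz F m)} (h1 : x • oi F m = oi F m ∨ x • oi F m = op m 0 0) (h2 : x • op m (0 : F) 0 = oi F m ∨ x • op m (0 : F) 0 = op m 0 0) :
    (∃ k : Fˣ, x = T m k) ∨ (∃ k : Fˣ, x = T m k * W F m) := by
  have hne : x • oi F m ≠ x • op m (0 : F) 0 := fun h => op_ne_oi m 0 0 (smul_left_cancel x h).symm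
  rcases h1 with h1 | h1
  · left
    rcases h2 with h2 | h2
    · exact absurd (h1.trans h2.symm) hne
    · exact two_op m h1 h2
  · right
    rcases h2 with h2 | h2
    · obtain ⟨k, hk⟩ := two_op m (g := x * W F m) (by rw [mul_smul, W_oi, h2]) (by rw [mul_smul, W_op0, h1])
      exact ⟨k, by rw [← hk, mul_assoc, W_mul, mul_one]⟩
    · exact absurd (h1.trans h2.symm) hne

/-- centralizer of an element of `T` -/
theorem cent_T {k : Fˣ} (hk : (k : F) ≠ 1) : Subgroup.centralizer {T m k} = (T m : Fˣ →* ↥(Cfsg.Sz F m)).range := by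
  apply le_antisymm
  · intro x hx
    rw [Subgroup.mem_centralizer_singleton_iff] at hx
    have h1 : T m k • (x • oi F m) = x • oi F m := by rw [← mul_smul, ← hx, mul_smul, T_oi]
    have h2 : T m k • (x • op m (0 : F) 0) = x • op m 0 0 := by rw [← mul_smul, ← hx, mul_smul, T_op0]
    rcases swap_or m (T_fix m hk h1) (T_fix m hk h2) with ⟨l, rfl⟩ | ⟨l, rfl⟩
    · exact ⟨l, rfl⟩
    · exfalso
      have h3 : T m l * W F m * T m k = T m l * (T m k)⁻¹ * W F m := by
        rw [mul_assoc, W_T, map_inv]; group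
      rw [h3] at hx
      have h4 : T m (k ^ 2) = 1 := by
        have h5 : T m l * (T m k)⁻¹ = T m k * T m l := by
          have : T m k * (T m l * W F m) = T m k * T m l * W F m := by group
          rw [this] at hx
          exact mul_right_cancel hx
        rw [← map_mul, mul_comm k l, map_mul] at h5
        have h6 : (T m k)⁻¹ = T m k := mul_left_cancel h5
        rw [map_pow, sq]
        nth_rewrite 1 [← h6]
        exact inv_mul_cancel _
      rw [← map_one (T m)] at h4
      have h5 := T_inj m h4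
      have h6 : (k : F) ^ 2 = 1 ^ 2 := by
        rw [one_pow, ← Units.val_pow_eq_pow_val, h5, Units.val_one]
      exact hk (sq_inj m h6)
  · rintro _ ⟨l, rfl⟩
    rw [Subgroup.mem_centralizer_singleton_iff, ← map_mul, ← map_mul, mul_comm]

/-- normalizer of the torus -/
theorem normalizer_T {x : ↥(Cfsg.Sz F m)} {k : Fˣ} (hk : (k : F) ≠ 1) {l : Fˣ} (h : x * T m k * x⁻¹ = T m l) :
    (∃ k : Fˣ, x = T m k) ∨ (∃ k : Fˣ, x = T m k * W F m) := by
  have hl : (l : F) ≠ 1 := by
    intro hl
    have : l = 1 := Units.ext hl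
    rw [this, map_one] at h
    have h1 : T m k = 1 := by
      have e : T m k = x⁻¹ * (x * T m k * x⁻¹) * x := by group
      rw [e, h]; group
    rw [← map_one (T m)] at h1
    exact hk (congrArg Units.val (T_inj m h1))
  have hx : x * T m k = T m l * x := by rw [← h]; group
  have h1 : T m l • (x • oi F m) = x • oi F m := by rw [← mul_smul, ← hx, mul_smul, T_oi]
  have h2 : T m l • (x • op m (0 : F) 0) = x • op m 0 0 := by rw [← mul_smul, ← hx, mul_smul, T_op0]
  exact swap_or m (T_fix m hl h1) (T_fix m hl h2)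

end Cfsg.Agent.H8.Suz
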