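import Mathlib
import Cfsg.Agent.H8.SzH

set_option autoImplicit false

namespace Cfsg.Agent.H8.Suz

open Matrix
open scoped Pointwise

section lin
variable {F : Type*} [Field F] [Fintype F] {ℓ : ℕ} [hℓp : Fact ℓ.Prime]

theorem pow_aux (q : ZMod ℓ) (hq : q ^ 2 = -1) (h2 : (2 : ZMod ℓ) ≠ 0) {j : ℕ} (hj : j ≤ 4) (h : q ^ j = 1) : j = 0 ∨ j = 4 := by
  interval_cases j
  · left; rfl
  · exfalso
    apply h2
    rw [pow_one] at h
    rw [h] at hq
    linear_combination hq
  · exfalso
    apply h2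
    linear_combination hq - h
  · exfalso
    apply h2
    have h1 : q = -1 := by
      have : q * q ^ 2 = 1 := by rw [← pow_succ']; exact h
      rw [hq] at this
      linear_combination -this
    rw [h1] at hq
    linear_combination hq
  · right; rfl

/-- an element of prime order `ℓ ∣ q² + 1` acts trivially or without fixed vectors on every invariant subspace -/
theorem fix_all (hℓ : ℓ ∣ Fintype.card F ^ 2 + 1) (h2 : ℓ ≠ 2) {A : Matrix (Fin 4) (Fin 4) F} (hA : A ^ ℓ = 1)
    (W : Submodule F (Fin 4 → F)) (hW : ∀ v ∈ W, A *ᵥ v ∈ W) :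
    (∀ v ∈ W, A *ᵥ v = v) ∨ (Module.finrank F W = 4 ∧ ∀ v ∈ W, A *ᵥ v = v → v = 0) := by
  classical
  haveI : Fintype W := Fintype.ofFinite W
  let f : Function.End W := fun v => ⟨A *ᵥ (v : Fin 4 → F), hW v v.2⟩
  have hfk : ∀ k : ℕ, ∀ v : W, (((f ^ k : Function.End W) v : W) : Fin 4 → F) = (A ^ k) *ᵥ (v : Fin 4 → F) := by
    intro k
    induction k with
    | zero => intro v; rw [pow_zero, pow_zero, Matrix.one_mulVec]; rfl
    | succ k ih =>
      intro v
      rw [pow_succ, pow_succ, ← Matrix.mulVec_mulVec]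
      exact ih (f v)
  have hf : f ^ ℓ ^ 1 = 1 := by
    rw [pow_one]
    funext v
    apply Subtype.ext
    rw [hfk, hA, Matrix.one_mulVec]; rfl
  have h1 := Equiv.Perm.card_fixedPoints_modEq hf
  let K : Submodule F W := LinearMap.ker ((Matrix.toLin' A).comp W.subtype - W.subtype)
  haveI : Fintype K := Fintype.ofFinite K
  have hK : ∀ v : W, v ∈ K ↔ A *ᵥ (v : Fin 4 → F) = v := by
    intro v
    rw [LinearMap.mem_ker, LinearMap.sub_apply, sub_eq_zero]
    rfl
  have h3 : Fintype.card (Function.fixedPoints f) = Fintype.card K := by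
    apply Fintype.card_congr
    apply Equiv.subtypeEquivRight
    intro v
    rw [hK]
    constructor
    · intro h
      exact congrArg Subtype.val h
    · intro h
      exact Subtype.ext h
  rw [h3, Module.card_eq_pow_finrank (K := F) (V := W), Module.card_eq_pow_finrank (K := F) (V := K)] at h1
  have h4 : Module.finrank F K ≤ Module.finrank F W := Submodule.finrank_le K
  have h5 : Module.finrank F W ≤ 4 := by
    have := Submodule.finrank_le W
    rwa [Module.finrank_fintype_fun_eq_card, Fintype.card_fin] at this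
  have hq : ((Fintype.card F : ℕ) : ZMod ℓ) ^ 2 = -1 := by
    have : ((Fintype.card F ^ 2 + 1 : ℕ) : ZMod ℓ) = 0 := (ZMod.natCast_eq_zero_iff _ _).2 hℓ
    push_cast at this
    linear_combination this
  have h22 : (2 : ZMod ℓ) ≠ 0 := by
    intro h
    have : ((2 : ℕ) : ZMod ℓ) = 0 := by exact_mod_cast h
    rw [ZMod.natCast_eq_zero_iff] at this
    exact h2 ((Nat.prime_dvd_prime_iff_eq hℓp.out Nat.prime_two).1 this)
  have hq0 : ((Fintype.card F : ℕ) : ZMod ℓ) ≠ 0 := by
    intro h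
    rw [h] at hq
    have : (1 : ZMod ℓ) = 0 := by linear_combination hq
    exact one_ne_zero this
  obtain ⟨j, hj⟩ := Nat.exists_eq_add_of_le h4
  have h6 : ((Fintype.card F : ℕ) : ZMod ℓ) ^ j = 1 := by
    have h7 : ((Fintype.card F ^ Module.finrank F W : ℕ) : ZMod ℓ) = ((Fintype.card F ^ Module.finrank F K : ℕ) : ZMod ℓ) := (ZMod.natCast_eq_natCast_iff _ _ _).2 h1
    push_cast at h7
    rw [hj, pow_add] at h7
    have h8 := mul_left_cancel₀ (pow_ne_zero _ hq0) (h7.trans (mul_one _).symm)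
    exact h8
  rcases pow_aux _ hq h22 (by omega) h6 with h7 | h7
  · left
    have h8 : K = ⊤ := Submodule.eq_top_of_finrank_eq (by omega)
    intro v hv
    have : (⟨v, hv⟩ : W) ∈ K := by rw [h8]; trivial
    exact (hK _).1 this
  · right
    refine ⟨by omega, ?_⟩
    intro v hv hAv
    have h8 : Module.finrank F K = 0 := by omega
    have h9 : K = ⊥ := Submodule.finrank_eq_zero.1 h8
    have h10 : (⟨v, hv⟩ : W) ∈ K := (hK _).2 hAv
    rw [h9, Submodule.mem_bot] at h10
    exact congrArg Subtype.val h10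

theorem irred (hℓ : ℓ ∣ Fintype.card F ^ 2 + 1) (h2 : ℓ ≠ 2) {A : Matrix (Fin 4) (Fin 4) F} (hA : A ^ ℓ = 1) (hA1 : A ≠ 1)
    (W : Submodule F (Fin 4 → F)) (hW : ∀ v ∈ W, A *ᵥ v ∈ W) : W = ⊥ ∨ W = ⊤ := by
  have h0 : ∀ v : Fin 4 → F, A *ᵥ v = v → v = 0 := by
    rcases fix_all hℓ h2 hA ⊤ (fun _ _ => trivial) with h | ⟨-, h⟩
    · exfalso
      apply hA1
      apply Matrix.toLin'.injective
      apply LinearMap.ext
      intro v
      rw [Matrix.toLin'_one]
      exact h v trivial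
    · intro v hv
      exact h v trivial hv
  rcases fix_all hℓ h2 hA W hW with h | ⟨h, -⟩
  · left
    rw [Submodule.eq_bot_iff]
    intro v hv
    exact h0 v (h v hv)
  · right
    apply Submodule.eq_top_of_finrank_eq
    rw [h, Module.finrank_fintype_fun_eq_card, Fintype.card_fin]

/-- the centralizer algebra is a domain -/
theorem cent_dom (hℓ : ℓ ∣ Fintype.card F ^ 2 + 1) (h2 : ℓ ≠ 2) {A : Matrix (Fin 4) (Fin 4) F} (hA : A ^ ℓ = 1) (hA1 : A ≠ 1) :
    IsDomain (Subalgebra.centralizer F ({A} : Set (Matrix (Fin 4) (Fin 4) F))) := by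
  haveI : NoZeroDivisors (Subalgebra.centralizer F ({A} : Set (Matrix (Fin 4) (Fin 4) F))) := by
    constructor
    rintro ⟨B, hB⟩ ⟨C, hC⟩ h
    have hBC : B * C = 0 := congrArg Subtype.val h
    have hBA : A * B = B * A := (Subalgebra.mem_centralizer_iff F).1 hB A rfl
    rcases irred hℓ h2 hA hA1 (LinearMap.ker (Matrix.toLin' B)) (by
      intro v hv
      rw [LinearMap.mem_ker, Matrix.toLin'_apply] at hv ⊢
      rw [Matrix.mulVec_mulVec, ← hBA, ← Matrix.mulVec_mulVec, hv, Matrix.mulVec_zero]) with h1 | h1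
    · right
      apply Subtype.ext
      show C = 0
      apply Matrix.toLin'.injective
      apply LinearMap.ext
      intro v
      rw [map_zero, LinearMap.zero_apply, Matrix.toLin'_apply]
      have h3 : C *ᵥ v ∈ LinearMap.ker (Matrix.toLin' B) := by
        rw [LinearMap.mem_ker, Matrix.toLin'_apply, Matrix.mulVec_mulVec, hBC, Matrix.zero_mulVec]
      rw [h1, Submodule.mem_bot] at h3
      exact h3
    · left
      apply Subtype.ext
      show B = 0
      apply Matrix.toLin'.injective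
      rw [map_zero]
      exact LinearMap.ker_eq_top.1 h1
  haveI : Nontrivial (Subalgebra.centralizer F ({A} : Set (Matrix (Fin 4) (Fin 4) F))) := ⟨⟨0, 1, fun h => by
    have : (0 : Matrix (Fin 4) (Fin 4) F) = 1 := congrArg Subtype.val h
    exact zero_ne_one this⟩⟩
  exact NoZeroDivisors.to_isDomain _

end lin

section grp
variable {F : Type*} [Field F] [Fintype F] (m : ℕ) [H : Hyp F m] {ℓ : ℕ} [hℓp : Fact ℓ.Prime]

omit hℓp in
theorem mat_pow (g : ↥(Cfsg.Sz F m)) (n : ℕ) : mat m (g ^ n) = mat m g ^ n := by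
  induction n with
  | zero => rw [pow_zero, pow_zero]; rfl
  | succ n ih => rw [pow_succ, pow_succ, mat_mul, ih]

omit hℓp in
theorem mat_inj {g h : ↥(Cfsg.Sz F m)} (H : mat m g = mat m h) : g = h := Subtype.ext (Subtype.ext H)

omit hℓp in
theorem mat_one : mat m (1 : ↥(Cfsg.Sz F m)) = 1 := rfl

/-- centralizer algebra -/
abbrev CA (g : ↥(Cfsg.Sz F m)) : Subalgebra F (Matrix (Fin 4) (Fin 4) F) := Subalgebra.centralizer F ({mat m g} : Set (Matrix (Fin 4) (Fin 4) F))

include H in
theorem CA_dom (hℓ : ℓ ∣ Fintype.card F ^ 2 + 1) (h2 : ℓ ≠ 2) {g : ↥(Cfsg.Sz F m)} (hg : g ^ ℓ = 1) (hg1 : g ≠ 1) : IsDomain (CA m g) := by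
  apply cent_dom hℓ h2
  · rw [← mat_pow, hg, mat_one]
  · intro h
    exact hg1 (mat_inj m (h.trans (mat_one m).symm))

omit hℓp in
theorem mem_CA {g x : ↥(Cfsg.Sz F m)} (hx : x * g = g * x) : mat m x ∈ CA m g := by
  rw [Subalgebra.mem_centralizer_iff]
  rintro _ rfl
  rw [← mat_mul, ← mat_mul, hx]

include H in
theorem cent_cyclic (hℓ : ℓ ∣ Fintype.card F ^ 2 + 1) (h2 : ℓ ≠ 2) {g : ↥(Cfsg.Sz F m)} (hg : g ^ ℓ = 1) (hg1 : g ≠ 1) : IsCyclic (Subgroup.centralizer {g}) := by
  haveI := CA_dom m hℓ h2 hg hg1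
  have hf := Finite.isDomain_to_isField (CA m g)
  letI : CommRing (CA m g) := { (inferInstance : Ring (CA m g)) with mul_comm := hf.mul_comm }
  let φ : Subgroup.centralizer {g} →* CA m g := {
    toFun := fun x => ⟨mat m (x : ↥(Cfsg.Sz F m)), mem_CA m (Subgroup.mem_centralizer_singleton_iff.1 x.2)⟩
    map_one' := rfl
    map_mul' := fun _ _ => rfl }
  have hφ : Function.Injective φ := by
    intro x y h
    have h' : mat m (x : ↥(Cfsg.Sz F m)) = mat m (y : ↥(Cfsg.Sz F m)) := congrArg (fun z : CA m g => (z : Matrix (Fin 4) (Fin 4) F)) h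
    exact Subtype.ext (mat_inj m h')
  exact isCyclic_of_injective_ringHom φ hφ

/-- the set of conjugates of `g` commuting with `g` has at most four elements -/
theorem conj_le (hℓ : ℓ ∣ Fintype.card F ^ 2 + 1) (h2 : ℓ ≠ 2) {g : ↥(Cfsg.Sz F m)} (hg : g ^ ℓ = 1) (hg1 : g ≠ 1) :
    Nat.card {y : ↥(Cfsg.Sz F m) // y * g = g * y ∧ ∃ x, y = x * g * x⁻¹} ≤ 4 := by
  classical
  haveI := CA_dom m hℓ h2 hg hg1
  have hf := Finite.isDomain_to_isField (CA m g)
  letI : CommRing (CA m g) := { (inferInstance : Ring (CA m g)) with mul_comm := hf.mul_comm }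
  haveI : IsDomain (CA m g) := CA_dom m hℓ h2 hg hg1
  let P : Polynomial (CA m g) := (mat m g).charpoly.map (algebraMap F (CA m g))
  have hP0 : P ≠ 0 := ((Matrix.charpoly_monic (mat m g)).map _).ne_zero
  have hPd : P.natDegree = 4 := by
    rw [(Matrix.charpoly_monic (mat m g)).natDegree_map, Matrix.charpoly_natDegree_eq_dim, Fintype.card_fin]
  have hroot : ∀ y : {y : ↥(Cfsg.Sz F m) // y * g = g * y ∧ ∃ x, y = x * g * x⁻¹}, (⟨mat m y.1, mem_CA m y.2.1⟩ : CA m g) ∈ P.roots.toFinset := by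
    rintro ⟨y, hy, x, hx⟩
    rw [Multiset.mem_toFinset, Polynomial.mem_roots hP0, Polynomial.IsRoot.def, Polynomial.eval_map]
    apply Subtype.ext
    have h3 : ((Polynomial.eval₂ (algebraMap F (CA m g)) (⟨mat m y, mem_CA m hy⟩ : CA m g) (mat m g).charpoly : CA m g) : Matrix (Fin 4) (Fin 4) F) =
        Polynomial.aeval (mat m y) (mat m g).charpoly := by
      rw [Polynomial.aeval_def]
      exact Polynomial.hom_eval₂ (mat m g).charpoly (algebraMap F (CA m g)) (CA m g).val.toRingHom ⟨mat m y, mem_CA m hy⟩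
    have h4 : (mat m g).charpoly = (mat m y).charpoly := by
      have h5 : mat m y = mat m x * mat m g * mat m x⁻¹ := by rw [hx, mat_mul, mat_mul]
      rw [h5, Matrix.charpoly_mul_comm, ← Matrix.mul_assoc, ← mat_mul, inv_mul_cancel, mat_one, Matrix.one_mul]
    refine h3.trans ?_
    rw [h4]
    exact Matrix.aeval_self_charpoly _
  have h1 : Nat.card {y : ↥(Cfsg.Sz F m) // y * g = g * y ∧ ∃ x, y = x * g * x⁻¹} ≤ Nat.card P.roots.toFinset := by
    apply Nat.card_le_card_of_injective (fun y => (⟨_, hroot y⟩ : P.roots.toFinset))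
    intro a b h
    have h3 : (⟨mat m a.1, mem_CA m a.2.1⟩ : CA m g) = ⟨mat m b.1, mem_CA m b.2.1⟩ := congrArg Subtype.val h
    have h4 : mat m a.1 = mat m b.1 := congrArg (fun z : CA m g => (z : Matrix (Fin 4) (Fin 4) F)) h3
    exact Subtype.ext (mat_inj m h4)
  refine h1.trans ?_
  rw [Nat.card_eq_fintype_card, Fintype.card_coe]
  exact ((Multiset.toFinset_card_le _).trans (Polynomial.card_roots' P)).trans hPd.le

end grp

end Cfsg.Agent.H8.Suz
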