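import Mathlib

set_option autoImplicit false

namespace Cfsg.Agent.H8.TI

variable {G : Type*} [Group G]

/-- non-identity elements conjugate into `A` -/
def cov (A : Subgroup G) : Set G := {y | y ≠ 1 ∧ ∃ x : G, x⁻¹ * y * x ∈ A}

/-- trivial intersection set -/
def IsTI (A : Subgroup G) : Prop := ∀ x : G, ∀ a ∈ A, a ≠ 1 → x * a * x⁻¹ ∈ A → x ∈ Subgroup.normalizer (A : Set G)

theorem card_cov [Finite G] (A : Subgroup G) (hA : IsTI A) :
    Nat.card (cov A) * Nat.card (Subgroup.normalizer (A : Set G)) = Nat.card G * (Nat.card A - 1) := by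
  classical
  let φ : G × {a : A // a ≠ 1} → cov A := fun p => ⟨p.1 * (p.2.1 : G) * p.1⁻¹, by
    refine ⟨?_, p.1, ?_⟩
    · intro h
      apply p.2.2
      apply Subtype.ext
      have : ((p.2.1 : A) : G) = p.1⁻¹ * (p.1 * (p.2.1 : G) * p.1⁻¹) * p.1 := by group
      rw [this, h, Subgroup.coe_one]; group
    · have : p.1⁻¹ * (p.1 * (p.2.1 : G) * p.1⁻¹) * p.1 = p.2.1 := by group
      rw [this]; exact p.2.1.2⟩
  have hfib : ∀ y : cov A, Nonempty ({p // φ p = y} ≃ Subgroup.normalizer (A : Set G)) := by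
    rintro ⟨y, hy1, x₀, hx₀⟩
    have ha₀ : x₀⁻¹ * y * x₀ ≠ 1 := by
      intro h
      apply hy1
      have : y = x₀ * (x₀⁻¹ * y * x₀) * x₀⁻¹ := by group
      rw [this, h]; group
    refine ⟨{ toFun := fun p => ⟨p.1.1⁻¹ * x₀, ?_⟩, invFun := fun n => ⟨(x₀ * (n : G)⁻¹, ⟨⟨n * (x₀⁻¹ * y * x₀) * (n : G)⁻¹, ?_⟩, ?_⟩), ?_⟩, left_inv := ?_, right_inv := ?_ }⟩
    · have h1 : p.1.1 * (p.1.2.1 : G) * p.1.1⁻¹ = y := congrArg Subtype.val p.2
      apply hA _ _ hx₀ ha₀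
      have : p.1.1⁻¹ * x₀ * (x₀⁻¹ * y * x₀) * (p.1.1⁻¹ * x₀)⁻¹ = p.1.2.1 := by
        calc p.1.1⁻¹ * x₀ * (x₀⁻¹ * y * x₀) * (p.1.1⁻¹ * x₀)⁻¹ = p.1.1⁻¹ * y * p.1.1 := by group
          _ = p.1.1⁻¹ * (p.1.1 * (p.1.2.1 : G) * p.1.1⁻¹) * p.1.1 := congrArg (fun t => p.1.1⁻¹ * t * p.1.1) h1.symm
          _ = p.1.2.1 := by group
      rw [this]; exact p.1.2.1.2
    · exact (Subgroup.mem_normalizer_iff.1 n.2 _).1 hx₀
    · intro h
      apply ha₀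
      have h1 : n * (x₀⁻¹ * y * x₀) * (n : G)⁻¹ = 1 := congrArg Subtype.val h
      have : x₀⁻¹ * y * x₀ = (n : G)⁻¹ * (n * (x₀⁻¹ * y * x₀) * (n : G)⁻¹) * n := by group
      rw [this, h1]; group
    · apply Subtype.ext
      show x₀ * (n : G)⁻¹ * (n * (x₀⁻¹ * y * x₀) * (n : G)⁻¹) * (x₀ * (n : G)⁻¹)⁻¹ = y
      group
    · rintro ⟨⟨x, a, ha⟩, hp⟩
      have h1 : x * (a : G) * x⁻¹ = y := congrArg Subtype.val hp
      apply Subtype.ext
      refine Prod.ext ?_ ?_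
      · show x₀ * (x⁻¹ * x₀)⁻¹ = x
        group
      · apply Subtype.ext
        apply Subtype.ext
        show (x⁻¹ * x₀) * (x₀⁻¹ * y * x₀) * (x⁻¹ * x₀)⁻¹ = a
        calc (x⁻¹ * x₀) * (x₀⁻¹ * y * x₀) * (x⁻¹ * x₀)⁻¹ = x⁻¹ * y * x := by group
          _ = x⁻¹ * (x * (a : G) * x⁻¹) * x := congrArg (fun t => x⁻¹ * t * x) h1.symm
          _ = a := by group
    · rintro ⟨n, hn⟩
      apply Subtype.ext
      show (x₀ * n⁻¹)⁻¹ * x₀ = n
      simp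
  have e1 : (G × {a : A // a ≠ 1}) ≃ (Σ y : cov A, {p // φ p = y}) := (Equiv.sigmaFiberEquiv φ).symm
  have e2 : (Σ y : cov A, {p // φ p = y}) ≃ (Σ _ : cov A, Subgroup.normalizer (A : Set G)) := Equiv.sigmaCongrRight (fun y => (hfib y).some)
  have e3 : (Σ _ : cov A, Subgroup.normalizer (A : Set G)) ≃ cov A × Subgroup.normalizer (A : Set G) := Equiv.sigmaEquivProd _ _
  have h1 := Nat.card_congr ((e1.trans e2).trans e3)
  rw [Nat.card_prod, Nat.card_prod] at h1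
  rw [← h1]
  congr 1
  haveI := Fintype.ofFinite A
  have h2 : Fintype.card {a : A // a ≠ 1} = Fintype.card A - 1 := by
    rw [Fintype.card_subtype_compl, Fintype.card_subtype_eq]
  rw [Nat.card_eq_fintype_card, Nat.card_eq_fintype_card, h2]

end Cfsg.Agent.H8.TI
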