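import Mathlib
import Cfsg.Agent.H8.SzI
import Cfsg.Agent.H8.TI

set_option autoImplicit false

namespace Cfsg.Agent.H8.Suz

open Matrix Cfsg.Agent.H8.TI
open scoped Pointwise

variable {F : Type*} [Field F] [Fintype F] (m : ℕ) [H : Hyp F m]

/-- fixed-point-free elements -/
def Fpf (g : ↥(Cfsg.Sz F m)) : Prop := ∀ p : Om F m, g • p ≠ p

/-- an element with a fixed point -/
theorem cases_fix {g : ↥(Cfsg.Sz F m)} (hg : ¬ Fpf m g) :
    (∃ x, ∃ u ∈ Q F m, g = x * u * x⁻¹) ∨ (∃ x, ∃ k : Fˣ, (k : F) ≠ 1 ∧ g = x * T m k * x⁻¹) := by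
  unfold Fpf at hg
  push Not at hg
  obtain ⟨p, hp⟩ := hg
  haveI := pretrans F m
  obtain ⟨x, hx⟩ := MulAction.exists_smul_eq ↥(Cfsg.Sz F m) (oi F m) p
  have h1 : x⁻¹ * g * x ∈ B F m := by
    rw [mem_B, mul_smul, mul_smul, hx, hp, ← hx, inv_smul_smul]
  by_cases h2 : x⁻¹ * g * x ∈ Q F m
  · left
    exact ⟨x, _, h2, by group⟩
  · right
    obtain ⟨a, b, k, hk, h3⟩ := conj_T m h1 h2
    refine ⟨x * U m a b, k, hk, ?_⟩
    have : g = x * (x⁻¹ * g * x) * x⁻¹ := by group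
    rw [this, h3]; group

theorem not_fpf_conj {x g : ↥(Cfsg.Sz F m)} (h : ¬ Fpf m g) : ¬ Fpf m (x * g * x⁻¹) := by
  unfold Fpf at h ⊢
  push Not at h ⊢
  obtain ⟨p, hp⟩ := h
  exact ⟨x • p, by rw [mul_smul, mul_smul, inv_smul_smul, hp]⟩

theorem fpf_conj {x g : ↥(Cfsg.Sz F m)} (h : Fpf m g) : Fpf m (x * g * x⁻¹) := by
  by_contra hcon
  have := not_fpf_conj m (x := x⁻¹) hcon
  apply this
  have e : x⁻¹ * (x * g * x⁻¹) * x⁻¹⁻¹ = g := by group
  rw [e]; exact h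

theorem fpf_ne_one {g : ↥(Cfsg.Sz F m)} (h : Fpf m g) : g ≠ 1 := by
  rintro rfl
  exact h (oi F m) (one_smul _ _)

/-- elements commuting with a fixed-point-free element are fixed-point-free -/
theorem fpf_comm {g h : ↥(Cfsg.Sz F m)} (hg : Fpf m g) (hc : g * h = h * g) (h1 : h ≠ 1) : Fpf m h := by
  by_contra hcon
  rcases cases_fix m hcon with ⟨x, u, hu, rfl⟩ | ⟨x, k, hk, rfl⟩
  · have hu1 : u ≠ 1 := by
      rintro rfl
      apply h1; group
    have h2 : x⁻¹ * g * x ∈ Subgroup.centralizer {u} := by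
      rw [Subgroup.mem_centralizer_singleton_iff]
      calc x⁻¹ * g * x * u = x⁻¹ * (g * (x * u * x⁻¹)) * x := by group
        _ = x⁻¹ * (x * u * x⁻¹ * g) * x := by rw [hc]
        _ = _ := by group
    have h3 := Q_le_B m (cent_Q m hu hu1 h2)
    apply hg (x • oi F m)
    rw [mem_B, mul_smul, mul_smul, inv_smul_eq_iff] at h3
    exact h3
  · have h2 : x⁻¹ * g * x ∈ Subgroup.centralizer {T m k} := by
      rw [Subgroup.mem_centralizer_singleton_iff]
      calc x⁻¹ * g * x * T m k = x⁻¹ * (g * (x * T m k * x⁻¹)) * x := by group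
        _ = x⁻¹ * (x * T m k * x⁻¹ * g) * x := by rw [hc]
        _ = _ := by group
    rw [cent_T m hk] at h2
    obtain ⟨l, hl⟩ := h2
    apply hg (x • oi F m)
    have h3 : (x⁻¹ * g * x) • oi F m = oi F m := by rw [← hl, T_oi]
    rw [mul_smul, mul_smul, inv_smul_eq_iff] at h3
    exact h3

theorem card_Om' : Nat.card (Om F m) = (2 ^ (2 * m + 1)) ^ 2 + 1 := by rw [card_Om, H.hF]

/-- a fixed-point-free element of prime order -/
theorem fpf_prime {g : ↥(Cfsg.Sz F m)} (hg : Fpf m g) {ℓ : ℕ} [hℓ : Fact ℓ.Prime] (h : g ^ ℓ = 1) : ℓ ∣ Fintype.card F ^ 2 + 1 := by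
  classical
  haveI : Fintype (Om F m) := Fintype.ofFinite _
  let f : Function.End (Om F m) := fun p => g • p
  have hfk : ∀ k : ℕ, ∀ p : Om F m, (f ^ k : Function.End (Om F m)) p = g ^ k • p := by
    intro k
    induction k with
    | zero => intro v; rw [pow_zero, pow_zero, one_smul]; rfl
    | succ k ih =>
      intro v
      rw [pow_succ, pow_succ, mul_smul]
      exact ih (f v)
  have hf : f ^ ℓ ^ 1 = 1 := by
    rw [pow_one]
    funext v
    rw [hfk, h, one_smul]; rfl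
  have h1 := Equiv.Perm.card_fixedPoints_modEq hf
  have h2 : Fintype.card (Function.fixedPoints f) = 0 := by
    rw [Fintype.card_eq_zero_iff]
    exact ⟨fun p => hg p.1 p.2⟩
  rw [h2] at h1
  have h3 := (Nat.modEq_zero_iff_dvd).1 h1
  rwa [Fintype.card_eq_nat_card, card_Om] at h3

include H in
theorem odd_card_Om : Odd (Fintype.card F ^ 2 + 1) := by
  rw [H.hF]
  apply Even.add_one
  apply Even.pow_of_ne_zero _ two_ne_zero
  exact even_iff_two_dvd.2 (dvd_pow_self 2 (by omega))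

/-- prime order power -/
theorem exists_prime_pow {G : Type*} [Group G] [Finite G] {g : G} (hg : g ≠ 1) : ∃ ℓ : ℕ, ℓ.Prime ∧ ∃ k : ℕ, (g ^ k) ^ ℓ = 1 ∧ g ^ k ≠ 1 := by
  have h1 : orderOf g ≠ 1 := fun h => hg (orderOf_eq_one_iff.1 h)
  obtain ⟨ℓ, hℓ, k, hk⟩ := Nat.exists_prime_and_dvd h1
  refine ⟨ℓ, hℓ, k, ?_, ?_⟩
  · rw [← pow_mul, mul_comm, ← hk, pow_orderOf_eq_one]
  · intro h
    have h2 := orderOf_dvd_of_pow_eq_one h
    have h3 : 0 < orderOf g := orderOf_pos g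
    have h4 : 0 < k := by
      rcases Nat.eq_zero_or_pos k with h5 | h5
      · rw [h5, mul_zero] at hk; omega
      · exact h5
    have h5 := Nat.le_of_dvd h4 h2
    rw [hk] at h5
    have := hℓ.two_le
    nlinarith

/-- centralizers of fixed-point-free elements are cyclic -/
theorem fpf_cent {g : ↥(Cfsg.Sz F m)} (hg : Fpf m g) : ∃ ℓ : ℕ, ∃ h : ↥(Cfsg.Sz F m), ℓ.Prime ∧ ℓ ∣ Fintype.card F ^ 2 + 1 ∧ ℓ ≠ 2 ∧ h ^ ℓ = 1 ∧ h ≠ 1 ∧ Fpf m h ∧
    Subgroup.centralizer {g} = Subgroup.centralizer {h} ∧ IsCyclic (Subgroup.centralizer {g}) := by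
  obtain ⟨ℓ, hℓ, k, h1, h2⟩ := exists_prime_pow (fpf_ne_one m hg)
  haveI := Fact.mk hℓ
  have hc : g * g ^ k = g ^ k * g := by rw [← pow_succ, ← pow_succ']
  have h3 : Fpf m (g ^ k) := fpf_comm m hg hc h2
  have h4 := fpf_prime m h3 h1
  have h5 : ℓ ≠ 2 := by
    rintro rfl
    have := odd_card_Om (F := F) m
    rw [← Nat.not_even_iff_odd] at this
    exact this (even_iff_two_dvd.2 h4)
  have h6 := cent_cyclic m h4 h5 h1 h2
  have h7 : Subgroup.centralizer {g} = Subgroup.centralizer {g ^ k} := by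
    apply le_antisymm
    · intro x hx
      rw [Subgroup.mem_centralizer_singleton_iff] at hx ⊢
      exact (Commute.pow_right hx k)
    · intro x hx
      rw [Subgroup.mem_centralizer_singleton_iff]
      have hg' : g ∈ Subgroup.centralizer {g ^ k} := Subgroup.mem_centralizer_singleton_iff.2 hc
      letI := IsCyclic.commGroup (α := Subgroup.centralizer {g ^ k})
      have := mul_comm (⟨x, hx⟩ : Subgroup.centralizer {g ^ k}) ⟨g, hg'⟩
      exact congrArg Subtype.val this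
  refine ⟨ℓ, g ^ k, hℓ, h4, h5, h1, h2, h3, h7, ?_⟩
  rw [h7]; exact h6

theorem fpf_cent_comm {g x y : ↥(Cfsg.Sz F m)} (hg : Fpf m g) (hx : x ∈ Subgroup.centralizer {g}) (hy : y ∈ Subgroup.centralizer {g}) : x * y = y * x := by
  obtain ⟨-, -, -, -, -, -, -, -, -, hc⟩ := fpf_cent m hg
  letI := IsCyclic.commGroup (α := Subgroup.centralizer {g})
  have := mul_comm (⟨x, hx⟩ : Subgroup.centralizer {g}) ⟨y, hy⟩
  exact congrArg Subtype.val this

theorem fpf_cent_eq {g x : ↥(Cfsg.Sz F m)} (hg : Fpf m g) (hx : x ∈ Subgroup.centralizer {g}) (hx1 : x ≠ 1) :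
    Subgroup.centralizer {x} = Subgroup.centralizer {g} := by
  have hxc := Subgroup.mem_centralizer_singleton_iff.1 hx
  have hxf : Fpf m x := fpf_comm m hg hxc.symm hx1
  have hgx : g ∈ Subgroup.centralizer {x} := Subgroup.mem_centralizer_singleton_iff.2 hxc.symm
  apply le_antisymm
  · intro y hy
    rw [Subgroup.mem_centralizer_singleton_iff]
    exact fpf_cent_comm m hxf hy hgx
  · intro y hy
    rw [Subgroup.mem_centralizer_singleton_iff]
    exact fpf_cent_comm m hg hy hx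

theorem centralizer_conj {G : Type*} [Group G] (x g y : G) : y ∈ Subgroup.centralizer {x * g * x⁻¹} ↔ x⁻¹ * y * x ∈ Subgroup.centralizer {g} := by
  rw [Subgroup.mem_centralizer_singleton_iff, Subgroup.mem_centralizer_singleton_iff]
  constructor
  · intro h
    calc x⁻¹ * y * x * g = x⁻¹ * (y * (x * g * x⁻¹)) * x := by group
      _ = x⁻¹ * (x * g * x⁻¹ * y) * x := by rw [h]
      _ = _ := by group
  · intro h
    calc y * (x * g * x⁻¹) = x * (x⁻¹ * y * x * g) * x⁻¹ := by group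
      _ = x * (g * (x⁻¹ * y * x)) * x⁻¹ := by rw [h]
      _ = _ := by group

theorem fpf_TI {g : ↥(Cfsg.Sz F m)} (hg : Fpf m g) : IsTI (Subgroup.centralizer {g}) := by
  intro x a ha ha1 hxa
  have h1 := fpf_cent_eq m hg ha ha1
  have hxa1 : x * a * x⁻¹ ≠ 1 := by
    intro h
    apply ha1
    have : a = x⁻¹ * (x * a * x⁻¹) * x := by group
    rw [this, h]; group
  have h2 := fpf_cent_eq m hg hxa hxa1
  rw [Subgroup.mem_normalizer_iff]
  intro y
  constructor
  · intro hy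
    have hy' : y ∈ Subgroup.centralizer {a} := by rw [h1]; exact hy
    show x * y * x⁻¹ ∈ Subgroup.centralizer {g}
    rw [← h2, centralizer_conj]
    have e : x⁻¹ * (x * y * x⁻¹) * x = y := by group
    rw [e]; exact hy'
  · intro hy
    have hy' : x * y * x⁻¹ ∈ Subgroup.centralizer {x * a * x⁻¹} := by rw [h2]; exact hy
    rw [centralizer_conj] at hy'
    have e : x⁻¹ * (x * y * x⁻¹) * x = y := by group
    rw [e, h1] at hy'
    exact hy'

theorem fpf_dvd {g : ↥(Cfsg.Sz F m)} (hg : Fpf m g) : Nat.card (Subgroup.centralizer {g}) ∣ (2 ^ (2 * m + 1)) ^ 2 + 1 := by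
  classical
  haveI : Fintype (Om F m) := Fintype.ofFinite _
  haveI : Fintype (Subgroup.centralizer {g}) := Fintype.ofFinite _
  haveI : ∀ a : Subgroup.centralizer {g}, Fintype (MulAction.fixedBy (Om F m) a) := fun a => Fintype.ofFinite _
  haveI : Fintype (MulAction.orbitRel.Quotient (Subgroup.centralizer {g}) (Om F m)) := Fintype.ofFinite _
  have h1 := MulAction.sum_card_fixedBy_eq_card_orbits_mul_card_group (Subgroup.centralizer {g}) (Om F m)
  have h2 : ∑ a : Subgroup.centralizer {g}, Fintype.card (MulAction.fixedBy (Om F m) a) = Fintype.card (Om F m) := by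
    rw [Finset.sum_eq_single (1 : Subgroup.centralizer {g})]
    · apply Fintype.card_congr
      apply Equiv.subtypeUnivEquiv
      intro p
      exact one_smul _ _
    · intro a _ ha
      rw [Fintype.card_eq_zero_iff]
      constructor
      rintro ⟨p, hp⟩
      have h3 : Fpf m (a : ↥(Cfsg.Sz F m)) := fpf_comm m hg (Subgroup.mem_centralizer_singleton_iff.1 a.2).symm (fun h => ha (Subtype.ext h))
      exact h3 p hp
    · intro h; exact absurd (Finset.mem_univ _) h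
  rw [h2, Fintype.card_eq_nat_card, card_Om' (F := F) m] at h1
  rw [h1, Nat.card_eq_fintype_card]
  exact Dvd.intro_left _ rfl

theorem fpf_norm {g : ↥(Cfsg.Sz F m)} (hg : Fpf m g) :
    ∃ n : ℕ, n ≤ 4 ∧ 1 ≤ n ∧ Nat.card (Subgroup.normalizer ((Subgroup.centralizer {g} : Subgroup ↥(Cfsg.Sz F m)) : Set ↥(Cfsg.Sz F m))) = n * Nat.card (Subgroup.centralizer {g}) := by
  obtain ⟨ℓ, h, hℓ, h4, h5, h1, h2, h3, h7, -⟩ := fpf_cent m hg
  haveI := Fact.mk hℓ
  rw [h7]
  have h8 := conj_le m h4 h5 h1 h2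
  set C := Subgroup.centralizer {h} with hC
  set N := Subgroup.normalizer (C : Set ↥(Cfsg.Sz F m)) with hN
  have hCN : C ≤ N := Subgroup.le_normalizer
  have hhC : h ∈ C := Subgroup.mem_centralizer_singleton_iff.2 rfl
  let φ : N ⧸ C.subgroupOf N → {y : ↥(Cfsg.Sz F m) // y * h = h * y ∧ ∃ x, y = x * h * x⁻¹} :=
    Quotient.lift (fun x => ⟨(x : ↥(Cfsg.Sz F m)) * h * (x : ↥(Cfsg.Sz F m))⁻¹, Subgroup.mem_centralizer_singleton_iff.1 ((Subgroup.mem_normalizer_iff.1 x.2 h).1 hhC), ⟨x, rfl⟩⟩) (by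
      intro a b hab
      have h9' : a⁻¹ * b ∈ C.subgroupOf N := QuotientGroup.leftRel_apply.1 hab
      have h9 : (a : ↥(Cfsg.Sz F m))⁻¹ * b ∈ C := h9'
      rw [hC, Subgroup.mem_centralizer_singleton_iff] at h9
      apply Subtype.ext
      show (a : ↥(Cfsg.Sz F m)) * h * (a : ↥(Cfsg.Sz F m))⁻¹ = b * h * (b : ↥(Cfsg.Sz F m))⁻¹
      calc (a : ↥(Cfsg.Sz F m)) * h * (a : ↥(Cfsg.Sz F m))⁻¹ = a * (h * ((a : ↥(Cfsg.Sz F m))⁻¹ * b)) * (b : ↥(Cfsg.Sz F m))⁻¹ := by group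
        _ = a * ((a : ↥(Cfsg.Sz F m))⁻¹ * b * h) * (b : ↥(Cfsg.Sz F m))⁻¹ := by rw [h9]
        _ = _ := by group)
  have hφ : Function.Injective φ := by
    rintro ⟨a⟩ ⟨b⟩ hab
    have h9 : (a : ↥(Cfsg.Sz F m)) * h * (a : ↥(Cfsg.Sz F m))⁻¹ = b * h * (b : ↥(Cfsg.Sz F m))⁻¹ := congrArg Subtype.val hab
    apply Quotient.sound
    show QuotientGroup.leftRel (C.subgroupOf N) a b
    rw [QuotientGroup.leftRel_apply, Subgroup.mem_subgroupOf]
    show (a : ↥(Cfsg.Sz F m))⁻¹ * b ∈ C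
    rw [hC, Subgroup.mem_centralizer_singleton_iff]
    calc (a : ↥(Cfsg.Sz F m))⁻¹ * b * h = (a : ↥(Cfsg.Sz F m))⁻¹ * (b * h * (b : ↥(Cfsg.Sz F m))⁻¹) * b := by group
      _ = (a : ↥(Cfsg.Sz F m))⁻¹ * (a * h * (a : ↥(Cfsg.Sz F m))⁻¹) * b := by rw [h9]
      _ = _ := by group
  have h10 : Nat.card (N ⧸ C.subgroupOf N) ≤ 4 := (Nat.card_le_card_of_injective φ hφ).trans h8
  refine ⟨Nat.card (N ⧸ C.subgroupOf N), h10, Nat.card_pos, ?_⟩
  have h11 := Subgroup.card_eq_card_quotient_mul_card_subgroup (C.subgroupOf N)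
  rw [h11, Nat.card_congr (Subgroup.subgroupOfEquivOfLe hCN).toEquiv]

end Cfsg.Agent.H8.Suz
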