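import Mathlib
import Cfsg.Agent.H8.SzJ

set_option autoImplicit false

namespace Cfsg.Agent.H8.Suz

open Matrix Cfsg.Agent.H8.TI
open scoped Pointwise

variable {F : Type*} [Field F] [Fintype F] (m : ℕ) [H : Hyp F m]

/-- the split torus -/
abbrev TT (F : Type*) [Field F] [Fintype F] (m : ℕ) [H : Hyp F m] : Subgroup ↥(Cfsg.Sz F m) := (T m : Fˣ →* ↥(Cfsg.Sz F m)).range

theorem TI_Q : IsTI (Q F m) := by
  intro x a ha ha1 hxa
  rw [normalizer_Q, mem_B]
  apply Q_fix m hxa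
  · intro h
    apply ha1
    have : a = x⁻¹ * (x * a * x⁻¹) * x := by group
    rw [this, h]; group
  · rw [mul_smul, mul_smul, inv_smul_smul, (Q_le_B m ha : a • oi F m = oi F m)]

theorem T_ne {k : Fˣ} (h : T m k ≠ 1) : (k : F) ≠ 1 := by
  intro h1
  have : k = 1 := Units.ext h1
  rw [this, map_one] at h
  exact h rfl

theorem mem_norm_TT {x : ↥(Cfsg.Sz F m)} : x ∈ Subgroup.normalizer (TT F m : Set ↥(Cfsg.Sz F m)) ↔ (∃ k : Fˣ, x = T m k) ∨ (∃ k : Fˣ, x = T m k * W F m) := by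
  constructor
  · intro hx
    obtain ⟨k, hk⟩ := exists_unit_ne (F := F) m
    obtain ⟨l, hl⟩ := (Subgroup.mem_normalizer_iff.1 hx (T m k)).1 ⟨k, rfl⟩
    exact normalizer_T m hk hl.symm
  · have hW : W F m ∈ Subgroup.normalizer (TT F m : Set ↥(Cfsg.Sz F m)) := by
      rw [Subgroup.mem_normalizer_iff]
      intro h
      constructor
      · rintro ⟨k, rfl⟩
        exact ⟨k⁻¹, by rw [T_conj_W, map_inv]⟩
      · rintro ⟨k, hk⟩
        refine ⟨k⁻¹, ?_⟩
        have : h = (W F m)⁻¹ * (W F m * h * (W F m)⁻¹) * W F m := by group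
        rw [this, ← hk]
        have h2 := T_conj_W (F := F) m k
        rw [W_inv] at h2 ⊢
        rw [h2, map_inv]
    rintro (⟨k, rfl⟩ | ⟨k, rfl⟩)
    · exact Subgroup.le_normalizer ⟨k, rfl⟩
    · exact Subgroup.mul_mem _ (Subgroup.le_normalizer ⟨k, rfl⟩) hW

theorem TI_T : IsTI (TT F m) := by
  rintro x _ ⟨k, rfl⟩ hk ⟨l, hl⟩
  rw [mem_norm_TT]
  exact normalizer_T m (T_ne m hk) hl.symm

theorem card_norm_TT : Nat.card (Subgroup.normalizer (TT F m : Set ↥(Cfsg.Sz F m))) = 2 * (2 ^ (2 * m + 1) - 1) := by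
  have hne : ∀ k l : Fˣ, T m k ≠ T m l * W F m := by
    intro k l h
    have h1 : T m k • oi F m = (T m l * W F m) • oi F m := by rw [h]
    rw [T_oi, mul_smul, W_oi, T_op0] at h1
    exact op_ne_oi m 0 0 h1.symm
  let f : Fˣ ⊕ Fˣ → Subgroup.normalizer (TT F m : Set ↥(Cfsg.Sz F m)) := fun s => match s with
    | Sum.inl k => ⟨T m k, (mem_norm_TT m).2 (Or.inl ⟨k, rfl⟩)⟩
    | Sum.inr k => ⟨T m k * W F m, (mem_norm_TT m).2 (Or.inr ⟨k, rfl⟩)⟩
  have hf : Function.Bijective f := by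
    constructor
    · rintro (k | k) (l | l) h
      · exact congrArg Sum.inl (T_inj m (congrArg Subtype.val h))
      · exact absurd (congrArg Subtype.val h) (hne k l)
      · exact absurd (congrArg Subtype.val h).symm (hne l k)
      · exact congrArg Sum.inr (T_inj m (mul_right_cancel (congrArg Subtype.val h)))
    · rintro ⟨x, hx⟩
      rcases (mem_norm_TT m).1 hx with ⟨k, rfl⟩ | ⟨k, rfl⟩
      · exact ⟨Sum.inl k, rfl⟩
      · exact ⟨Sum.inr k, rfl⟩
  rw [← Nat.card_congr (Equiv.ofBijective f hf), Nat.card_sum, card_units (F := F) m]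
  ring

/-- the set of fixed-point-free elements -/
def FS (F : Type*) [Field F] [Fintype F] (m : ℕ) [H : Hyp F m] : Set ↥(Cfsg.Sz F m) := {g | Fpf m g}

theorem card_split : Nat.card ↥(Cfsg.Sz F m) = 1 + Nat.card (cov (Q F m)) + Nat.card (cov (TT F m)) + Nat.card (FS F m) := by
  classical
  have hQf : ∀ y ∈ cov (Q F m), ¬ Fpf m y := by
    rintro y ⟨-, x, hx⟩ hy
    apply hy (x • oi F m)
    have h := Q_le_B m hx
    rw [mem_B, mul_smul, mul_smul, inv_smul_eq_iff] at h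
    exact h
  have hTf : ∀ y ∈ cov (TT F m), ¬ Fpf m y := by
    rintro y ⟨-, x, k, hk⟩ hy
    apply hy (x • oi F m)
    have h : (x⁻¹ * y * x) • oi F m = oi F m := by rw [← hk, T_oi]
    rw [mul_smul, mul_smul, inv_smul_eq_iff] at h
    exact h
  have hQT : ∀ y ∈ cov (Q F m), y ∉ cov (TT F m) := by
    rintro y ⟨hy1, x, hx⟩ ⟨-, z, k, hk⟩
    have hu1 : x⁻¹ * y * x ≠ 1 := by
      intro h
      apply hy1
      have : y = x * (x⁻¹ * y * x) * x⁻¹ := by group
      rw [this, h]; group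
    have hz1 : (x⁻¹ * y * x) • (x⁻¹ • z • oi F m) = x⁻¹ • z • oi F m := by
      have h : (z⁻¹ * y * z) • oi F m = oi F m := by rw [← hk, T_oi]
      rw [mul_smul, mul_smul, inv_smul_eq_iff] at h
      rw [mul_smul, mul_smul, smul_inv_smul, h]
    have hz2 : (x⁻¹ * y * x) • (x⁻¹ • z • op m (0 : F) 0) = x⁻¹ • z • op m 0 0 := by
      have h : (z⁻¹ * y * z) • op m (0 : F) 0 = op m 0 0 := by rw [← hk, T_op0]
      rw [mul_smul, mul_smul, inv_smul_eq_iff] at h
      rw [mul_smul, mul_smul, smul_inv_smul, h]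
    have h1 := Q_fix m hx hu1 hz1
    have h2 := Q_fix m hx hu1 hz2
    have h3 := h1.trans h2.symm
    exact op_ne_oi m 0 0 (smul_left_cancel z (smul_left_cancel x⁻¹ h3)).symm
  have h1 : (Set.univ : Set ↥(Cfsg.Sz F m)) = (({1} ∪ cov (Q F m)) ∪ cov (TT F m)) ∪ FS F m := by
    ext g
    simp only [Set.mem_univ, Set.mem_union, Set.mem_singleton_iff, true_iff]
    by_cases hg1 : g = 1
    · left; left; left; exact hg1
    by_cases hf : Fpf m g
    · right; exact hf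
    · left
      rcases cases_fix m hf with ⟨x, u, hu, h⟩ | ⟨x, k, hk, h⟩
      · left; right
        refine ⟨hg1, x, ?_⟩
        have : x⁻¹ * g * x = u := by rw [h]; group
        rw [this]; exact hu
      · right
        refine ⟨hg1, x, ?_⟩
        have : x⁻¹ * g * x = T m k := by rw [h]; group
        rw [this]; exact ⟨k, rfl⟩
  have h2 : Nat.card ↥(Cfsg.Sz F m) = (Set.univ : Set ↥(Cfsg.Sz F m)).ncard := (Set.ncard_univ _).symm
  rw [h2, h1, Set.ncard_union_eq _ (Set.toFinite _) (Set.toFinite _), Set.ncard_union_eq _ (Set.toFinite _) (Set.toFinite _), Set.ncard_union_eq _ (Set.toFinite _) (Set.toFinite _), Set.ncard_singleton]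
  · rfl
  · rw [Set.disjoint_singleton_left]
    rintro ⟨h, -⟩; exact h rfl
  · rw [Set.disjoint_left]
    rintro y (rfl | hy) hy2
    · exact hy2.1 rfl
    · exact hQT y hy hy2
  · rw [Set.disjoint_left]
    rintro y ((rfl | hy) | hy) hy2
    · exact fpf_ne_one m hy2 rfl
    · exact hQf y hy hy2
    · exact hTf y hy hy2

/-- number of fixed-point-free elements -/
theorem card_FS : 2 * Nat.card (FS F m) = (2 ^ (2 * m + 1)) ^ 3 * (2 ^ (2 * m + 1) - 1) ^ 2 := by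
  have h1 := card_cov (Q F m) (TI_Q m)
  have h2 := card_cov (TT F m) (TI_T m)
  have h3 := card_split (F := F) m
  rw [normalizer_Q, card_B, card_Q, card_G] at h1
  rw [card_norm_TT, card_T, card_G] at h2
  rw [card_G] at h3
  have hq : 8 ≤ 2 ^ (2 * m + 1) := by rw [← H.hF]; exact card_ge (F := F) m
  generalize 2 ^ (2 * m + 1) = q at *
  obtain ⟨p, rfl⟩ : ∃ p, q = p + 2 := ⟨q - 2, by omega⟩
  have e1 : p + 2 - 1 = p + 1 := by omega
  have e2 : p + 1 - 1 = p := by omega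
  have e3 : (p + 2) ^ 2 - 1 = (p + 1) * (p + 3) := by
    have : (p + 2) ^ 2 = (p + 1) * (p + 3) + 1 := by ring
    omega
  rw [e1] at h1 h2 h3 ⊢
  rw [e3] at h1
  rw [e2] at h2
  have h4 : Nat.card (cov (Q F m)) = ((p + 2) ^ 2 + 1) * ((p + 1) * (p + 3)) := by
    apply Nat.eq_of_mul_eq_mul_right (show 0 < (p + 2) ^ 2 * (p + 1) by positivity)
    rw [h1]; ring
  have h5 : 2 * Nat.card (cov (TT F m)) = (p + 2) ^ 2 * ((p + 2) ^ 2 + 1) * p := by
    apply Nat.eq_of_mul_eq_mul_right (show 0 < (p + 1) by positivity)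
    calc 2 * Nat.card (cov (TT F m)) * (p + 1) = Nat.card (cov (TT F m)) * (2 * (p + 1)) := by ring
      _ = _ := by rw [h2]; ring
  rw [h4] at h3
  zify at h3 h5 ⊢
  linear_combination -2 * h3 - h5

/-! ### the other tori -/

def IsTor (C : Subgroup ↥(Cfsg.Sz F m)) : Prop := ∃ g, Fpf m g ∧ C = Subgroup.centralizer {g}

theorem tor_cent {C : Subgroup ↥(Cfsg.Sz F m)} (hC : IsTor m C) {x : ↥(Cfsg.Sz F m)} (hx : x ∈ C) (hx1 : x ≠ 1) : Subgroup.centralizer {x} = C := by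
  obtain ⟨g, hg, rfl⟩ := hC
  exact fpf_cent_eq m hg hx hx1

theorem tor_fpf {C : Subgroup ↥(Cfsg.Sz F m)} (hC : IsTor m C) {x : ↥(Cfsg.Sz F m)} (hx : x ∈ C) (hx1 : x ≠ 1) : Fpf m x := by
  obtain ⟨g, hg, rfl⟩ := hC
  exact fpf_comm m hg (Subgroup.mem_centralizer_singleton_iff.1 hx).symm hx1

theorem tor_cyclic {C : Subgroup ↥(Cfsg.Sz F m)} (hC : IsTor m C) : IsCyclic C := by
  obtain ⟨g, hg, rfl⟩ := hC
  obtain ⟨-, -, -, -, -, -, -, -, -, hc⟩ := fpf_cent m hg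
  exact hc

theorem tor_TI {C : Subgroup ↥(Cfsg.Sz F m)} (hC : IsTor m C) : IsTI C := by
  obtain ⟨g, hg, rfl⟩ := hC
  exact fpf_TI m hg

theorem tor_dvd {C : Subgroup ↥(Cfsg.Sz F m)} (hC : IsTor m C) : Nat.card C ∣ (2 ^ (2 * m + 1)) ^ 2 + 1 := by
  obtain ⟨g, hg, rfl⟩ := hC
  exact fpf_dvd m hg

omit H in
theorem mod3 : 2 ^ (2 * m + 1) % 3 = 2 := by
  rw [pow_succ, pow_mul, Nat.mul_mod, Nat.pow_mod]
  norm_num

theorem not3 : ¬ 3 ∣ Nat.card ↥(Cfsg.Sz F m) := by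
  rw [card_G]
  have h := mod3 m
  have hq : 1 ≤ 2 ^ (2 * m + 1) := Nat.one_le_two_pow
  generalize 2 ^ (2 * m + 1) = q at *
  intro hd
  rcases (Nat.Prime.dvd_mul Nat.prime_three).1 hd with h1 | h1
  · rcases (Nat.Prime.dvd_mul Nat.prime_three).1 h1 with h2 | h2
    · have := Nat.prime_three.dvd_of_dvd_pow h2
      omega
    · have h3 : (q ^ 2 + 1) % 3 = 2 := by
        rw [Nat.add_mod, Nat.pow_mod, h]
      omega
  · omega

theorem tor_ge {C : Subgroup ↥(Cfsg.Sz F m)} (hC : IsTor m C) : 5 ≤ Nat.card C := by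
  have h1 := tor_dvd m hC
  have h2 : Nat.card C ∣ Nat.card ↥(Cfsg.Sz F m) := Subgroup.card_subgroup_dvd_card C
  have h3 := not3 (F := F) m
  have h4 : Nat.card C ≠ 1 := by
    obtain ⟨g, hg, rfl⟩ := hC
    intro h
    rw [Subgroup.card_eq_one] at h
    have : g ∈ Subgroup.centralizer {g} := Subgroup.mem_centralizer_singleton_iff.2 rfl
    rw [h, Subgroup.mem_bot] at this
    exact fpf_ne_one m hg this
  have h5 : ¬ 2 ∣ Nat.card C := by
    intro h
    have h6 := odd_card_Om (F := F) m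
    rw [H.hF, ← Nat.not_even_iff_odd] at h6
    exact h6 (even_iff_two_dvd.2 (h.trans h1))
  have h6 : ¬ 3 ∣ Nat.card C := fun h => h3 (h.trans h2)
  have h7 : 0 < Nat.card C := Nat.card_pos
  by_contra hcon
  have : Nat.card C = 1 ∨ Nat.card C = 2 ∨ Nat.card C = 3 ∨ Nat.card C = 4 := by omega
  rcases this with h | h | h | h
  · exact h4 h
  · exact h5 (by rw [h])
  · exact h6 (by rw [h])
  · exact h5 (by rw [h]; norm_num)

theorem tor_norm {C : Subgroup ↥(Cfsg.Sz F m)} (hC : IsTor m C) : ∃ n : ℕ, (n = 1 ∨ n = 2 ∨ n = 4) ∧ Nat.card (Subgroup.normalizer (C : Set ↥(Cfsg.Sz F m))) = n * Nat.card C := by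
  obtain ⟨g, hg, rfl⟩ := hC
  obtain ⟨n, h1, h2, h3⟩ := fpf_norm m hg
  refine ⟨n, ?_, h3⟩
  have h4 : n ≠ 3 := by
    rintro rfl
    apply not3 (F := F) m
    have := Subgroup.card_subgroup_dvd_card (Subgroup.normalizer ((Subgroup.centralizer {g} : Subgroup ↥(Cfsg.Sz F m)) : Set ↥(Cfsg.Sz F m)))
    rw [h3] at this
    exact (Dvd.intro _ rfl).trans this
  omega

theorem cov_sub {C : Subgroup ↥(Cfsg.Sz F m)} (hC : IsTor m C) : cov C ⊆ FS F m := by
  rintro y ⟨hy1, x, hx⟩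
  have h1 : x⁻¹ * y * x ≠ 1 := by
    intro h
    apply hy1
    have : y = x * (x⁻¹ * y * x) * x⁻¹ := by group
    rw [this, h]; group
  have h2 := fpf_conj m (x := x) (tor_fpf m hC hx h1)
  have : x * (x⁻¹ * y * x) * x⁻¹ = y := by group
  rw [this] at h2
  exact h2

theorem cov_disj {C : Subgroup ↥(Cfsg.Sz F m)} (hC : IsTor m C) {y : ↥(Cfsg.Sz F m)} (hy : Fpf m y) (hyC : y ∉ cov C) :
    Disjoint (cov C) (cov (Subgroup.centralizer {y})) := by
  rw [Set.disjoint_left]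
  rintro w ⟨hw1, x, hx⟩ ⟨-, z, hz⟩
  apply hyC
  refine ⟨fpf_ne_one m hy, z⁻¹ * x, ?_⟩
  have h1 : x⁻¹ * w * x ≠ 1 := by
    intro h
    apply hw1
    have : w = x * (x⁻¹ * w * x) * x⁻¹ := by group
    rw [this, h]; group
  rw [← tor_cent m hC hx h1, Subgroup.mem_centralizer_singleton_iff]
  rw [Subgroup.mem_centralizer_singleton_iff] at hz
  calc (z⁻¹ * x)⁻¹ * y * (z⁻¹ * x) * (x⁻¹ * w * x) = x⁻¹ * z * (y * (z⁻¹ * w * z)) * z⁻¹ * x := by group
    _ = x⁻¹ * z * (z⁻¹ * w * z * y) * z⁻¹ * x := by rw [hz]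
    _ = _ := by group

theorem cov_disj2 {C : Subgroup ↥(Cfsg.Sz F m)} (hC : IsTor m C) {D : Subgroup ↥(Cfsg.Sz F m)} (hD : IsTor m D) {y : ↥(Cfsg.Sz F m)} (hyD : y ∈ D) (hy1 : y ≠ 1) (hyC : y ∉ cov C) :
    Disjoint (cov C) (cov D) := by
  have := cov_disj m hC (tor_fpf m hD hyD hy1) hyC
  rwa [tor_cent m hD hyD hy1] at this

/-- numeric facts for a torus -/
theorem tor_num {C : Subgroup ↥(Cfsg.Sz F m)} (hC : IsTor m C) : ∃ n : ℕ, (n = 1 ∨ n = 2 ∨ n = 4) ∧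
    Nat.card (Subgroup.normalizer (C : Set ↥(Cfsg.Sz F m))) = n * Nat.card C ∧
    Nat.card (cov C) * (n * Nat.card C) = Nat.card ↥(Cfsg.Sz F m) * (Nat.card C - 1) ∧ 4 * Nat.card ↥(Cfsg.Sz F m) ≤ 5 * n * Nat.card (cov C) := by
  obtain ⟨n, h1, h2⟩ := tor_norm m hC
  have h3 := card_cov C (tor_TI m hC)
  rw [h2] at h3
  refine ⟨n, h1, h2, h3, ?_⟩
  have h4 := tor_ge m hC
  obtain ⟨t, ht⟩ : ∃ t, Nat.card C = t + 5 := ⟨Nat.card C - 5, by omega⟩
  rw [ht] at h3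
  have e : t + 5 - 1 = t + 4 := by omega
  rw [e] at h3
  have h5 : 4 * Nat.card ↥(Cfsg.Sz F m) * (t + 5) ≤ 5 * n * Nat.card (cov C) * (t + 5) := by
    calc 4 * Nat.card ↥(Cfsg.Sz F m) * (t + 5) ≤ 5 * (Nat.card ↥(Cfsg.Sz F m) * (t + 4)) := by nlinarith [Nat.zero_le (Nat.card ↥(Cfsg.Sz F m) * t)]
      _ = 5 * (Nat.card (cov C) * (n * (t + 5))) := by rw [h3]
      _ = _ := by ring
  exact Nat.le_of_mul_le_mul_right h5 (by omega)

theorem FS_lt : 2 * Nat.card (FS F m) < Nat.card ↥(Cfsg.Sz F m) := by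
  rw [card_FS, card_G]
  have hq : 8 ≤ 2 ^ (2 * m + 1) := by rw [← H.hF]; exact card_ge (F := F) m
  generalize 2 ^ (2 * m + 1) = q at *
  obtain ⟨p, rfl⟩ : ∃ p, q = p + 1 := ⟨q - 1, by omega⟩
  have e1 : p + 1 - 1 = p := by omega
  rw [e1]
  have : (p + 1) ^ 2 * ((p + 1) ^ 2 + 1) * p = (p + 1) ^ 3 * p ^ 2 + (p + 1) ^ 2 * p * (p + 2) := by ring
  rw [this]
  have : 0 < (p + 1) ^ 2 * p * (p + 2) := by
    have : 0 < p := by omega
    positivity
  omega

theorem card_union_le {A C : Set ↥(Cfsg.Sz F m)} (hA : A ⊆ FS F m) (hC : C ⊆ FS F m) (hd : Disjoint A C) : Nat.card A + Nat.card C ≤ Nat.card (FS F m) := by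
  have h1 : (A ∪ C).ncard = A.ncard + C.ncard := Set.ncard_union_eq hd (Set.toFinite _) (Set.toFinite _)
  have h2 : (A ∪ C).ncard ≤ (FS F m).ncard := Set.ncard_le_ncard (Set.union_subset hA hC) (Set.toFinite _)
  have e1 : Nat.card A = A.ncard := rfl
  have e2 : Nat.card C = C.ncard := rfl
  have e3 : Nat.card (FS F m) = (FS F m).ncard := rfl
  omega

theorem card_union3_le {A C D : Set ↥(Cfsg.Sz F m)} (hA : A ⊆ FS F m) (hC : C ⊆ FS F m) (hD : D ⊆ FS F m) (hd : Disjoint A C) (hd1 : Disjoint A D) (hd2 : Disjoint C D) :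
    Nat.card A + Nat.card C + Nat.card D ≤ Nat.card (FS F m) := by
  have h0 : (A ∪ C).ncard = A.ncard + C.ncard := Set.ncard_union_eq hd (Set.toFinite _) (Set.toFinite _)
  have h1 : ((A ∪ C) ∪ D).ncard = (A ∪ C).ncard + D.ncard := Set.ncard_union_eq (Set.disjoint_union_left.2 ⟨hd1, hd2⟩) (Set.toFinite _) (Set.toFinite _)
  have h2 : ((A ∪ C) ∪ D).ncard ≤ (FS F m).ncard := Set.ncard_le_ncard (Set.union_subset (Set.union_subset hA hC) hD) (Set.toFinite _)
  have e1 : Nat.card A = A.ncard := rfl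
  have e2 : Nat.card C = C.ncard := rfl
  have e4 : Nat.card D = D.ncard := rfl
  have e3 : Nat.card (FS F m) = (FS F m).ncard := rfl
  omega

/-- `n = 4` for every torus -/
theorem tor_four {C : Subgroup ↥(Cfsg.Sz F m)} (hC : IsTor m C) : Nat.card (Subgroup.normalizer (C : Set ↥(Cfsg.Sz F m))) = 4 * Nat.card C ∧
    Nat.card (cov C) * (4 * Nat.card C) = Nat.card ↥(Cfsg.Sz F m) * (Nat.card C - 1) ∧ Nat.card ↥(Cfsg.Sz F m) ≤ 5 * Nat.card (cov C) := by
  obtain ⟨n, hn, h1, h2, h3⟩ := tor_num m hC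
  have h4 := FS_lt (F := F) m
  have h5 : Nat.card (cov C) ≤ Nat.card (FS F m) := Set.ncard_le_ncard (cov_sub m hC) (Set.toFinite _)
  rcases hn with rfl | rfl | rfl
  · exfalso; omega
  · exfalso
    -- everything is covered
    have h6 : FS F m ⊆ cov C := by
      intro y hy
      by_contra hyC
      have h7 := cov_disj m hC hy hyC
      have hD : IsTor m (Subgroup.centralizer {y}) := ⟨y, hy, rfl⟩
      have h8 := card_union_le m (cov_sub m hC) (cov_sub m hD) h7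
      obtain ⟨n', hn', -, -, h9⟩ := tor_num m hD
      rcases hn' with rfl | rfl | rfl <;> omega
    have h7 : cov C = FS F m := Set.Subset.antisymm (cov_sub m hC) h6
    rw [h7] at h2
    have h8 := card_FS (F := F) m
    have h9 := tor_ge m hC
    rw [card_G] at h2
    have hq : 8 ≤ 2 ^ (2 * m + 1) := by rw [← H.hF]; exact card_ge (F := F) m
    generalize 2 ^ (2 * m + 1) = q at *
    generalize Nat.card C = t at *
    obtain ⟨p, rfl⟩ : ∃ p, q = p + 1 := ⟨q - 1, by omega⟩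
    obtain ⟨s, rfl⟩ : ∃ s, t = s + 1 := ⟨t - 1, by omega⟩
    have e1 : p + 1 - 1 = p := by omega
    have e2 : s + 1 - 1 = s := by omega
    rw [e1] at h2 h8
    rw [e2] at h2
    have h10 : (p + 1) * p * (s + 1) = ((p + 1) ^ 2 + 1) * s := by
      apply Nat.eq_of_mul_eq_mul_left (show 0 < (p + 1) ^ 2 * p by have : 0 < p := (by omega); positivity)
      calc (p + 1) ^ 2 * p * ((p + 1) * p * (s + 1)) = ((p + 1) ^ 3 * p ^ 2) * (s + 1) := by ring
        _ = 2 * Nat.card (FS F m) * (s + 1) := by rw [h8]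
        _ = Nat.card (FS F m) * (2 * (s + 1)) := by ring
        _ = _ := by rw [h2]; ring
    -- (s+1)(p+2) = (p+1)^2+1
    have h11 : (s + 1) * (p + 2) = (p + 1) ^ 2 + 1 := by nlinarith
    have h12 : (p + 2) ∣ 2 := by
      have e : (p + 1) ^ 2 + 1 = (p + 2) * p + 2 := by ring
      rw [e] at h11
      exact (Nat.dvd_add_right (Dvd.intro _ rfl)).1 (h11 ▸ Dvd.intro_left _ rfl)
    have := Nat.le_of_dvd (by norm_num) h12
    omega
  · exact ⟨h1, h2, by omega⟩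

end Cfsg.Agent.H8.Suz
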