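import Mathlib
import Cfsg.Agent.H8.SzK

set_option autoImplicit false

namespace Cfsg.Agent.H8.Suz

open Matrix Cfsg.Agent.H8.TI
open scoped Pointwise

variable {F : Type*} [Field F] [Fintype F] (m : ℕ) [H : Hyp F m]

/-- a Sylow subgroup meeting a torus lies in it -/
theorem tor_sylow {C : Subgroup ↥(Cfsg.Sz F m)} (hC : IsTor m C) {ℓ : ℕ} [hℓ : Fact ℓ.Prime] (P : Sylow ℓ ↥(Cfsg.Sz F m)) {x : ↥(Cfsg.Sz F m)} (hxP : x ∈ (P : Subgroup ↥(Cfsg.Sz F m)))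
    (hxC : x ∈ C) (hx1 : x ≠ 1) : (P : Subgroup ↥(Cfsg.Sz F m)) ≤ C := by
  haveI : Nontrivial (P : Subgroup ↥(Cfsg.Sz F m)) := ⟨⟨⟨x, hxP⟩, 1, fun h => hx1 (congrArg Subtype.val h)⟩⟩
  haveI := P.isPGroup'.center_nontrivial
  obtain ⟨⟨z, hz⟩, hz1⟩ := exists_ne (1 : Subgroup.center (P : Subgroup ↥(Cfsg.Sz F m)))
  have hz1' : (z : ↥(Cfsg.Sz F m)) ≠ 1 := fun h => hz1 (Subtype.ext (Subtype.ext h))
  rw [Subgroup.mem_center_iff] at hz
  have h1 : (z : ↥(Cfsg.Sz F m)) ∈ C := by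
    rw [← tor_cent m hC hxC hx1, Subgroup.mem_centralizer_singleton_iff]
    exact (congrArg Subtype.val (hz ⟨x, hxP⟩)).symm
  rw [← tor_cent m hC h1 hz1']
  intro y hy
  rw [Subgroup.mem_centralizer_singleton_iff]
  exact congrArg Subtype.val (hz ⟨y, hy⟩)

/-- tori that are not conjugate have coprime orders -/
theorem tor_coprime {C D : Subgroup ↥(Cfsg.Sz F m)} (hC : IsTor m C) (hD : IsTor m D) {y : ↥(Cfsg.Sz F m)} (hyD : y ∈ D) (hyC : y ∉ cov C) (hy1 : y ≠ 1) :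
    Nat.Coprime (Nat.card C) (Nat.card D) := by
  rw [Nat.coprime_iff_gcd_eq_one]
  by_contra hcon
  obtain ⟨ℓ, hℓ, hd⟩ := Nat.exists_prime_and_dvd hcon
  haveI := Fact.mk hℓ
  obtain ⟨⟨a, ha⟩, ha1⟩ := exists_prime_orderOf_dvd_card' (G := C) ℓ (hd.trans (Nat.gcd_dvd_left _ _))
  obtain ⟨⟨b, hb⟩, hb1⟩ := exists_prime_orderOf_dvd_card' (G := D) ℓ (hd.trans (Nat.gcd_dvd_right _ _))
  have ha2 : orderOf a = ℓ := by rw [← ha1]; exact (Subgroup.orderOf_mk a ha).symm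
  have hb2 : orderOf b = ℓ := by rw [← hb1]; exact (Subgroup.orderOf_mk b hb).symm
  have ha3 : a ≠ 1 := by rintro rfl; rw [orderOf_one] at ha2; exact hℓ.one_lt.ne ha2
  have hb3 : b ≠ 1 := by rintro rfl; rw [orderOf_one] at hb2; exact hℓ.one_lt.ne hb2
  have hpa : IsPGroup ℓ (Subgroup.zpowers a) := IsPGroup.of_card (n := 1) (by rw [Nat.card_zpowers, ha2, pow_one])
  have hpb : IsPGroup ℓ (Subgroup.zpowers b) := IsPGroup.of_card (n := 1) (by rw [Nat.card_zpowers, hb2, pow_one])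
  obtain ⟨P, hP⟩ := hpa.exists_le_sylow
  obtain ⟨R, hR⟩ := hpb.exists_le_sylow
  have h1 := tor_sylow m hC P (hP (Subgroup.mem_zpowers a)) ha ha3
  have h2 := tor_sylow m hD R (hR (Subgroup.mem_zpowers b)) hb hb3
  obtain ⟨x, hx⟩ := MulAction.exists_smul_eq ↥(Cfsg.Sz F m) P R
  have h3 : x * a * x⁻¹ ∈ (R : Subgroup ↥(Cfsg.Sz F m)) := by
    rw [← hx]
    exact ⟨a, hP (Subgroup.mem_zpowers a), rfl⟩
  have h4 : x * a * x⁻¹ ≠ 1 := by
    intro h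
    apply ha3
    have : a = x⁻¹ * (x * a * x⁻¹) * x := by group
    rw [this, h]; group
  apply hyC
  refine ⟨hy1, x, ?_⟩
  rw [← tor_cent m hC ha ha3, ← centralizer_conj, tor_cent m hD (h2 h3) h4]
  exact hyD

theorem key_nat : ∀ t u cc dd q c : ℕ, 5 ≤ t → 5 ≤ u → 8 ≤ q → cc * (4 * t) = q ^ 2 * (q ^ 2 + 1) * (q - 1) * (t - 1) → dd * (4 * u) = q ^ 2 * (q ^ 2 + 1) * (q - 1) * (u - 1) →
    2 * (cc + dd) = q ^ 3 * (q - 1) ^ 2 → q ^ 2 + 1 = t * u * c → t + u = 2 * (q + 1) ∧ t * u = q ^ 2 + 1 := by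
  intro t u cc dd q c ht hu hq h1 h2 h3 h4
  obtain ⟨p, rfl⟩ : ∃ p, q = p + 1 := ⟨q - 1, by omega⟩
  obtain ⟨s, rfl⟩ : ∃ s, t = s + 1 := ⟨t - 1, by omega⟩
  obtain ⟨v, rfl⟩ : ∃ v, u = v + 1 := ⟨u - 1, by omega⟩
  have e1 : p + 1 - 1 = p := by omega
  have e2 : s + 1 - 1 = s := by omega
  have e3 : v + 1 - 1 = v := by omega
  rw [e1] at h1 h2 h3
  rw [e2] at h1
  rw [e3] at h2
  have hp0 : 0 < p := by omega
  have h5 : 2 * ((p + 1) * p) * ((s + 1) * (v + 1)) = ((p + 1) ^ 2 + 1) * (s * (v + 1) + v * (s + 1)) := by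
    apply Nat.eq_of_mul_eq_mul_left (show 0 < (p + 1) ^ 2 * p by positivity)
    calc (p + 1) ^ 2 * p * (2 * ((p + 1) * p) * ((s + 1) * (v + 1))) = 2 * ((p + 1) ^ 3 * p ^ 2) * ((s + 1) * (v + 1)) := by ring
      _ = 2 * (2 * (cc + dd)) * ((s + 1) * (v + 1)) := by rw [h3]
      _ = cc * (4 * (s + 1)) * (v + 1) + dd * (4 * (v + 1)) * (s + 1) := by ring
      _ = _ := by rw [h1, h2]; ring
  have h6 : ((p + 1) ^ 2 + 1) * ((s + 1) + (v + 1)) = 2 * (p + 2) * ((s + 1) * (v + 1)) := by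
    have e : ((p + 1) ^ 2 + 1) * (2 * ((s + 1) * (v + 1))) = ((p + 1) ^ 2 + 1) * (s * (v + 1) + v * (s + 1)) + ((p + 1) ^ 2 + 1) * ((s + 1) + (v + 1)) := by ring
    rw [← h5] at e
    have e' : ((p + 1) ^ 2 + 1) * (2 * ((s + 1) * (v + 1))) = 2 * ((p + 1) * p) * ((s + 1) * (v + 1)) + 2 * (p + 2) * ((s + 1) * (v + 1)) := by ring
    omega
  have h7 : c * ((s + 1) + (v + 1)) = 2 * (p + 2) := by
    apply Nat.eq_of_mul_eq_mul_left (show 0 < (s + 1) * (v + 1) by positivity)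
    calc (s + 1) * (v + 1) * (c * ((s + 1) + (v + 1))) = ((s + 1) * (v + 1) * c) * ((s + 1) + (v + 1)) := by ring
      _ = _ := by rw [← h4, h6]; ring
  have hc1 : c = 1 := by
    have hc0 : c ≠ 0 := by
      rintro rfl
      rw [mul_zero] at h4
      omega
    by_contra hne
    have hc2 : 2 ≤ c := by omega
    have h9 : (c * ((s + 1) + (v + 1))) ^ 2 = 4 * (p + 2) ^ 2 := by rw [h7]; ring
    have h10 : 4 * ((s + 1) * (v + 1)) ≤ ((s + 1) + (v + 1)) ^ 2 := by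
      zify
      nlinarith [sq_nonneg ((s : ℤ) - v)]
    have h11 : c * (4 * ((p + 1) ^ 2 + 1)) ≤ 4 * (p + 2) ^ 2 := by
      rw [← h9, h4]
      calc c * (4 * ((s + 1) * (v + 1) * c)) = c ^ 2 * (4 * ((s + 1) * (v + 1))) := by ring
        _ ≤ c ^ 2 * ((s + 1) + (v + 1)) ^ 2 := Nat.mul_le_mul_left _ h10
        _ = _ := by ring
    have h12 : 2 * (4 * ((p + 1) ^ 2 + 1)) ≤ 4 * (p + 2) ^ 2 := (Nat.mul_le_mul_right _ hc2).trans h11
    nlinarith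
  rw [hc1, one_mul] at h7
  rw [hc1, mul_one] at h4
  exact ⟨by omega, by omega⟩

theorem solve_nat : ∀ t u r : ℕ, 2 ≤ r → t + u = 2 * (2 * r ^ 2 + 1) → t * u = (2 * r ^ 2) ^ 2 + 1 →
    (t = 2 * r ^ 2 + 2 * r + 1 ∧ u = 2 * r ^ 2 - 2 * r + 1) ∨ (u = 2 * r ^ 2 + 2 * r + 1 ∧ t = 2 * r ^ 2 - 2 * r + 1) := by
  intro t u r hr h1 h2
  have hle : 2 * r ≤ 2 * r ^ 2 := by nlinarith
  have h3 : ((t : ℤ) - (2 * r ^ 2 + 2 * r + 1)) * ((t : ℤ) - (2 * r ^ 2 - 2 * r + 1)) = 0 := by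
    zify at h1 h2
    have hu : (u : ℤ) = 2 * (2 * r ^ 2 + 1) - t := by linear_combination h1
    rw [hu] at h2
    linear_combination -h2
  rcases mul_eq_zero.1 h3 with h | h
  · left
    have ht : t = 2 * r ^ 2 + 2 * r + 1 := by zify; linear_combination h
    refine ⟨ht, ?_⟩
    omega
  · right
    have ht : t = 2 * r ^ 2 - 2 * r + 1 := by
      zify [hle]
      linear_combination h
    refine ⟨?_, ht⟩
    omega

/-- **the tori** -/
theorem tori : ∃ C D : Subgroup ↥(Cfsg.Sz F m), IsTor m C ∧ IsTor m D ∧ Nat.card C = 2 ^ (2 * m + 1) + 2 ^ (m + 1) + 1 ∧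
    Nat.card D = 2 ^ (2 * m + 1) - 2 ^ (m + 1) + 1 ∧ Disjoint (cov C) (cov D) ∧ FS F m = cov C ∪ cov D := by
  have hN0 : 0 < Nat.card (FS F m) := by
    have h := card_FS (F := F) m
    have hq : 8 ≤ 2 ^ (2 * m + 1) := by rw [← H.hF]; exact card_ge (F := F) m
    generalize 2 ^ (2 * m + 1) = q at *
    have : 0 < q ^ 3 * (q - 1) ^ 2 := by
      have : 0 < q - 1 := by omega
      positivity
    omega
  obtain ⟨⟨y, hy⟩⟩ : Nonempty (FS F m) := (Nat.card_pos_iff.1 hN0).1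
  set C := Subgroup.centralizer {y} with hCdef
  have hC : IsTor m C := ⟨y, hy, rfl⟩
  obtain ⟨-, hC2, hC3⟩ := tor_four m hC
  have hFS := FS_lt (F := F) m
  -- a second class
  obtain ⟨z, hz, hzC⟩ : ∃ z ∈ FS F m, z ∉ cov C := by
    by_contra hcon
    push Not at hcon
    have h7 : cov C = FS F m := Set.Subset.antisymm (cov_sub m hC) hcon
    rw [h7] at hC2
    have h8 := card_FS (F := F) m
    rw [card_G] at hC2
    have hq : 8 ≤ 2 ^ (2 * m + 1) := by rw [← H.hF]; exact card_ge (F := F) m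
    have h9 := tor_ge m hC
    generalize 2 ^ (2 * m + 1) = q at *
    generalize Nat.card C = t at *
    obtain ⟨p, rfl⟩ : ∃ p, q = p + 1 := ⟨q - 1, by omega⟩
    obtain ⟨s, rfl⟩ : ∃ s, t = s + 1 := ⟨t - 1, by omega⟩
    have e1 : p + 1 - 1 = p := by omega
    have e2 : s + 1 - 1 = s := by omega
    rw [e1] at hC2 h8
    rw [e2] at hC2
    have h10 : 2 * ((p + 1) * p) * (s + 1) = ((p + 1) ^ 2 + 1) * s := by
      apply Nat.eq_of_mul_eq_mul_left (show 0 < (p + 1) ^ 2 * p by have : 0 < p := (by omega); positivity)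
      calc (p + 1) ^ 2 * p * (2 * ((p + 1) * p) * (s + 1)) = 2 * ((p + 1) ^ 3 * p ^ 2) * (s + 1) := by ring
        _ = 2 * (2 * Nat.card (FS F m)) * (s + 1) := by rw [h8]
        _ = Nat.card (FS F m) * (4 * (s + 1)) := by ring
        _ = _ := by rw [hC2]; ring
    have hp : 7 ≤ p := by omega
    have : (p + 1) ^ 2 + 1 ≤ 2 * ((p + 1) * p) := by nlinarith
    nlinarith
  set D := Subgroup.centralizer {z} with hDdef
  have hD : IsTor m D := ⟨z, hz, rfl⟩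
  have hzD : z ∈ D := Subgroup.mem_centralizer_singleton_iff.2 rfl
  obtain ⟨-, hD2, hD3⟩ := tor_four m hD
  have hdisj : Disjoint (cov C) (cov D) := cov_disj m hC hz hzC
  have hall : FS F m = cov C ∪ cov D := by
    apply Set.Subset.antisymm _ (Set.union_subset (cov_sub m hC) (cov_sub m hD))
    intro w hw
    by_contra hcon
    rw [Set.mem_union, not_or] at hcon
    have hE : IsTor m (Subgroup.centralizer {w}) := ⟨w, hw, rfl⟩
    obtain ⟨-, -, hE3⟩ := tor_four m hE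
    have h1 := card_union3_le m (cov_sub m hC) (cov_sub m hD) (cov_sub m hE) hdisj (cov_disj m hC hw hcon.1) (cov_disj m hD hw hcon.2)
    omega
  have hsum : Nat.card (cov C) + Nat.card (cov D) = Nat.card (FS F m) := by
    have h1 : (cov C ∪ cov D).ncard = (cov C).ncard + (cov D).ncard := Set.ncard_union_eq hdisj (Set.toFinite _) (Set.toFinite _)
    rw [hall]
    exact h1.symm
  have hcop := tor_coprime m hC hD hzD hzC (fpf_ne_one m hz)
  have hdC := tor_dvd m hC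
  have hdD := tor_dvd m hD
  have hdvd := hcop.mul_dvd_of_dvd_of_dvd hdC hdD
  obtain ⟨c, hc⟩ := hdvd
  have h8 := card_FS (F := F) m
  have hC5 := tor_ge m hC
  have hD5 := tor_ge m hD
  rw [card_G] at hC2 hD2
  have hq : 8 ≤ 2 ^ (2 * m + 1) := by rw [← H.hF]; exact card_ge (F := F) m
  obtain ⟨k1, k2⟩ := key_nat _ _ _ _ _ _ hC5 hD5 hq hC2 hD2 (by rw [hsum, h8]) hc
  -- solve
  have hr : 2 ^ (2 * m + 1) = 2 * (2 ^ m) ^ 2 := by rw [pow_succ, pow_mul']; ring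
  have hr1 : 2 ^ (m + 1) = 2 * 2 ^ m := by rw [pow_succ]; ring
  have hm := H.hm
  have hr2 : 2 ≤ 2 ^ m := by
    calc 2 = 2 ^ 1 := rfl
      _ ≤ 2 ^ m := Nat.pow_le_pow_right (by norm_num) hm
  rw [hr] at k1 k2
  rw [hr, hr1]
  rcases solve_nat _ _ _ hr2 k1 k2 with ⟨h1, h2⟩ | ⟨h1, h2⟩
  · exact ⟨C, D, hC, hD, h1, h2, hdisj, hall⟩
  · exact ⟨D, C, hD, hC, h1, h2, hdisj.symm, by rw [hall, Set.union_comm]⟩

end Cfsg.Agent.H8.Suz
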