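import Mathlib
import Cfsg.Agent.H8.SzL

set_option autoImplicit false

namespace Cfsg.Agent.H8.Suz

open Matrix Cfsg.Agent.H8.TI
open scoped Pointwise

variable {F : Type*} [Field F] [Fintype F] (m : ℕ) [H : Hyp F m]

/-- the conjugate of a subgroup -/
abbrev cj {G : Type*} [Group G] (x : G) (A : Subgroup G) : Subgroup G := A.map (MulAut.conj x).toMonoidHom

theorem mem_cj {G : Type*} [Group G] {x y : G} {A : Subgroup G} : y ∈ cj x A ↔ x⁻¹ * y * x ∈ A := by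
  constructor
  · rintro ⟨a, ha, rfl⟩
    have : x⁻¹ * (MulAut.conj x).toMonoidHom a * x = a := by
      show x⁻¹ * (x * a * x⁻¹) * x = a
      group
    rw [this]; exact ha
  · intro h
    refine ⟨x⁻¹ * y * x, h, ?_⟩
    show x * (x⁻¹ * y * x) * x⁻¹ = y
    group

theorem card_cj {G : Type*} [Group G] (x : G) (A : Subgroup G) : Nat.card (cj x A) = Nat.card A :=
  (Nat.card_congr (A.equivMapOfInjective _ (MulAut.conj x).injective).toEquiv).symm

/-- classes: every non-identity element is of one of three kinds -/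
theorem trich (g : ↥(Cfsg.Sz F m)) : (∃ x, x⁻¹ * g * x ∈ Q F m) ∨ (∃ x, ∃ k : Fˣ, (k : F) ≠ 1 ∧ g = x * T m k * x⁻¹) ∨ Fpf m g := by
  by_cases h : Fpf m g
  · exact Or.inr (Or.inr h)
  · rcases cases_fix m h with ⟨x, u, hu, rfl⟩ | h1
    · left
      refine ⟨x, ?_⟩
      have : x⁻¹ * (x * u * x⁻¹) * x = u := by group
      rwa [this]
    · exact Or.inr (Or.inl h1)

def S3 (m : ℕ) : Set ℕ := {2 ^ (2 * m + 1) - 1, 2 ^ (2 * m + 1) + 2 ^ (m + 1) + 1, 2 ^ (2 * m + 1) - 2 ^ (m + 1) + 1}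

theorem cent_conj_T {x : ↥(Cfsg.Sz F m)} {k : Fˣ} (hk : (k : F) ≠ 1) : Subgroup.centralizer {x * T m k * x⁻¹} = cj x (TT F m) := by
  ext y
  rw [centralizer_conj, cent_T m hk, mem_cj]

theorem card_TT : Nat.card (TT F m) = 2 ^ (2 * m + 1) - 1 := card_T (F := F) m

instance cyc_TT : IsCyclic (TT F m) := by
  haveI : IsCyclic Fˣ := inferInstance
  exact isCyclic_of_surjective (T m : Fˣ →* ↥(Cfsg.Sz F m)).rangeRestrict (MonoidHom.rangeRestrict_surjective _)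

theorem cyc_cj {G : Type*} [Group G] (x : G) (A : Subgroup G) [hA : IsCyclic A] : IsCyclic (cj x A) :=
  isCyclic_of_surjective (A.equivMapOfInjective _ (MulAut.conj x).injective) (MulEquiv.surjective _)

theorem isTor_conj {C : Subgroup ↥(Cfsg.Sz F m)} (hC : IsTor m C) (x : ↥(Cfsg.Sz F m)) : IsTor m (cj x C) := by
  obtain ⟨g, hg, rfl⟩ := hC
  refine ⟨x * g * x⁻¹, fpf_conj m hg, ?_⟩
  ext y
  rw [mem_cj, centralizer_conj]

/-- fixed-point-free elements have torus centralizers of the two orders -/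
theorem fpf_card {g : ↥(Cfsg.Sz F m)} (hg : Fpf m g) : Nat.card (Subgroup.centralizer {g}) ∈ S3 m := by
  obtain ⟨C, D, hC, hD, h1, h2, -, h4⟩ := tori (F := F) m
  have h5 : g ∈ FS F m := hg
  rw [h4] at h5
  have key : ∀ C : Subgroup ↥(Cfsg.Sz F m), IsTor m C → g ∈ cov C → Nat.card (Subgroup.centralizer {g}) = Nat.card C := by
    rintro C hC ⟨hg1, x, hx⟩
    have h6 : x⁻¹ * g * x ≠ 1 := by
      intro h
      apply hg1
      have : g = x * (x⁻¹ * g * x) * x⁻¹ := by group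
      rw [this, h]; group
    have h7 := tor_cent m hC hx h6
    have h8 : Subgroup.centralizer {g} = cj x (Subgroup.centralizer {x⁻¹ * g * x}) := by
      ext y
      rw [mem_cj]
      have : g = x * (x⁻¹ * g * x) * x⁻¹ := by group
      conv_lhs => rw [this]
      rw [centralizer_conj]
    rw [h8, card_cj, h7]
  rcases h5 with h5 | h5
  · rw [key C hC h5, h1]; exact Or.inr (Or.inl rfl)
  · rw [key D hD h5, h2]; exact Or.inr (Or.inr rfl)

/-- the centralizer of an element that is not a 2-element -/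
theorem cent_tor {g : ↥(Cfsg.Sz F m)} (h : ¬ ∃ x, x⁻¹ * g * x ∈ Q F m) : IsCyclic (Subgroup.centralizer {g}) ∧ Nat.card (Subgroup.centralizer {g}) ∈ S3 m := by
  rcases trich m g with h1 | ⟨x, k, hk, rfl⟩ | h1
  · exact absurd h1 h
  · rw [cent_conj_T m hk]
    refine ⟨cyc_cj _ _, ?_⟩
    rw [card_cj, card_TT]
    exact Or.inl rfl
  · obtain ⟨-, -, -, -, -, -, -, -, -, hc⟩ := fpf_cent m h1
    exact ⟨hc, fpf_card m h1⟩

theorem cent_unip {g x : ↥(Cfsg.Sz F m)} (h : x⁻¹ * g * x ∈ Q F m) (hg : g ≠ 1) : Subgroup.centralizer {g} ≤ cj x (Q F m) := by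
  intro y hy
  rw [mem_cj]
  have h1 : x⁻¹ * g * x ≠ 1 := by
    intro h
    apply hg
    have : g = x * (x⁻¹ * g * x) * x⁻¹ := by group
    rw [this, h]; group
  apply cent_Q m h h1
  rw [← centralizer_conj]
  have : x * (x⁻¹ * g * x) * x⁻¹ = g := by group
  rwa [this]

include H in
theorem q_facts : 8 ≤ 2 ^ (2 * m + 1) ∧ 2 ^ (2 * m + 1) = 2 * (2 ^ m) ^ 2 ∧ 2 ^ (m + 1) = 2 * 2 ^ m ∧ 2 ≤ 2 ^ m := by
  refine ⟨?_, ?_, ?_, ?_⟩
  · rw [← H.hF]; exact card_ge (F := F) m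
  · rw [pow_succ, pow_mul']; ring
  · rw [pow_succ]; ring
  · calc 2 = 2 ^ 1 := rfl
      _ ≤ 2 ^ m := Nat.pow_le_pow_right (by norm_num) H.hm

include H in
theorem S3_odd {a : ℕ} (ha : a ∈ S3 m) : Odd a := by
  obtain ⟨h1, h2, h3, h4⟩ := q_facts (F := F) m
  have h5 : Even (2 ^ (2 * m + 1)) := by rw [h2]; exact even_two_mul _
  have h6 : Even (2 ^ (m + 1)) := by rw [h3]; exact even_two_mul _
  rcases ha with rfl | rfl | rfl
  · exact Nat.Even.sub_odd (by omega) h5 odd_one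
  · exact (h5.add h6).add_one
  · apply Even.add_one
    rw [h2, h3, ← Nat.mul_sub]
    exact even_two_mul _

include H in
theorem S3_coprime {a b : ℕ} (ha : a ∈ S3 m) (hb : b ∈ S3 m) (h : a ≠ b) : Nat.Coprime a b := by
  obtain ⟨h1, h2, h3, h4⟩ := q_facts (F := F) m
  have hodda := S3_odd (F := F) m ha
  -- common prime divisors
  rw [Nat.coprime_iff_gcd_eq_one]
  by_contra hcon
  obtain ⟨ℓ, hℓ, hd⟩ := Nat.exists_prime_and_dvd hcon
  have hda : ℓ ∣ a := hd.trans (Nat.gcd_dvd_left _ _)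
  have hdb : ℓ ∣ b := hd.trans (Nat.gcd_dvd_right _ _)
  have hℓ2 : ℓ ≠ 2 := by
    rintro rfl
    exact (Nat.not_even_iff_odd.2 hodda) (even_iff_two_dvd.2 hda)
  obtain ⟨r, hr⟩ : ∃ r, 2 ^ m = r := ⟨_, rfl⟩
  rw [S3, h2, h3, hr] at ha hb
  rw [hr] at h4
  have hle : 2 * r ≤ 2 * r ^ 2 := by nlinarith
  -- work in ZMod ℓ
  haveI := Fact.mk hℓ
  have z2 : (2 : ZMod ℓ) ≠ 0 := by
    intro h0
    have h1 : ((2 : ℕ) : ZMod ℓ) = 0 := by exact_mod_cast h0
    rw [ZMod.natCast_eq_zero_iff] at h1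
    exact hℓ2 ((Nat.prime_dvd_prime_iff_eq hℓ Nat.prime_two).1 h1)
  have key : ∀ c ∈ ({2 * r ^ 2 - 1, 2 * r ^ 2 + 2 * r + 1, 2 * r ^ 2 - 2 * r + 1} : Set ℕ), ℓ ∣ c →
      (c = 2 * r ^ 2 - 1 ∧ (2 : ZMod ℓ) * (r : ZMod ℓ) ^ 2 - 1 = 0) ∨ (c = 2 * r ^ 2 + 2 * r + 1 ∧ (2 : ZMod ℓ) * (r : ZMod ℓ) ^ 2 + 2 * r + 1 = 0) ∨
      (c = 2 * r ^ 2 - 2 * r + 1 ∧ (2 : ZMod ℓ) * (r : ZMod ℓ) ^ 2 - 2 * r + 1 = 0) := by
    intro c hc hd
    have hd' : ((c : ℕ) : ZMod ℓ) = 0 := by rwa [ZMod.natCast_eq_zero_iff]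
    rcases hc with rfl | rfl | rfl
    · left
      refine ⟨rfl, ?_⟩
      have : 1 ≤ 2 * r ^ 2 := by nlinarith
      rw [Nat.cast_sub this] at hd'
      push_cast at hd'
      exact hd'
    · right; left
      refine ⟨rfl, ?_⟩
      push_cast at hd'
      exact hd'
    · right; right
      refine ⟨rfl, ?_⟩
      rw [Nat.cast_add, Nat.cast_sub hle] at hd'
      push_cast at hd'
      exact hd'
  rcases key a ha hda with ⟨rfl, e1⟩ | ⟨rfl, e1⟩ | ⟨rfl, e1⟩ <;> rcases key b hb hdb with ⟨rfl, e2⟩ | ⟨rfl, e2⟩ | ⟨rfl, e2⟩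
  · exact h rfl
  · -- 2r²=1, 2r²+2r+1=0 → 2 + 2r = 0 → r = -1 → 2 = 1
    have e3 : (2 : ZMod ℓ) * (r + 1) = 0 := by linear_combination e2 - e1
    have e4 : (r : ZMod ℓ) + 1 = 0 := (mul_eq_zero.1 e3).resolve_left z2
    have e5 : (1 : ZMod ℓ) = 0 := by linear_combination e1 - 2 * (r - 1) * e4
    exact one_ne_zero e5
  · have e3 : (2 : ZMod ℓ) * (r - 1) = 0 := by linear_combination e1 - e2
    have e4 : (r : ZMod ℓ) - 1 = 0 := (mul_eq_zero.1 e3).resolve_left z2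
    have e5 : (1 : ZMod ℓ) = 0 := by linear_combination e1 - 2 * (r + 1) * e4
    exact one_ne_zero e5
  · have e3 : (2 : ZMod ℓ) * (r + 1) = 0 := by linear_combination e1 - e2
    have e4 : (r : ZMod ℓ) + 1 = 0 := (mul_eq_zero.1 e3).resolve_left z2
    have e5 : (1 : ZMod ℓ) = 0 := by linear_combination e2 - 2 * (r - 1) * e4
    exact one_ne_zero e5
  · exact h rfl
  · have e3 : (2 : ZMod ℓ) * (2 * r) = 0 := by linear_combination e1 - e2
    have e4 : (r : ZMod ℓ) = 0 := (mul_eq_zero.1 ((mul_eq_zero.1 e3).resolve_left z2)).resolve_left z2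
    have e5 : (1 : ZMod ℓ) = 0 := by linear_combination e1 - (2 * r + 2) * e4
    exact one_ne_zero e5
  · have e3 : (2 : ZMod ℓ) * (r - 1) = 0 := by linear_combination e2 - e1
    have e4 : (r : ZMod ℓ) - 1 = 0 := (mul_eq_zero.1 e3).resolve_left z2
    have e5 : (1 : ZMod ℓ) = 0 := by linear_combination e2 - 2 * (r + 1) * e4
    exact one_ne_zero e5
  · have e3 : (2 : ZMod ℓ) * (2 * r) = 0 := by linear_combination e2 - e1
    have e4 : (r : ZMod ℓ) = 0 := (mul_eq_zero.1 ((mul_eq_zero.1 e3).resolve_left z2)).resolve_left z2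
    have e5 : (1 : ZMod ℓ) = 0 := by linear_combination e2 - (2 * r + 2) * e4
    exact one_ne_zero e5
  · exact h rfl

theorem not_unip_of_odd {g : ↥(Cfsg.Sz F m)} {n : ℕ} (hn : Odd n) (h : g ^ n = 1) (hg : g ≠ 1) : ¬ ∃ x, x⁻¹ * g * x ∈ Q F m := by
  rintro ⟨x, a, b, hx⟩
  apply hg
  have h4 : g ^ 4 = 1 := by
    have e : g = x * (x⁻¹ * g * x) * x⁻¹ := by group
    rw [e, conj_pow, hx, U_pow4]; group
  have h5 : orderOf g ∣ 4 := orderOf_dvd_of_pow_eq_one h4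
  have h6 : orderOf g ∣ n := orderOf_dvd_of_pow_eq_one h
  have h7 : Nat.Coprime 4 n := by
    have : Nat.Coprime (2 ^ 2) n := Nat.Coprime.pow_left 2 (Nat.coprime_two_left.2 hn)
    exact this
  have h8 : orderOf g ∣ 1 := by
    rw [← h7]
    exact Nat.dvd_gcd h5 h6
  exact orderOf_eq_one_iff.1 (Nat.dvd_one.1 h8)

/-- cyclic subgroups of the three orders are centralizers -/
theorem cyc_eq_cent {A : Subgroup ↥(Cfsg.Sz F m)} (hA : IsCyclic A) (hc : Nat.card A ∈ S3 m) {g : ↥(Cfsg.Sz F m)} (hg : g ∈ A) (h1 : g ≠ 1) :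
    A = Subgroup.centralizer {g} := by
  have hgn : g ^ Nat.card A = 1 := by
    have := pow_card_eq_one' (G := A) (x := ⟨g, hg⟩)
    exact congrArg Subtype.val this
  have h2 := not_unip_of_odd m (S3_odd (F := F) m hc) hgn h1
  obtain ⟨-, h3⟩ := cent_tor m h2
  have hle : A ≤ Subgroup.centralizer {g} := by
    intro y hy
    rw [Subgroup.mem_centralizer_singleton_iff]
    letI := IsCyclic.commGroup (α := A)
    exact congrArg Subtype.val (mul_comm (⟨y, hy⟩ : A) ⟨g, hg⟩)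
  have h4 : Nat.card A = Nat.card (Subgroup.centralizer {g}) := by
    by_contra hne
    have h5 := S3_coprime (F := F) m hc h3 hne
    have h6 : Nat.card A ∣ Nat.card (Subgroup.centralizer {g}) := Subgroup.card_dvd_of_le hle
    have h7 : Nat.card A = 1 := Nat.Coprime.eq_one_of_dvd h5 h6
    have h8 : A = ⊥ := Subgroup.card_eq_one.1 h7
    rw [h8] at hg
    exact h1 (Subgroup.mem_bot.1 hg)
  exact Subgroup.eq_of_le_of_card_ge hle h4.ge

/-- conjugates of `Q` containing a common non-identity element -/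
theorem Q_uniq {x y g : ↥(Cfsg.Sz F m)} (hg : g ≠ 1) (hx : g ∈ cj x (Q F m)) (hy : g ∈ cj y (Q F m)) : cj x (Q F m) = cj y (Q F m) := by
  rw [mem_cj] at hx hy
  have h1 : x⁻¹ * g * x ≠ 1 := by
    intro h
    apply hg
    have : g = x * (x⁻¹ * g * x) * x⁻¹ := by group
    rw [this, h]; group
  have h2 : y⁻¹ * x ∈ Subgroup.normalizer (Q F m : Set ↥(Cfsg.Sz F m)) := by
    apply TI_Q m _ _ hx h1
    have : y⁻¹ * x * (x⁻¹ * g * x) * (y⁻¹ * x)⁻¹ = y⁻¹ * g * y := by group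
    rwa [this]
  ext z
  rw [mem_cj, mem_cj]
  have h3 := Subgroup.mem_normalizer_iff.1 h2 (x⁻¹ * z * x)
  have : y⁻¹ * x * (x⁻¹ * z * x) * (y⁻¹ * x)⁻¹ = y⁻¹ * z * y := by group
  rw [this] at h3
  exact h3

theorem cj_sylow (x : ↥(Cfsg.Sz F m)) : ∃ P : Sylow 2 ↥(Cfsg.Sz F m), cj x (Q F m) = (P : Subgroup ↥(Cfsg.Sz F m)) := by
  refine ⟨x • QS F m, ?_⟩
  rw [Sylow.coe_subgroup_smul, coe_QS]
  rfl

end Cfsg.Agent.H8.Suz
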