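import Mathlib
import Cfsg.Agent.H8.SzM

set_option autoImplicit false

namespace Cfsg.Agent.H8.Suz

open Matrix Cfsg.Agent.H8.TI
open scoped Pointwise

variable {F : Type*} [Field F] [Fintype F] (m : ℕ) [H : Hyp F m]

theorem over_Q {M : Subgroup ↥(Cfsg.Sz F m)} (hQ : Q F m ≤ M) (h : ∃ g ∈ M, g • oi F m ≠ oi F m) : M = ⊤ := by
  obtain ⟨g, hg, hg1⟩ := h
  have htr : ∀ p : Om F m, ∃ x ∈ M, x • oi F m = p := by
    intro p
    rcases om_cases m p with rfl | ⟨a, b, rfl⟩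
    · exact ⟨1, M.one_mem, one_smul _ _⟩
    · rcases om_cases m (g • oi F m) with h1 | ⟨c, d, h1⟩
      · exact absurd h1 hg1
      · refine ⟨U m a b * (U m c d)⁻¹ * g, M.mul_mem (M.mul_mem (hQ (U_mem_Q m _ _)) (M.inv_mem (hQ (U_mem_Q m _ _)))) hg, ?_⟩
        rw [mul_smul, mul_smul, h1, ← U_op0 m c d, inv_smul_smul, U_op0]
  have h2 : M.normalCore = ⊤ := by
    apply normal_top m
    intro b y
    obtain ⟨x, hx, hx1⟩ := htr (y • oi F m)
    have h3 : x⁻¹ * y ∈ B F m := by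
      rw [mem_B, mul_smul, ← hx1, inv_smul_smul]
    have h4 := hQ (conj_Q m h3 (U_mem_Q m 0 b))
    have h5 := M.mul_mem (M.mul_mem hx h4) (M.inv_mem hx)
    have : x * (x⁻¹ * y * U m 0 b * (x⁻¹ * y)⁻¹) * x⁻¹ = y * U m 0 b * y⁻¹ := by group
    rwa [this] at h5
  exact top_le_iff.1 (h2.symm.le.trans (Subgroup.normalCore_le M))

theorem B_ne_top : B F m ≠ ⊤ := by
  intro h
  have h1 : W F m ∈ B F m := h ▸ Subgroup.mem_top _
  rw [mem_B, W_oi] at h1
  exact op_ne_oi m 0 0 h1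

theorem B_coatom : IsCoatom (B F m) := by
  refine ⟨B_ne_top m, ?_⟩
  intro M hM
  obtain ⟨g, hg, hg1⟩ := Set.exists_of_ssubset hM
  exact over_Q m ((Q_le_B m).trans hM.le) ⟨g, hg, fun h => hg1 ((mem_B m).2 h)⟩

theorem B_unique {M : Subgroup ↥(Cfsg.Sz F m)} (hM : IsCoatom M) (hQ : Q F m ≤ M) : M = B F m := by
  have h1 : M ≤ B F m := by
    intro g hg
    by_contra hcon
    exact hM.1 (over_Q m hQ ⟨g, hg, fun h => hcon ((mem_B m).2 h)⟩)
  exact (hM.le_iff_eq (B_ne_top m)).1 h1 |>.symm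

theorem U_comm (a e c f : F) : U m a e * U m c f * (U m a e)⁻¹ * (U m c f)⁻¹ = U m 0 (th m a * c + th m c * a) := by
  have h2 := (two0 m : (2 : F) = 0)
  rw [mul_inv_eq_iff_eq_mul, mul_inv_eq_iff_eq_mul, U_mul, U_mul, U_mul]
  congr 1
  · ring
  · simp only [th_zero, zero_add, zero_mul, add_zero]
    linear_combination (-(th m c * a)) * h2

include H in
/-- all elements of the field are of the form `θ(a)c + θ(c)a` -/
theorem comm_surj (b : F) : ∃ a c : F, b = th m a * c + th m c * a := by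
  obtain ⟨a, c, h⟩ := Z_comm m b
  rw [U_comm] at h
  exact ⟨a, c, (U_inj m h).2⟩

/-- a subgroup of `Q` with all first coordinates is `Q` -/
theorem Q_le_of {M : Subgroup ↥(Cfsg.Sz F m)} (h : ∀ a : F, ∃ e, U m a e ∈ M) : Q F m ≤ M := by
  have hZ : ∀ b : F, U m 0 b ∈ M := by
    intro b
    obtain ⟨a, c, hac⟩ := comm_surj m b
    obtain ⟨e, he⟩ := h a
    obtain ⟨f, hf⟩ := h c
    have := M.mul_mem (M.mul_mem (M.mul_mem he hf) (M.inv_mem he)) (M.inv_mem hf)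
    rwa [U_comm, ← hac] at this
  rintro _ ⟨a, b, rfl⟩
  obtain ⟨e, he⟩ := h a
  have h5 := M.mul_mem he (hZ (b + e))
  have h6 : U m a e * U m 0 (b + e) = U m a b := by
    rw [U_mul, add_zero, mul_zero, add_zero]
    congr 1
    linear_combination e * (two0 m : (2 : F) = 0)
  rwa [h6] at h5

end Cfsg.Agent.H8.Suz
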