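import Mathlib

set_option autoImplicit false

namespace Cfsg.Agent.H8.SzNum

theorem ppl {a b : ℤ} (h : 0 < a * b) (ha : 0 ≤ a) : 0 < b := by
  by_contra hcon
  push Not at hcon
  have := mul_nonpos_of_nonneg_of_nonpos ha hcon
  omega

theorem ppr {a b : ℤ} (h : 0 < a * b) (hb : 0 ≤ b) : 0 < a := by
  rw [mul_comm] at h
  exact ppl h hb

/-- a class is large -/
theorem cls_large {c n a μ : ℤ} (ha : 5 ≤ a) (hμ : 0 ≤ μ) (h : c * (n * a) = μ * (a - 1)) : 4 * μ ≤ 5 * n * c := by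
  have h1 : 4 * μ * a ≤ 5 * n * c * a := by
    calc 4 * μ * a ≤ 5 * (μ * (a - 1)) := by nlinarith
      _ = 5 * n * c * a := by rw [← h]; ring
  exact le_of_mul_le_mul_right h1 (by omega)

/-- case `r = 2`, first step -/
theorem caseA {s μ u ρ n a c : ℤ} (hs : s = 2 ∨ s = 4) (hu : u * s = μ * (s - 1)) (ht : μ = 1 + u + ρ) (hn : n = 1 ∨ n = 2 ∨ n = 4) (hn4 : s = 2 → n ≠ 4)
    (ha : 5 ≤ a) (hμ : 0 < μ) (hc : c * (n * a) = μ * (a - 1)) (hle : c ≤ ρ) : n = s := by
  have h1 := cls_large ha hμ.le hc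
  have h2 : s * ρ = μ - s := by linear_combination (-s) * ht - hu
  rcases hs with rfl | rfl
  · rcases hn with rfl | rfl | rfl
    · nlinarith
    · rfl
    · exact absurd rfl (hn4 rfl)
  · rcases hn with rfl | rfl | rfl
    · nlinarith
    · nlinarith
    · rfl

/-- case `r = 2`, there is no second class -/
theorem caseA2 {s μ u ρ a c n' a' c' : ℤ} (hs : s = 2 ∨ s = 4) (hu : u * s = μ * (s - 1)) (ht : μ = 1 + u + ρ) (hn : n' = 1 ∨ n' = 2 ∨ n' = 4)
    (ha : 5 ≤ a) (ha' : 5 ≤ a') (hμ : 0 < μ) (hc : c * (s * a) = μ * (a - 1)) (hc' : c' * (n' * a') = μ * (a' - 1)) (hle : c + c' ≤ ρ) : False := by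
  have h1 := cls_large ha hμ.le hc
  have h1' := cls_large ha' hμ.le hc'
  have h2 : s * ρ = μ - s := by linear_combination (-s) * ht - hu
  rcases hs with rfl | rfl <;> rcases hn with rfl | rfl | rfl <;> nlinarith

theorem caseA3 {s μ u ρ a c : ℤ} (hu : u * s = μ * (s - 1)) (ht : μ = 1 + u + ρ)
    (hc : c * (s * a) = μ * (a - 1)) (hle : c = ρ) : μ = s * a := by
  subst hle
  have h2 : s * c = μ - s := by linear_combination (-s) * ht - hu
  have h3 : (μ - s) * a = μ * (a - 1) := by rw [← h2, ← hc]; ring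
  linear_combination h3

/-- case B, the torus at infinity is self-normalizing: impossible -/
theorem caseB1 {s e μ u ρ t : ℤ} (hs : 8 ≤ s) (he : 7 ≤ e) (hμ : (s + 1) * (s * e) ≤ μ) (hu : u * (s * e) = μ * (s - 1)) (ht : μ = 1 + u + ρ)
    (h : t * (1 * e) = μ * (e - 1)) : t < ρ ∧ ∀ c, 0 ≤ c → t + c ≤ ρ → μ ≤ 5 * c → False := by
  have hse : 56 ≤ s * e := by nlinarith
  have h1 : s * e * (ρ - t) = μ - s * e := by linear_combination (-(s * e)) * ht - hu - s * h
  have hμ0 : 0 < μ := by nlinarith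
  constructor
  · have : 0 < s * e * (ρ - t) := by rw [h1]; nlinarith
    have := ppl this (by omega)
    omega
  · intro c hc h2 h3
    have h4 : s * e * c ≤ s * e * (ρ - t) := mul_le_mul_of_nonneg_left (by omega) (by omega)
    rw [h1] at h4
    nlinarith

/-- case B, the second equation -/
theorem caseB2 {s e μ u ρ t : ℤ} (hu : u * (s * e) = μ * (s - 1)) (ht : μ = 1 + u + ρ)
    (h : t * (2 * e) = μ * (e - 1)) : 2 * (s * e) * (ρ - t) = μ * (s * e - s + 2) - 2 * (s * e) := by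
  linear_combination (-2 * (s * e)) * ht - 2 * hu - s * h

theorem caseB_pos {s e μ ρ1 : ℤ} (hs : 8 ≤ s) (he : 7 ≤ e) (hμ : (s + 1) * (s * e) ≤ μ) (h : 2 * (s * e) * ρ1 = μ * (s * e - s + 2) - 2 * (s * e)) : 0 < ρ1 := by
  have hse : 56 ≤ s * e := by nlinarith
  have h2 : 0 < 2 * (s * e) * ρ1 := by
    rw [h]
    have h3 : 2 ≤ s * e - s + 2 := by nlinarith
    have hμ0 : 0 < μ := by nlinarith
    have h4 : μ * 2 ≤ μ * (s * e - s + 2) := mul_le_mul_of_nonneg_left h3 hμ0.le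
    nlinarith
  exact ppl h2 (by omega)

theorem caseB_n1 {s e μ ρ1 c : ℤ} (hs : 8 ≤ s) (he : 7 ≤ e) (hμ : (s + 1) * (s * e) ≤ μ) (h : 2 * (s * e) * ρ1 = μ * (s * e - s + 2) - 2 * (s * e))
    (hc : c ≤ ρ1) (h5 : 4 * μ ≤ 5 * 1 * c) : False := by
  have hse : 56 ≤ s * e := by nlinarith
  have hμ0 : 0 < μ := by nlinarith
  have h1 : 2 * (s * e) * c ≤ 2 * (s * e) * ρ1 := mul_le_mul_of_nonneg_left hc (by omega)
  have h2 : 2 * (s * e) * (4 * μ) ≤ 2 * (s * e) * (5 * 1 * c) := mul_le_mul_of_nonneg_left h5 (by omega)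
  rw [h] at h1
  nlinarith

/-- the class with quotient two: no further class -/
theorem caseB_n2 {s e μ ρ1 c a c' : ℤ} (hs : 8 ≤ s) (he : 7 ≤ e) (ha : 5 ≤ a) (hμ : (s + 1) * (s * e) ≤ μ) (h : 2 * (s * e) * ρ1 = μ * (s * e - s + 2) - 2 * (s * e))
    (hc : c * (2 * a) = μ * (a - 1)) (hc' : μ ≤ 5 * c') (hle : c + c' ≤ ρ1) : False := by
  have hse : 56 ≤ s * e := by nlinarith
  have hμ0 : 0 < μ := by nlinarith
  have h1 : 2 * (s * e) * (c + c') ≤ 2 * (s * e) * ρ1 := mul_le_mul_of_nonneg_left hle (by omega)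
  rw [h] at h1
  have h2 : a * (2 * (s * e) * (c + c')) ≤ a * (μ * (s * e - s + 2) - 2 * (s * e)) := mul_le_mul_of_nonneg_left h1 (by omega)
  have h3 : a * (2 * (s * e) * (c + c')) = s * e * (μ * (a - 1)) + 2 * (s * e) * a * c' := by rw [← hc]; ring
  rw [h3] at h2
  have h4 : 2 * (s * e) * a * μ ≤ 2 * (s * e) * a * (5 * c') := mul_le_mul_of_nonneg_left hc' (by positivity)
  -- 2sea μ ≤ 5 μ (se - a(s-2))
  have h5 : μ * (2 * (s * e) * a) ≤ μ * (5 * (s * e - a * (s - 2))) := by nlinarith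
  have h6 := le_of_mul_le_mul_left h5 hμ0
  nlinarith

theorem caseB_eq2 {s e μ ρ1 c a : ℤ} (h : 2 * (s * e) * ρ1 = μ * (s * e - s + 2) - 2 * (s * e))
    (hc : c * (2 * a) = μ * (a - 1)) (hle : c = ρ1) : μ * (s * e - a * (s - 2)) = 2 * (s * e) * a := by
  subst hle
  linear_combination (-a) * h + (s * e) * hc

theorem caseB_n4 {s e μ ρ1 c a : ℤ} (hs : 8 ≤ s) (he : 7 ≤ e) (ha : 5 ≤ a) (hμ : (s + 1) * (s * e) ≤ μ) (h : 2 * (s * e) * ρ1 = μ * (s * e - s + 2) - 2 * (s * e))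
    (hc : c * (4 * a) = μ * (a - 1)) : c ≠ ρ1 := by
  rintro rfl
  have hse : 56 ≤ s * e := by nlinarith
  have hμ0 : 0 < μ := by nlinarith
  have h1 : μ * (2 * (s * e) * a + 2 * (s * e) - 4 * a * (s - 2)) = 8 * (s * e) * a := by
    linear_combination (-4 * a) * h + 2 * (s * e) * hc
  have h2 : 2 * s * a * (e - 2) ≤ 2 * (s * e) * a + 2 * (s * e) - 4 * a * (s - 2) := by nlinarith
  have h3 : μ * (2 * s * a * (e - 2)) ≤ 8 * (s * e) * a := by
    rw [← h1]
    exact mul_le_mul_of_nonneg_left h2 hμ0.le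
  have h4 : 0 < s * a := by positivity
  have h5 : (s * a) * (μ * (2 * (e - 2))) ≤ (s * a) * (8 * e) := by nlinarith
  have h6 := le_of_mul_le_mul_left h5 h4
  have h7 : 504 ≤ μ := by nlinarith
  nlinarith

theorem caseB_n4' {s e μ ρ1 c a c' : ℤ} (hs : 8 ≤ s) (he : 7 ≤ e) (ha : 5 ≤ a) (hμ : (s + 1) * (s * e) ≤ μ) (h : 2 * (s * e) * ρ1 = μ * (s * e - s + 2) - 2 * (s * e))
    (hc : c * (4 * a) = μ * (a - 1)) (hc' : 2 * μ ≤ 5 * c') (hle : c + c' ≤ ρ1) : False := by
  have hse : 56 ≤ s * e := by nlinarith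
  have hμ0 : 0 < μ := by nlinarith
  have h1 : 2 * (s * e) * (c + c') ≤ 2 * (s * e) * ρ1 := mul_le_mul_of_nonneg_left hle (by omega)
  rw [h] at h1
  have h2 : 20 * a * (2 * (s * e) * (c + c')) ≤ 20 * a * (μ * (s * e - s + 2) - 2 * (s * e)) := mul_le_mul_of_nonneg_left h1 (by omega)
  have h3 : 20 * a * (2 * (s * e) * (c + c')) = 10 * (s * e) * (μ * (a - 1)) + 8 * (s * e) * a * (5 * c') := by rw [← hc]; ring
  rw [h3] at h2
  have h4 : 8 * (s * e) * a * (2 * μ) ≤ 8 * (s * e) * a * (5 * c') := mul_le_mul_of_nonneg_left hc' (by positivity)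
  have h5 : μ * (10 * (s * e) * (a - 1) + 16 * (s * e) * a) ≤ μ * (20 * a * (s * e - s + 2)) := by
    have : 0 < 40 * a * (s * e) := by positivity
    nlinarith
  have h6 := le_of_mul_le_mul_left h5 hμ0
  nlinarith [mul_pos (show (0:ℤ) < s by omega) (show (0:ℤ) < a by omega)]

theorem caseB_n44 {s e μ ρ1 c a c' b c'' : ℤ} (hs : 8 ≤ s) (he : 7 ≤ e) (ha : 5 ≤ a) (hb : 5 ≤ b) (hμ : (s + 1) * (s * e) ≤ μ) (h : 2 * (s * e) * ρ1 = μ * (s * e - s + 2) - 2 * (s * e))
    (hc : c * (4 * a) = μ * (a - 1)) (hc' : c' * (4 * b) = μ * (b - 1)) (hc'' : μ ≤ 5 * c'') (hle : c + c' + c'' ≤ ρ1) : False := by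
  have hse : 56 ≤ s * e := by nlinarith
  have hμ0 : 0 < μ := by nlinarith
  have hab : 0 < a * b := by positivity
  have h1 : 2 * (s * e) * (c + c' + c'') ≤ 2 * (s * e) * ρ1 := mul_le_mul_of_nonneg_left hle (by omega)
  rw [h] at h1
  have h2 : 20 * (a * b) * (2 * (s * e) * (c + c' + c'')) ≤ 20 * (a * b) * (μ * (s * e - s + 2) - 2 * (s * e)) := mul_le_mul_of_nonneg_left h1 (by positivity)
  have h3 : 20 * (a * b) * (2 * (s * e) * (c + c' + c'')) = 10 * (s * e) * b * (μ * (a - 1)) + 10 * (s * e) * a * (μ * (b - 1)) + 8 * (s * e) * (a * b) * (5 * c'') := by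
    rw [← hc, ← hc']; ring
  rw [h3] at h2
  have h4 : 8 * (s * e) * (a * b) * μ ≤ 8 * (s * e) * (a * b) * (5 * c'') := mul_le_mul_of_nonneg_left hc'' (by positivity)
  have h5 : μ * (10 * (s * e) * b * (a - 1) + 10 * (s * e) * a * (b - 1) + 8 * (s * e) * (a * b)) ≤ μ * (20 * (a * b) * (s * e - s + 2)) := by
    have : 0 < 40 * (a * b) * (s * e) := by positivity
    nlinarith
  have h6 := le_of_mul_le_mul_left h5 hμ0
  have h7 : 5 * (a + b) ≤ 2 * (a * b) := by nlinarith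
  have h8 : (s * e) * (5 * (a + b)) ≤ (s * e) * (2 * (a * b)) := mul_le_mul_of_nonneg_left h7 (by omega)
  have h9 : 8 * (a * b) ≤ s * (a * b) := mul_le_mul_of_nonneg_right hs hab.le
  have h10 : 56 * (a * b) ≤ (s * e) * (a * b) := mul_le_mul_of_nonneg_right hse hab.le
  nlinarith

theorem caseB_eq4 {s e μ ρ1 c a c' b : ℤ} (h : 2 * (s * e) * ρ1 = μ * (s * e - s + 2) - 2 * (s * e))
    (hc : c * (4 * a) = μ * (a - 1)) (hc' : c' * (4 * b) = μ * (b - 1)) (hle : c + c' = ρ1) : μ * (s * e * (a + b) - 2 * (a * b) * (s - 2)) = 4 * (a * b) * (s * e) := by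
  subst hle
  have h1 : 2 * (μ * (s * e * (a + b) - 2 * (a * b) * (s - 2))) = 2 * (4 * (a * b) * (s * e)) := by
    linear_combination (-4 * (a * b)) * h + 2 * (s * e) * b * hc + 2 * (s * e) * a * hc'
  omega

/-- `D = 0`, quotient two -/
theorem caseB_D0 {r μ a : ℤ} (hr : 8 ≤ r) (hμ : (r + 1) * (r * (r - 1)) ≤ μ) (h : μ * (r * (r - 1) - a * (r - 2)) = 2 * (r * (r - 1)) * a) (ha : 5 ≤ a) : a = r + 1 := by
  have hre : 0 < r * (r - 1) := by nlinarith
  have hμ0 : 0 < μ := by nlinarith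
  obtain ⟨X, hX⟩ : ∃ X, X = r * (r - 1) - a * (r - 2) := ⟨_, rfl⟩
  rw [← hX] at h
  have hX0 : 0 < X := by
    have : 0 < μ * X := by rw [h]; positivity
    exact ppl this hμ0.le
  have h1 : (r + 1) * X ≤ 2 * a := by
    have h2 : (r * (r - 1)) * ((r + 1) * X) ≤ (r * (r - 1)) * (2 * a) := by
      calc (r * (r - 1)) * ((r + 1) * X) = (r + 1) * (r * (r - 1)) * X := by ring
        _ ≤ μ * X := mul_le_mul_of_nonneg_right hμ hX0.le
        _ = _ := by rw [h]; ring
    exact le_of_mul_le_mul_left h2 hre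
  have h2 : a ≤ r + 1 := by
    by_contra hcon
    push Not at hcon
    have : (r + 2) * (r - 2) ≤ a * (r - 2) := mul_le_mul_of_nonneg_right (by omega) (by omega)
    nlinarith
  by_contra hne
  have h3 : a ≤ r := by omega
  have h4 : a * (r - 2) ≤ r * (r - 2) := mul_le_mul_of_nonneg_right h3 (by omega)
  have h5 : r ≤ X := by nlinarith
  nlinarith

/-- `D = K`, quotient two is impossible -/
theorem caseB_DK {r μ a : ℤ} (hr : 8 ≤ r) (hμ : (r * r + 1) * (r * r * (r - 1)) ≤ μ) (h : μ * (r * r * (r - 1) - a * (r * r - 2)) = 2 * (r * r * (r - 1)) * a) (ha : 5 ≤ a) : False := by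
  have hr2 : 64 ≤ r * r := by nlinarith
  have hre : 0 < r * r * (r - 1) := by nlinarith
  have hμ0 : 0 < μ := by nlinarith
  obtain ⟨X, hX⟩ : ∃ X, X = r * r * (r - 1) - a * (r * r - 2) := ⟨_, rfl⟩
  rw [← hX] at h
  have hX0 : 0 < X := by
    have : 0 < μ * X := by rw [h]; positivity
    exact ppl this hμ0.le
  have h1 : (r * r + 1) * X ≤ 2 * a := by
    have h2 : (r * r * (r - 1)) * ((r * r + 1) * X) ≤ (r * r * (r - 1)) * (2 * a) := by
      calc (r * r * (r - 1)) * ((r * r + 1) * X) = (r * r + 1) * (r * r * (r - 1)) * X := by ring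
        _ ≤ μ * X := mul_le_mul_of_nonneg_right hμ hX0.le
        _ = _ := by rw [h]; ring
    exact le_of_mul_le_mul_left h2 hre
  have h2 : a ≤ r - 1 := by
    by_contra hcon
    push Not at hcon
    have : r * (r * r - 2) ≤ a * (r * r - 2) := mul_le_mul_of_nonneg_right (by omega) (by omega)
    nlinarith
  have h3 : a * (r * r - 2) ≤ (r - 1) * (r * r - 2) := mul_le_mul_of_nonneg_right h2 (by omega)
  have h4 : 2 * (r - 1) ≤ X := by nlinarith
  nlinarith

theorem caseB_final_aux {r N a b : ℤ} (hr : 8 ≤ r) (hr4 : 4 ∣ r) (hN : r * r + 1 < N) (ha : 5 ≤ a) (hab : a ≤ b) (ha2 : Odd a) (hb2 : Odd b)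
    (h : N * (r * r * (r - 1) * (a + b) - 2 * (a * b) * (r * r - 2)) = 4 * (a * b)) : False := by
  have hr2 : 64 ≤ r * r := by nlinarith
  obtain ⟨J, hJ⟩ : ∃ J, J = 2 * (a * b) * (r + 1) - (a + b) * (r * r + 1) := ⟨_, rfl⟩
  have h1 : J * (N * (r * r - 2) + 2) = 2 * (a + b) * (N - (r * r + 1)) := by
    rw [hJ]
    linear_combination (-(r + 1)) * h
  have hab0 : 0 < a + b := by omega
  have hpos : 0 < N * (r * r - 2) + 2 := by nlinarith
  have hJ0 : 0 < J := by
    have : 0 < J * (N * (r * r - 2) + 2) := by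
      rw [h1]
      have : 0 < N - (r * r + 1) := by omega
      positivity
    exact ppr this hpos.le
  have hJ2 : 2 ≤ J := by
    have hev : Even J := by
      rw [hJ]
      apply Even.sub
      · rw [mul_assoc]; exact even_two_mul _
      · exact Even.mul_right (ha2.add_odd hb2) _
    obtain ⟨j, hj⟩ := hev
    omega
  have hsum : r * r - 2 < a + b := by
    have h2 : 2 * (N * (r * r - 2) + 2) ≤ 2 * (a + b) * (N - (r * r + 1)) := by
      rw [← h1]
      exact mul_le_mul_of_nonneg_right hJ2 hpos.le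
    by_contra hcon
    push Not at hcon
    have h3 : (a + b) * (N - (r * r + 1)) ≤ (r * r - 2) * (N - (r * r + 1)) := mul_le_mul_of_nonneg_right hcon (by omega)
    nlinarith
  have hN0 : 0 < N := by omega
  have hab1 : 0 < a * b := by nlinarith
  have hup : 2 * (a * b) < r * (a + b) := by
    have h2 : 2 * (a * b) * (r * r - 2) < r * r * (r - 1) * (a + b) := by
      have : 0 < N * (r * r * (r - 1) * (a + b) - 2 * (a * b) * (r * r - 2)) := by rw [h]; omega
      have := ppl this hN0.le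
      omega
    have h3 : r * r * (r - 1) * (a + b) ≤ r * (r * r - 2) * (a + b) := by
      apply mul_le_mul_of_nonneg_right _ hab0.le
      nlinarith
    have h4 : 2 * (a * b) * (r * r - 2) < (r * (a + b)) * (r * r - 2) := by
      calc 2 * (a * b) * (r * r - 2) < r * r * (r - 1) * (a + b) := h2
        _ ≤ _ := h3
        _ = _ := by ring
    exact lt_of_mul_lt_mul_right h4 (by omega)
  have har : a < r := by
    by_contra hcon
    push Not at hcon
    have : r * b ≤ a * b := mul_le_mul_of_nonneg_right hcon (by omega)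
    have h5 : r * a ≤ r * b := mul_le_mul_of_nonneg_left hab (by omega)
    nlinarith
  by_cases h2a : r + 2 ≤ 2 * a
  · have h5 : (r + 2) * b ≤ 2 * a * b := mul_le_mul_of_nonneg_right h2a (by omega)
    have h6 : r * a ≤ r * (r - 1) := mul_le_mul_of_nonneg_left (by omega) (by omega)
    nlinarith
  · have h2a' : 2 * a ≤ r - 2 := by
      obtain ⟨q, hq⟩ := hr4
      obtain ⟨j, hj⟩ := ha2
      omega
    have h5 : 2 * a * b ≤ (r - 2) * b := mul_le_mul_of_nonneg_right h2a' (by omega)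
    have h6 : (a + b) * ((r - 1) * (r + 1)) < 2 * (a * b) * (r + 1) := by
      have : (a + b) * ((r - 1) * (r + 1)) < (a + b) * (r * r + 1) := by
        apply mul_lt_mul_of_pos_left _ hab0
        nlinarith
      omega
    have h7 : (a + b) * (r - 1) * (r + 1) < 2 * (a * b) * (r + 1) := by
      calc (a + b) * (r - 1) * (r + 1) = (a + b) * ((r - 1) * (r + 1)) := by ring
        _ < _ := h6
    have h8 := lt_of_mul_lt_mul_right h7 (by omega)
    have h9 : b * (r - 1) ≤ (a + b) * (r - 1) := mul_le_mul_of_nonneg_right (by omega) (by omega)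
    nlinarith

theorem caseB_final {r N a b : ℤ} (hr : 8 ≤ r) (hr4 : 4 ∣ r) (hN : r * r + 1 ≤ N) (ha : 5 ≤ a) (hb : 5 ≤ b) (ha2 : Odd a) (hb2 : Odd b)
    (h : N * (r * r * (r - 1) * (a + b) - 2 * (a * b) * (r * r - 2)) = 4 * (a * b)) : N = r * r + 1 := by
  by_contra hne
  have hN' : r * r + 1 < N := lt_of_le_of_ne hN (Ne.symm hne)
  rcases le_total a b with hab | hab
  · exact caseB_final_aux hr hr4 hN' ha hab ha2 hb2 h
  · refine caseB_final_aux hr hr4 hN' hb hab hb2 ha2 ?_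
    rw [← sub_eq_zero] at h ⊢
    rw [← h]; ring

end Cfsg.Agent.H8.SzNum
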