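import Mathlib
import Cfsg.Agent.H8.SzN

set_option autoImplicit false

namespace Cfsg.Agent.H8.Suz

open Matrix Cfsg.Agent.H8.TI
open scoped Pointwise

variable {F : Type*} [Field F] [Fintype F] (m : ℕ) [H : Hyp F m]

include H in
theorem subfield_exists {n : ℕ} (hn : n ≠ 0) (h : n ∣ 2 * m + 1) : ∃ K : Subfield F, Nat.card K = 2 ^ n := by
  haveI := charP2 (F := F) m
  haveI := Fact.mk Nat.prime_two
  letI : Algebra (ZMod 2) F := ZMod.algebra F 2
  have h1 : Module.finrank (ZMod 2) (GaloisField 2 n) = n := GaloisField.finrank 2 hn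
  have h2 : Module.finrank (ZMod 2) F = 2 * m + 1 := by
    have h3 := Module.card_eq_pow_finrank (K := ZMod 2) (V := F)
    rw [ZMod.card, H.hF] at h3
    exact (Nat.pow_right_injective (le_refl 2) h3).symm
  haveI : Finite (GaloisField 2 n) := Nat.finite_of_card_ne_zero (by rw [GaloisField.card 2 n hn]; positivity)
  obtain ⟨φ⟩ := FiniteField.nonempty_algHom_of_finrank_dvd (F := ZMod 2) (K := GaloisField 2 n) (L := F) (by rw [h1, h2]; exact h)
  refine ⟨φ.toRingHom.fieldRange, ?_⟩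
  rw [← GaloisField.card 2 n hn]
  exact (Nat.card_congr (Equiv.ofInjective φ.toRingHom φ.toRingHom.injective)).symm

include H in
theorem subfield_dvd (K : Subfield F) {n : ℕ} (h : Nat.card K = 2 ^ n) : n ∣ 2 * m + 1 := by
  haveI : Fintype K := Fintype.ofFinite _
  have h3 := Module.card_eq_pow_finrank (K := K) (V := F)
  rw [H.hF, ← Nat.card_eq_fintype_card, h, ← pow_mul] at h3
  exact ⟨_, Nat.pow_right_injective (le_refl 2) h3⟩

include H in
/-- a subset closed under addition and division is a subfield -/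
theorem subfield_of (A : Set F) (h0 : (0 : F) ∈ A) (h1 : (1 : F) ∈ A) (hadd : ∀ x ∈ A, ∀ y ∈ A, x + y ∈ A) (hdiv : ∀ x ∈ A, ∀ y ∈ A, y ≠ 0 → x * y⁻¹ ∈ A) :
    ∃ K : Subfield F, (K : Set F) = A := by
  have hinv : ∀ x ∈ A, x⁻¹ ∈ A := by
    intro x hx
    by_cases h : x = 0
    · rw [h, _root_.inv_zero]; exact h0
    · have := hdiv 1 h1 x hx h
      rwa [one_mul] at this
  refine ⟨{ carrier := A, mul_mem' := ?_, one_mem' := h1, add_mem' := fun {x y} hx hy => hadd x hx y hy, zero_mem' := h0, neg_mem' := ?_, inv_mem' := ?_ }, rfl⟩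
  · intro x y hx hy
    by_cases h : y = 0
    · rw [h, mul_zero]; exact h0
    · have := hdiv x hx y⁻¹ (hinv y hy) (inv_ne_zero h)
      rwa [inv_inv] at this
  · intro x hx
    have : -x = x := neg_eq m x
    show -x ∈ A
    rwa [this]
  · intro x hx; exact hinv x hx

/-- the subgroup `U(0,A)` -/
def ZA (A : AddSubgroup F) : Subgroup ↥(Cfsg.Sz F m) where
  carrier := {g | ∃ b ∈ A, g = U m 0 b}
  one_mem' := ⟨0, A.zero_mem, (U_zero m).symm⟩
  mul_mem' := by
    rintro _ _ ⟨b, hb, rfl⟩ ⟨d, hd, rfl⟩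
    refine ⟨b + d, A.add_mem hb hd, ?_⟩
    rw [U_mul, add_zero, mul_zero, add_zero]
  inv_mem' := by
    rintro _ ⟨b, hb, rfl⟩
    refine ⟨b, hb, ?_⟩
    rw [U_inv, mul_zero, add_zero]

theorem card_ZA (A : AddSubgroup F) : Nat.card (ZA m A) = Nat.card A := by
  symm
  refine Nat.card_congr (Equiv.ofBijective (fun b : A => (⟨U m (0 : F) (b : F), (b : F), b.2, rfl⟩ : ZA m A)) ⟨?_, ?_⟩)
  · intro b c h
    have h1 : U m (0 : F) (b : F) = U m 0 (c : F) := congrArg Subtype.val h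
    have h2 : (b : F) = (c : F) := (U_inj m h1).2
    exact Subtype.ext h2
  · rintro ⟨_, b, hb, rfl⟩
    exact ⟨⟨b, hb⟩, rfl⟩

end Cfsg.Agent.H8.Suz
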