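import Mathlib
import Cfsg.Agent.H8.SzO

set_option autoImplicit false

namespace Cfsg.Agent.H8.Suz

open Matrix Cfsg.Agent.H8.TI
open scoped Pointwise

variable {F : Type*} [Field F] [Fintype F] (m : ℕ) [H : Hyp F m]

/-- the members of the partition that are tori -/
def Comp2 (X : Subgroup ↥(Cfsg.Sz F m)) : Prop := (∃ x, X = cj x (TT F m)) ∨ IsTor m X

def Comp (X : Subgroup ↥(Cfsg.Sz F m)) : Prop := (∃ x, X = cj x (Q F m)) ∨ Comp2 m X

theorem comp2_cent {X : Subgroup ↥(Cfsg.Sz F m)} (hX : Comp2 m X) {z : ↥(Cfsg.Sz F m)} (hz : z ∈ X) (h1 : z ≠ 1) : X = Subgroup.centralizer {z} := by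
  rcases hX with ⟨x, rfl⟩ | hX
  · obtain ⟨k, hk⟩ := mem_cj.1 hz
    have hk1 : (k : F) ≠ 1 := by
      apply T_ne m
      rw [hk]
      intro h
      apply h1
      have : z = x * (x⁻¹ * z * x) * x⁻¹ := by group
      rw [this, h]; group
    have : z = x * T m k * x⁻¹ := by rw [hk]; group
    rw [this, cent_conj_T m hk1]
  · exact (tor_cent m hX hz h1).symm

theorem tor_card {X : Subgroup ↥(Cfsg.Sz F m)} (hX : IsTor m X) : Nat.card X ∈ S3 m := by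
  obtain ⟨g, hg, rfl⟩ := hX
  exact fpf_card m hg

theorem comp2_card {X : Subgroup ↥(Cfsg.Sz F m)} (hX : Comp2 m X) : Nat.card X ∈ S3 m := by
  rcases hX with ⟨x, rfl⟩ | hX
  · rw [card_cj, card_TT]; exact Or.inl rfl
  · exact tor_card m hX

theorem comp2_cyclic {X : Subgroup ↥(Cfsg.Sz F m)} (hX : Comp2 m X) : IsCyclic X := by
  rcases hX with ⟨x, rfl⟩ | hX
  · exact cyc_cj _ _
  · exact tor_cyclic m hX

theorem comp2_not_unip {X : Subgroup ↥(Cfsg.Sz F m)} (hX : Comp2 m X) {z : ↥(Cfsg.Sz F m)} (hz : z ∈ X) (h1 : z ≠ 1) : ¬ ∃ x, x⁻¹ * z * x ∈ Q F m := by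
  apply not_unip_of_odd m (S3_odd (F := F) m (comp2_card m hX)) _ h1
  exact congrArg Subtype.val (pow_card_eq_one' (G := X) (x := ⟨z, hz⟩))

theorem comp_uniq {X Y : Subgroup ↥(Cfsg.Sz F m)} (hX : Comp m X) (hY : Comp m Y) {z : ↥(Cfsg.Sz F m)} (hzX : z ∈ X) (hzY : z ∈ Y) (h1 : z ≠ 1) : X = Y := by
  rcases hX with ⟨x, rfl⟩ | hX <;> rcases hY with ⟨y, rfl⟩ | hY
  · exact Q_uniq m h1 hzX hzY
  · exact absurd ⟨x, mem_cj.1 hzX⟩ (comp2_not_unip m hY hzY h1)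
  · exact absurd ⟨y, mem_cj.1 hzY⟩ (comp2_not_unip m hX hzX h1)
  · rw [comp2_cent m hX hzX h1, comp2_cent m hY hzY h1]

theorem comp_exists {z : ↥(Cfsg.Sz F m)} (h1 : z ≠ 1) : ∃ X, Comp m X ∧ Subgroup.centralizer {z} ≤ X := by
  rcases trich m z with ⟨x, hx⟩ | ⟨x, k, hk, rfl⟩ | h
  · exact ⟨cj x (Q F m), Or.inl ⟨x, rfl⟩, cent_unip m hx h1⟩
  · exact ⟨cj x (TT F m), Or.inr (Or.inl ⟨x, rfl⟩), (cent_conj_T m hk).le⟩
  · exact ⟨Subgroup.centralizer {z}, Or.inr (Or.inr ⟨z, h, rfl⟩), le_rfl⟩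

theorem mem_cent_self {G : Type*} [Group G] (z : G) : z ∈ Subgroup.centralizer ({z} : Set G) := Subgroup.mem_centralizer_singleton_iff.2 rfl

theorem comp_ne_bot {X : Subgroup ↥(Cfsg.Sz F m)} (hX : Comp m X) : ∃ z ∈ X, z ≠ 1 := by
  have hb : 1 < Nat.card X := by
    obtain ⟨h1, h2, h3, h4⟩ := q_facts (F := F) m
    rcases hX with ⟨x, rfl⟩ | hX
    · rw [card_cj, card_Q]
      nlinarith
    · have hX' := comp2_card m hX
      rcases hX' with h | h | h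
      · rw [h]; omega
      · rw [Set.mem_singleton_iff.symm.1 h]; omega
      · rw [Set.mem_singleton_iff.1 h]
        have : 2 ^ (m + 1) < 2 ^ (2 * m + 1) := by rw [h2, h3]; nlinarith
        omega
  haveI : Nontrivial X := Finite.one_lt_card_iff_nontrivial.1 hb
  obtain ⟨⟨z, hz⟩, hz1⟩ := exists_ne (1 : X)
  exact ⟨z, hz, fun h => hz1 (Subtype.ext h)⟩

theorem comp_Q : Comp m (Q F m) := by
  left
  refine ⟨1, ?_⟩
  ext z
  rw [mem_cj]; simp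

theorem comp2_TT : Comp2 m (TT F m) := by
  left
  refine ⟨1, ?_⟩
  ext z
  rw [mem_cj]; simp

theorem comp_ne_top {X : Subgroup ↥(Cfsg.Sz F m)} (hX : Comp m X) : X ≠ ⊤ := by
  rintro rfl
  obtain ⟨z, hz, h1⟩ := comp_ne_bot m (comp_Q (F := F) m)
  have h2 := comp_uniq m (comp_Q m) hX hz (Subgroup.mem_top z) h1
  have h3 := Q_le_B (F := F) m
  rw [h2, top_le_iff] at h3
  exact B_ne_top m h3

theorem comp_norm {X : Subgroup ↥(Cfsg.Sz F m)} (hX : Comp m X) : Subgroup.normalizer (X : Set ↥(Cfsg.Sz F m)) ≠ ⊤ := by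
  intro h
  haveI := simple (F := F) m
  haveI : X.Normal := Subgroup.normalizer_eq_top_iff.1 h
  rcases Subgroup.Normal.eq_bot_or_eq_top (H := X) inferInstance with h1 | h1
  · obtain ⟨z, hz, h2⟩ := comp_ne_bot m hX
    rw [h1] at hz
    exact h2 (Subgroup.mem_bot.1 hz)
  · exact comp_ne_top m hX h1

theorem TT_ne_Q : TT F m ≠ Q F m := by
  intro h
  obtain ⟨z, hz, h1⟩ := comp_ne_bot m (Or.inr (comp2_TT (F := F) m))
  have := comp2_not_unip m (comp2_TT m) hz h1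
  apply this
  refine ⟨1, ?_⟩
  rw [h] at hz
  simpa using hz

/-- the component of a nilpotent subgroup -/
theorem nilp_comp {A : Subgroup ↥(Cfsg.Sz F m)} (hA : Group.IsNilpotent A) {a b : ↥(Cfsg.Sz F m)} (ha : a ∈ A) (hb : b ∈ A) (ha1 : a ≠ 1) (hb1 : b ≠ 1)
    {X Y : Subgroup ↥(Cfsg.Sz F m)} (hX : Comp m X) (hY : Comp m Y) (haX : a ∈ X) (hbY : b ∈ Y) : X = Y := by
  haveI : Nontrivial A := ⟨⟨⟨a, ha⟩, 1, fun h => ha1 (congrArg Subtype.val h)⟩⟩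
  haveI := hA
  obtain ⟨⟨z, hz⟩, hz1⟩ : ∃ z : Subgroup.center A, z ≠ 1 := by
    exact Subgroup.ne_bot_iff_exists_ne_one.1 (Group.IsNilpotent.center_ne_bot A)
  have hz1' : (z : ↥(Cfsg.Sz F m)) ≠ 1 := fun h => hz1 (Subtype.ext (Subtype.ext h))
  rw [Subgroup.mem_center_iff] at hz
  obtain ⟨V, hV, hVc⟩ := comp_exists m hz1'
  have h1 : ∀ y ∈ A, y ∈ V := by
    intro y hy
    apply hVc
    rw [Subgroup.mem_centralizer_singleton_iff]
    exact congrArg Subtype.val (hz ⟨y, hy⟩)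
  rw [comp_uniq m hX hV haX (h1 a ha) ha1, comp_uniq m hY hV hbY (h1 b hb) hb1]

end Cfsg.Agent.H8.Suz
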