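import Mathlib
import Cfsg.Agent.H8.SzP
import Cfsg.Agent.H8.EigChar
import Cfsg.Agent.H5.Char1

set_option autoImplicit false

namespace Cfsg.Agent.H8.Suz

open Matrix Cfsg.Agent.H8.TI Cfsg.Agent.H8.EigChar
open scoped Pointwise

variable {F : Type*} [Field F] [Fintype F] (m : ℕ) [H : Hyp F m]

include H in
theorem th_eq_self {y : F} (h : th m y = y) : y = 0 ∨ y = 1 := by
  have h4 : th m (th m y) = y := by rw [h, h]
  rw [th_th] at h4
  have h5 : y * (y - 1) = 0 := by linear_combination h4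
  rcases mul_eq_zero.1 h5 with h | h
  · exact Or.inl h
  · exact Or.inr (sub_eq_zero.1 h)

include H in
/-- multipliers of the group `{s + θ s}` -/
theorem mul_I {μ : F} (h : ∀ s : F, ∃ t, μ * (s + th m s) = t + th m t) : μ = 0 ∨ μ = 1 := by
  classical
  let I : AddSubgroup F := {
    carrier := {x | ∃ s, x = s + th m s}
    zero_mem' := ⟨0, by rw [th_zero, add_zero]⟩
    add_mem' := by
      rintro _ _ ⟨s, rfl⟩ ⟨t, rfl⟩
      exact ⟨s + t, by rw [th_add]; ring⟩
    neg_mem' := by
      rintro _ ⟨s, rfl⟩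
      exact ⟨s, neg_eq m _⟩ }
  have hI : ∀ x, x ∈ I ↔ ∃ s, x = s + th m s := fun x => Iff.rfl
  have h1 : ∀ x ∈ I, μ * x ∈ I := by
    rintro _ ⟨s, rfl⟩
    exact h s
  have hth : ∀ x ∈ I, th m x ∈ I := by
    rintro _ ⟨s, rfl⟩
    exact ⟨th m s, by rw [th_add]⟩
  have hrh : ∀ x ∈ I, ∃ y ∈ I, x = th m y := by
    rintro _ ⟨s, rfl⟩
    exact ⟨rh m s + th m (rh m s), ⟨_, rfl⟩, by rw [th_add, th_rh']⟩
  have h2 : ∀ x ∈ I, th m μ * x ∈ I := by
    intro x hx
    obtain ⟨y, hy, rfl⟩ := hrh x hx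
    rw [← th_mul]
    exact hth _ (h1 y hy)
  have h3 : ∀ x ∈ I, (μ + th m μ) * x ∈ I := by
    intro x hx
    rw [add_mul]
    exact I.add_mem (h1 x hx) (h2 x hx)
  by_cases hy : μ + th m μ = 0
  · apply th_eq_self m
    have := eq_of_add_zero m hy
    exact this.symm
  · exfalso
    let f : I → I := fun x => ⟨(μ + th m μ) * x, h3 x x.2⟩
    have hf : Function.Injective f := by
      intro x y hxy
      have : (μ + th m μ) * (x : F) = (μ + th m μ) * y := congrArg Subtype.val hxy
      exact Subtype.ext (mul_left_cancel₀ hy this)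
    obtain ⟨x, hx⟩ := Finite.surjective_of_injective hf ⟨μ + th m μ, ⟨μ, rfl⟩⟩
    have h4 : (μ + th m μ) * (x : F) = μ + th m μ := congrArg Subtype.val hx
    have h5 : (x : F) = 1 := by
      apply mul_left_cancel₀ hy
      rw [h4, mul_one]
    obtain ⟨s, hs⟩ := x.2
    rw [h5] at hs
    apply no_sol m s
    linear_combination (-1) * hs - s * (two0 m : (2 : F) = 0)

include H in
/-- the group `{s + θ s}` has index two -/
theorem I_or (x : F) : (∃ s, x = s + th m s) ∨ (∃ s, x + 1 = s + th m s) := by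
  classical
  let f : F →+ F := { toFun := fun s => s + th m s, map_zero' := by rw [th_zero, add_zero], map_add' := by intro a b; rw [th_add]; ring }
  have hk : Nat.card f.ker ≤ 2 := by
    have : (f.ker : Set F) ⊆ {0, 1} := by
      intro y hy
      have h1 : y + th m y = 0 := hy
      have := eq_of_add_zero m h1
      rcases th_eq_self m this.symm with h | h
      · exact Or.inl h
      · exact Or.inr h
    calc Nat.card f.ker = (f.ker : Set F).ncard := rfl
      _ ≤ ({0, 1} : Set F).ncard := Set.ncard_le_ncard this (Set.toFinite _)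
      _ ≤ 2 := by
        have := Set.ncard_insert_le (0 : F) {1}
        rwa [Set.ncard_singleton] at this
  have h1 : Nat.card f.ker * f.ker.index = Nat.card F := f.ker.card_mul_index
  have h2 : f.ker.index = Nat.card f.range := AddSubgroup.index_ker f
  have h3 : Nat.card f.range * f.range.index = Nat.card F := f.range.card_mul_index
  have hpos : 0 < Nat.card f.range := Nat.card_pos
  have h4 : f.range.index ≤ 2 := by
    rw [h2] at h1
    have : Nat.card f.range * f.range.index = Nat.card f.range * Nat.card f.ker := by rw [h3, ← h1, mul_comm]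
    rw [Nat.eq_of_mul_eq_mul_left hpos this]
    exact hk
  have hne : (1 : F) ∉ f.range := by
    rintro ⟨s, hs⟩
    have hs' : s + th m s = 1 := hs
    apply no_sol m s
    have h2 := (two0 m : (2 : F) = 0)
    linear_combination hs' - s * h2
  have h5 : f.range.index = 2 := by
    have h6 : f.range.index ≠ 1 := by
      intro h
      rw [AddSubgroup.index_eq_one] at h
      rw [h] at hne
      exact hne trivial
    have h7 : f.range.index ≠ 0 := AddSubgroup.index_ne_zero_of_finite
    omega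
  have h6 := (AddSubgroup.add_mem_iff_of_index_two h5 (a := x) (b := 1))
  by_cases hx : x ∈ f.range
  · obtain ⟨s, hs⟩ := hx
    exact Or.inl ⟨s, hs.symm⟩
  · right
    have h7 : x + 1 ∈ f.range := h6.2 (by constructor <;> intro h <;> [exact absurd h hx; exact absurd h hne])
    obtain ⟨s, hs⟩ := h7
    exact ⟨s, hs.symm⟩

/-- the radical condition -/
def Rad (χ : AddChar F ℂ) (a : F) : Prop := ∀ c : F, χ (th m a * c + th m c * a) = 1

include H in
theorem rad_I {χ : AddChar F ℂ} {a : F} (ha : a ≠ 0) (h : Rad m χ a) (s : F) : χ (a * th m a * (s + th m s)) = 1 := by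
  have := h (a * s)
  rw [th_mul] at this
  rw [← this]
  congr 1
  ring

include H in
theorem rad_unique {χ : AddChar F ℂ} (hχ : χ ≠ 0) {a a' : F} (ha : a ≠ 0) (ha' : a' ≠ 0) (h : Rad m χ a) (h' : Rad m χ a') : a = a' := by
  have hk : a * th m a ≠ 0 := mul_ne_zero ha (fun h0 => ha ((th_eq_zero m).1 h0))
  have hk' : a' * th m a' ≠ 0 := mul_ne_zero ha' (fun h0 => ha' ((th_eq_zero m).1 h0))
  -- χ(aθ(a)) ≠ 1
  have h1 : χ (a * th m a) ≠ 1 := by
    intro h1
    apply hχ
    ext b
    rcases I_or m (b * (a * th m a)⁻¹) with ⟨s, hs⟩ | ⟨s, hs⟩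
    · have h2 := rad_I m ha h s
      rw [← hs] at h2
      have e : a * th m a * (b * (a * th m a)⁻¹) = b := by rw [mul_left_comm, mul_inv_cancel₀ hk, mul_one]
      rw [e] at h2
      rw [h2]; rfl
    · have h2 := rad_I m ha h s
      rw [← hs, mul_add, mul_one, AddChar.map_add_eq_mul, h1, mul_one] at h2
      have e : a * th m a * (b * (a * th m a)⁻¹) = b := by rw [mul_left_comm, mul_inv_cancel₀ hk, mul_one]
      rw [e] at h2
      rw [h2]; rfl
  obtain ⟨μ, hμ⟩ : ∃ μ, μ = a' * th m a' * (a * th m a)⁻¹ := ⟨_, rfl⟩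
  have hμ2 : a * th m a * μ = a' * th m a' := by rw [hμ, mul_left_comm, mul_inv_cancel₀ hk, mul_one]
  have h2 : μ = 0 ∨ μ = 1 := by
    apply mul_I m
    intro s
    rcases I_or m (μ * (s + th m s)) with h3 | ⟨t, ht⟩
    · exact h3
    · exfalso
      have h4 := rad_I m ha h t
      rw [← ht, mul_add, mul_one, AddChar.map_add_eq_mul, ← mul_assoc, hμ2, rad_I m ha' h' s, one_mul] at h4
      exact h1 h4
  have h3 : μ = 1 := by
    rcases h2 with h2 | h2
    · exfalso
      rw [h2, mul_zero] at hμ2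
      exact hk' hμ2.symm
    · exact h2
  rw [h3, mul_one] at hμ2
  -- κ injective
  by_contra hne
  have hk1 : ((Units.mk0 a ha)⁻¹ * Units.mk0 a' ha' : Fˣ) ≠ 1 := by
    intro h5
    apply hne
    have := eq_of_inv_mul_eq_one h5
    exact congrArg Units.val this
  apply unit_th_ne m (k := (Units.mk0 a ha)⁻¹ * Units.mk0 a' ha') (fun h6 => hk1 (Units.ext h6))
  rw [Units.val_mul, Units.val_inv_eq_inv_val, Units.val_mk0, Units.val_mk0, th_mul, th_inv]
  have e : a⁻¹ * a' * ((th m a)⁻¹ * th m a') = (a * th m a)⁻¹ * (a' * th m a') := by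
    rw [mul_inv]; ring
  rw [e, ← hμ2, inv_mul_cancel₀ hk]

/-- the commutator characters -/
noncomputable def bet (χ : AddChar F ℂ) (a : F) : AddChar F ℂ where
  toFun c := χ (th m a * c + th m c * a)
  map_zero_eq_one' := by rw [mul_zero, th_zero, zero_mul, add_zero, AddChar.map_zero_eq_one]
  map_add_eq_mul' c d := by
    rw [← AddChar.map_add_eq_mul, th_add]
    congr 1
    ring

include H in
theorem chi_two (χ : AddChar F ℂ) (x : F) : χ x * χ x = 1 := by
  rw [← AddChar.map_add_eq_mul, add_self m, AddChar.map_zero_eq_one]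

theorem card_bet {χ : AddChar F ℂ} (hχ : χ ≠ 0) : (2 ^ m) ^ 2 ≤ Nat.card (Set.range (bet m χ)) := by
  classical
  have h1 : (Finset.univ : Finset F).card ≤ 2 * (Finset.univ.image (bet m χ)).card := by
    apply Finset.card_le_mul_card_image
    intro β hβ
    obtain ⟨a, -, rfl⟩ := Finset.mem_image.1 hβ
    -- the fibre
    have hfib : ∀ b, bet m χ b = bet m χ a → Rad m χ (b + a) := by
      intro b hb c
      have h2 : bet m χ b c = bet m χ a c := by rw [hb]
      have h3 : χ (th m (b + a) * c + th m c * (b + a)) = bet m χ b c * bet m χ a c := by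
        show _ = χ _ * χ _
        rw [← AddChar.map_add_eq_mul, th_add]
        congr 1
        ring
      rw [h3, h2]
      exact chi_two m χ _
    by_cases hr : ∃ r, r ≠ 0 ∧ Rad m χ r
    · obtain ⟨r, hr0, hr⟩ := hr
      have hsub : (Finset.univ.filter (fun b => bet m χ b = bet m χ a)) ⊆ {a, r + a} := by
        intro b hb
        have h2 := hfib b (Finset.mem_filter.1 hb).2
        by_cases h3 : b + a = 0
        · rw [Finset.mem_insert]; left; exact (eq_of_add_zero m h3)
        · rw [Finset.mem_insert]; right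
          rw [Finset.mem_singleton, ← rad_unique m hχ h3 hr0 h2 hr]
          linear_combination (-a) * (two0 m : (2 : F) = 0)
      exact (Finset.card_le_card hsub).trans Finset.card_le_two
    · push Not at hr
      have hsub : (Finset.univ.filter (fun b => bet m χ b = bet m χ a)) ⊆ {a} := by
        intro b hb
        have h2 := hfib b (Finset.mem_filter.1 hb).2
        by_cases h3 : b + a = 0
        · rw [Finset.mem_singleton]; exact (eq_of_add_zero m h3)
        · exact absurd h2 (hr _ h3)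
      refine (Finset.card_le_card hsub).trans ?_
      rw [Finset.card_singleton]; norm_num
  rw [Finset.card_univ, H.hF] at h1
  have h2 : Nat.card (Set.range (bet m χ)) = (Finset.univ.image (bet m χ)).card := by
    rw [Nat.card_eq_fintype_card, ← Set.toFinset_card, Set.toFinset_range]
  rw [h2]
  have h3 : 2 ^ (2 * m + 1) = 2 * (2 ^ m) ^ 2 := by rw [pow_succ, pow_mul']; ring
  omega

section rep

variable {V : Type*} [AddCommGroup V] [Module ℂ V] (ρ : Representation ℂ ↥(Cfsg.Sz F m) V)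

/-- the `χ`-part of `V` for the root group `Z` -/
def Vc (χ : AddChar F ℂ) : Submodule ℂ V where
  carrier := {v | ∀ b, ρ (U m 0 b) v = χ b • v}
  add_mem' := by
    intro v w hv hw b
    rw [map_add, hv b, hw b, smul_add]
  zero_mem' := by intro b; rw [map_zero, smul_zero]
  smul_mem' := by
    intro c v hv b
    rw [map_smul, hv b, smul_comm]

theorem U_central (a b c : F) : U m 0 c * U m a b = U m a b * U m 0 c := by
  rw [U_mul, U_mul]
  congr 1
  · ring
  · rw [th_zero, zero_mul, mul_zero]; ring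

theorem Vc_U {χ : AddChar F ℂ} (a b : F) {v : V} (hv : v ∈ Vc m ρ χ) : ρ (U m a b) v ∈ Vc m ρ χ := by
  intro c
  have h1 : ρ (U m 0 c) (ρ (U m a b) v) = ρ (U m a b) (ρ (U m 0 c) v) := by
    rw [← Module.End.mul_apply, ← Module.End.mul_apply, ← map_mul, ← map_mul, U_central]
  rw [h1, hv c, map_smul]

/-- the operators of `Q` on the `χ`-part -/
noncomputable def Aop (χ : AddChar F ℂ) (a : F) : Vc m ρ χ →ₗ[ℂ] Vc m ρ χ := (ρ (U m a 0)).restrict (fun _ hv => Vc_U m ρ a 0 hv)

noncomputable def Bop (χ : AddChar F ℂ) (a : F) : Vc m ρ χ →ₗ[ℂ] Vc m ρ χ := (ρ (U m a 0)⁻¹).restrict (fun v hv => by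
  have h1 : (U m a 0)⁻¹ = U m a (0 + th m a * a) := U_inv m a 0
  rw [h1]
  exact Vc_U m ρ a _ hv)

theorem conj_op (χ : AddChar F ℂ) (c a : F) : Aop m ρ χ c * Aop m ρ χ a * Bop m ρ χ c = bet m χ a c • Aop m ρ χ a := by
  ext v
  have hv := v.2
  show ρ (U m c 0) (ρ (U m a 0) (ρ (U m c 0)⁻¹ v)) = χ (th m a * c + th m c * a) • ρ (U m a 0) v
  rw [← Module.End.mul_apply, ← Module.End.mul_apply, ← map_mul, ← map_mul]
  have h1 : U m c 0 * U m a 0 * (U m c 0)⁻¹ = U m 0 (th m a * c + th m c * a) * U m a 0 := by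
    rw [mul_inv_eq_iff_eq_mul, U_mul, U_mul, U_mul]
    congr 1
    · ring
    · rw [th_add, th_zero]
      linear_combination (-(th m a * c)) * (two0 m : (2 : F) = 0)
  rw [h1, map_mul, Module.End.mul_apply]
  exact Vc_U m ρ a 0 hv _

theorem finrank_Vc [FiniteDimensional ℂ V] {χ : AddChar F ℂ} (hχ : χ ≠ 0) (hV : Vc m ρ χ ≠ ⊥) : 2 ^ m ≤ Module.finrank ℂ (Vc m ρ χ) := by
  classical
  haveI : Nontrivial (Vc m ρ χ) := Submodule.nontrivial_iff_ne_bot.2 hV
  haveI : Fintype (Set.range (bet m χ)) := Fintype.ofFinite _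
  let rep : Set.range (bet m χ) → F := fun β => β.2.choose
  have hrep : ∀ β, bet m χ (rep β) = β.1 := fun β => β.2.choose_spec
  have h1 := li (A := F) (V := Module.End ℂ (Vc m ρ χ))
    (fun c => { toFun := fun X => Aop m ρ χ c * X * Bop m ρ χ c, map_add' := by intro X Y; rw [mul_add, add_mul], map_smul' := by intro t X; rw [mul_smul_comm, smul_mul_assoc]; rfl })
    (ι := Set.range (bet m χ)) (fun β => β.1) Subtype.val_injective (fun β => Aop m ρ χ (rep β)) (by
      intro β a
      show Aop m ρ χ a * Aop m ρ χ (rep β) * Bop m ρ χ a = _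
      rw [conj_op, hrep]) (by
      intro β h
      obtain ⟨v, hv⟩ := exists_ne (0 : Vc m ρ χ)
      apply hv
      have h2 : Aop m ρ χ (rep β) v = 0 := by rw [h]; rfl
      have h3 : ρ (U m (rep β) 0) (v : V) = 0 := congrArg Subtype.val h2
      have h4 : ρ (U m (rep β) 0)⁻¹ (ρ (U m (rep β) 0) (v : V)) = v := by
        rw [← Module.End.mul_apply, ← map_mul, inv_mul_cancel, map_one]; rfl
      rw [h3, map_zero] at h4
      exact Subtype.ext h4.symm)
  have h2 := h1.fintype_card_le_finrank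
  have h5 : Module.finrank ℂ (Module.End ℂ (Vc m ρ χ)) = Module.finrank ℂ (Vc m ρ χ) * Module.finrank ℂ (Vc m ρ χ) := Module.finrank_linearMap ℂ ℂ _ _
  rw [← Nat.card_eq_fintype_card, h5] at h2
  have h3 := card_bet m hχ
  by_contra hcon
  push Not at hcon
  nlinarith

theorem exists_Vc (hρ : ∀ W : Submodule ℂ V, (∀ g, ∀ v ∈ W, ρ g v ∈ W) → W = ⊥ ∨ W = ⊤) (h2 : 2 ≤ Module.finrank ℂ V) : ∃ χ : AddChar F ℂ, χ ≠ 0 ∧ Vc m ρ χ ≠ ⊥ := by
  classical
  haveI : Module.Finite ℂ V := Module.finite_of_finrank_pos (by omega)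
  by_contra hcon
  push Not at hcon
  let op : F → V →ₗ[ℂ] V := fun b => ρ (U m 0 b)
  have hadd : ∀ a b, op (a + b) = op a * op b := by
    intro a b
    show ρ _ = ρ _ * ρ _
    rw [← map_mul, U_mul, add_zero, mul_zero, add_zero]
  have h0 : op 0 = 1 := by
    show ρ _ = 1
    rw [U_zero, map_one]
  have h3 : ∀ v : V, ∀ b, ρ (U m 0 b) v = v := by
    intro v b
    have h4 := sum_Ei op h0 v
    have h5 : ∀ χ ∈ (Finset.univ : Finset (AddChar F ℂ)), Ei op χ v = if χ = 0 then Ei op 0 v else 0 := by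
      intro χ _
      by_cases h : χ = 0
      · rw [if_pos h, h]
      · rw [if_neg h]
        have h6 : Ei op χ v ∈ Vc m ρ χ := fun b => op_Ei op hadd χ b v
        rw [hcon χ h] at h6
        exact (Submodule.mem_bot ℂ).1 h6
    rw [Finset.sum_congr rfl h5, Finset.sum_ite_eq' Finset.univ (0 : AddChar F ℂ), if_pos (Finset.mem_univ _)] at h4
    have h6 := op_Ei op hadd 0 b v
    rw [h4, AddChar.zero_apply, one_smul] at h6
    exact h6
  have h4 : (ρ : ↥(Cfsg.Sz F m) →* (V →ₗ[ℂ] V)).ker = ⊤ := by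
    apply normal_top m
    intro b
    rw [MonoidHom.mem_ker]
    ext v
    exact h3 v b
  have h5 : ∀ g v, ρ g v = v := by
    intro g v
    have : g ∈ (ρ : ↥(Cfsg.Sz F m) →* (V →ₗ[ℂ] V)).ker := by rw [h4]; trivial
    rw [MonoidHom.mem_ker] at this
    rw [this]; rfl
  haveI : Nontrivial V := Module.nontrivial_of_finrank_pos (R := ℂ) (by omega)
  obtain ⟨v, hv⟩ := exists_ne (0 : V)
  rcases hρ (Submodule.span ℂ {v}) (by intro g w hw; rw [h5]; exact hw) with h | h
  · rw [Submodule.span_singleton_eq_bot] at h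
    exact hv h
  · have h6 : Module.finrank ℂ (Submodule.span ℂ {v}) = 1 := finrank_span_singleton hv
    rw [h, finrank_top] at h6
    omega

theorem T_Vc {χ : AddChar F ℂ} (k : Fˣ) {v : V} (hv : v ∈ Vc m ρ χ) (b : F) : ρ (U m 0 b) (ρ (T m k) v) = χ (((k : F) * th m (k : F))⁻¹ * b) • ρ (T m k) v := by
  have hk : (k : F) * th m (k : F) ≠ 0 := mul_ne_zero k.ne_zero (fun h => k.ne_zero ((th_eq_zero m).1 h))
  have h1 : U m 0 b * T m k = T m k * U m 0 (((k : F) * th m (k : F))⁻¹ * b) := by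
    rw [T_U, mul_zero, mul_inv_cancel_left₀ hk]
  rw [← Module.End.mul_apply, ← map_mul, h1, map_mul, Module.End.mul_apply, hv, map_smul]

theorem degree_bound (hρ : ∀ W : Submodule ℂ V, (∀ g, ∀ v ∈ W, ρ g v ∈ W) → W = ⊥ ∨ W = ⊤) (h2 : 2 ≤ Module.finrank ℂ V) :
    2 ^ m * (2 ^ (2 * m + 1) - 1) ≤ Module.finrank ℂ V := by
  classical
  haveI : Module.Finite ℂ V := Module.finite_of_finrank_pos (by omega)
  obtain ⟨χ, hχ, hV⟩ := exists_Vc m ρ hρ h2
  have h3 := finrank_Vc m ρ hχ hV
  let op : F → V →ₗ[ℂ] V := fun b => ρ (U m 0 b)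
  have hadd : ∀ a b, op (a + b) = op a * op b := by
    intro a b
    show ρ _ = ρ _ * ρ _
    rw [← map_mul, U_mul, add_zero, mul_zero, add_zero]
  have hmem : ∀ v, Ei op χ v ∈ Vc m ρ χ := fun v b => op_Ei op hadd χ b v
  let Φ : V →ₗ[ℂ] (Fˣ → Vc m ρ χ) := LinearMap.pi (fun k => ((Ei op χ).codRestrict (Vc m ρ χ) hmem).comp (ρ (T m k⁻¹)))
  have hΦ : Function.Surjective Φ := by
    intro w
    refine ⟨∑ k, ρ (T m k) (w k : V), ?_⟩
    funext l
    apply Subtype.ext
    show Ei op χ (ρ (T m l⁻¹) (∑ k, ρ (T m k) (w k : V))) = w l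
    rw [map_sum, map_sum]
    have h4 : ∀ k ∈ (Finset.univ : Finset Fˣ), Ei op χ (ρ (T m l⁻¹) (ρ (T m k) (w k : V))) = if k = l then (w l : V) else 0 := by
      intro k _
      have h40 : ρ (T m l⁻¹) (ρ (T m k) (w k : V)) = ρ (T m (l⁻¹ * k)) (w k : V) := by
        rw [map_mul (T m), map_mul ρ]; rfl
      rw [h40]
      by_cases h : k = l
      · rw [if_pos h, h, inv_mul_cancel, map_one, map_one]
        show Ei op χ (w l : V) = _
        rw [Ei_eig op χ χ (w l).2, if_pos rfl]
      · rw [if_neg h]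
        obtain ⟨j, hj⟩ : ∃ j, j = l⁻¹ * k := ⟨_, rfl⟩
        rw [← hj]
        have hj1 : (j : F) ≠ 1 := by
          intro h1
          apply h
          have : l⁻¹ * k = 1 := by rw [← hj]; exact Units.ext h1
          exact (eq_of_inv_mul_eq_one this).symm
        have hκ : (j : F) * th m (j : F) ≠ 1 := unit_th_ne m hj1
        let ψ : AddChar F ℂ := AddChar.mulShift χ ((j : F) * th m (j : F))⁻¹
        have hψ : ∀ b, op b (ρ (T m j) (w k : V)) = ψ b • ρ (T m j) (w k : V) := by
          intro b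
          exact T_Vc m ρ j (w k).2 b
        rw [Ei_eig op χ ψ hψ, if_neg]
        intro heq
        apply hχ
        -- χ(b) = χ(κ⁻¹ b) for all b
        have hκ0 : (j : F) * th m (j : F) ≠ 0 := mul_ne_zero j.ne_zero (fun h => j.ne_zero ((th_eq_zero m).1 h))
        have h5 : (1 : F) + ((j : F) * th m (j : F))⁻¹ ≠ 0 := by
          intro h6
          apply hκ
          have h7 := eq_of_add_zero m h6
          rw [← _root_.inv_inj, _root_.inv_one]
          exact h7.symm
        ext b
        have h6 : χ ((1 + ((j : F) * th m (j : F))⁻¹) * (b * (1 + ((j : F) * th m (j : F))⁻¹)⁻¹)) = 1 := by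
          rw [add_mul, AddChar.map_add_eq_mul, one_mul]
          have h7 : χ (((j : F) * th m (j : F))⁻¹ * (b * (1 + ((j : F) * th m (j : F))⁻¹)⁻¹)) = χ (b * (1 + ((j : F) * th m (j : F))⁻¹)⁻¹) := by
            have := congrArg (fun z : AddChar F ℂ => z (b * (1 + ((j : F) * th m (j : F))⁻¹)⁻¹)) heq
            exact this.symm
          rw [h7]
          exact chi_two m χ _
        rw [mul_left_comm, mul_inv_cancel₀ h5, mul_one] at h6
        rw [h6]; rfl
    rw [Finset.sum_congr rfl h4, Finset.sum_ite_eq' Finset.univ l, if_pos (Finset.mem_univ _)]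
  have h4 := LinearMap.finrank_le_finrank_of_surjective hΦ
  rw [Module.finrank_pi_fintype, Finset.sum_const, Finset.card_univ, smul_eq_mul, ← Nat.card_eq_fintype_card, card_units (F := F) m] at h4
  calc 2 ^ m * (2 ^ (2 * m + 1) - 1) = (2 ^ (2 * m + 1) - 1) * 2 ^ m := mul_comm _ _
    _ ≤ (2 ^ (2 * m + 1) - 1) * Module.finrank ℂ (Vc m ρ χ) := Nat.mul_le_mul_left _ h3
    _ ≤ _ := h4

end rep

end Cfsg.Agent.H8.Suz
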