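import Mathlib
import Cfsg.Agent.H8.SzR
import Cfsg.Agent.H8.AutI
import Cfsg.Prelude.Def_KGroupFacts

set_option autoImplicit false

namespace Cfsg.Agent.H8.Suz

open Matrix Cfsg.Agent.H8.TI
open scoped Pointwise

variable {F : Type*} [Field F] [Fintype F] (m : ℕ) [H : Hyp F m]

theorem InS_map (σ : F ≃+* F) {A : Matrix (Fin 4) (Fin 4) F} (hA : InS m A) : InS m (A.map σ) := by
  obtain ⟨h1, h2⟩ := hA
  constructor
  · have h3 : Aᵀ * Wm F * A = Wm F := h1
    have hW : (Wm F).map σ = Wm F := by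
      ext i j
      fin_cases i <;> fin_cases j <;> simp [Wm]
    show (A.map σ)ᵀ * Wm F * A.map σ = Wm F
    calc (A.map σ)ᵀ * Wm F * A.map σ = (A.map σ)ᵀ * (Wm F).map σ * A.map σ := by rw [hW]
      _ = (Aᵀ * Wm F * A).map σ := by
        rw [Matrix.map_mul, Matrix.map_mul, Matrix.transpose_map]
      _ = Wm F := by rw [h3, hW]
  · ext i j
    have h4 := congrFun (congrFun h2 i) j
    rw [star4_apply] at h4 ⊢
    have h5 : mn (A.map σ) (Cfsg.Lie.pairOf i).1 (Cfsg.Lie.pairOf i).2 (Cfsg.Lie.pairOf j).1 (Cfsg.Lie.pairOf j).2 = σ (mn A (Cfsg.Lie.pairOf i).1 (Cfsg.Lie.pairOf i).2 (Cfsg.Lie.pairOf j).1 (Cfsg.Lie.pairOf j).2) := by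
      unfold mn
      simp
    rw [h5, h4]
    simp

/-- field automorphisms act -/
def fa : (F ≃+* F) →* MulAut ↥(Cfsg.Sz F m) where
  toFun σ := {
    toFun := fun g => ⟨SpecialLinearGroup.map (σ : F →+* F) g.1, (mem_Sz_iff m _).2 (InS_map m σ (InS_mat m g))⟩
    invFun := fun g => ⟨SpecialLinearGroup.map (σ.symm : F →+* F) g.1, (mem_Sz_iff m _).2 (InS_map m σ.symm (InS_mat m g))⟩
    left_inv := by
      intro g
      apply Subtype.ext
      apply Subtype.ext
      ext i j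
      show σ.symm (σ (g.1 i j)) = g.1 i j
      exact σ.symm_apply_apply _
    right_inv := by
      intro g
      apply Subtype.ext
      apply Subtype.ext
      ext i j
      show σ (σ.symm (g.1 i j)) = g.1 i j
      exact σ.apply_symm_apply _
    map_mul' := by
      intro g h
      apply Subtype.ext
      exact map_mul (SpecialLinearGroup.map (σ : F →+* F)) g.1 h.1 }
  map_one' := by
    apply MulEquiv.ext
    intro g
    rfl
  map_mul' σ τ := by
    apply MulEquiv.ext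
    intro g
    rfl

theorem mat_fa (σ : F ≃+* F) (g : ↥(Cfsg.Sz F m)) : mat m (fa m σ g) = (mat m g).map σ := rfl

omit [Fintype F] H in
theorem sig_th (σ : F ≃+* F) (x : F) : σ (th m x) = th m (σ x) := map_pow σ x _
omit [Fintype F] H in
theorem sig_rh (σ : F ≃+* F) (x : F) : σ (rh m x) = rh m (σ x) := map_pow σ x _

theorem fa_U (σ : F ≃+* F) (a b : F) : fa m σ (U m a b) = U m (σ a) (σ b) := by
  apply mat_inj m
  rw [mat_fa, mat_U, mat_U]
  ext i j
  fin_cases i <;> fin_cases j <;> simp [Um, ff, sig_th]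

theorem fa_T (σ : F ≃+* F) (k : Fˣ) : fa m σ (T m k) = T m (Units.map (σ : F →* F) k) := by
  apply mat_inj m
  rw [mat_fa, mat_T, mat_T]
  ext i j
  fin_cases i <;> fin_cases j <;> simp [Hm, sig_rh]

theorem fa_W (σ : F ≃+* F) : fa m σ (W F m) = W F m := by
  apply mat_inj m
  rw [mat_fa, mat_W]
  ext i j
  fin_cases i <;> fin_cases j <;> simp [Wm]

theorem map_fin {G : Type*} [Group G] [Finite G] (β : MulAut G) (A : Subgroup G) (h : ∀ g ∈ A, β g ∈ A) {g : G} (hg : β g ∈ A) : g ∈ A := by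
  have h1 : A.map β.toMonoidHom ≤ A := by
    rintro _ ⟨x, hx, rfl⟩
    exact h x hx
  have h2 : A.map β.toMonoidHom = A := by
    apply Subgroup.eq_of_le_of_card_ge h1
    exact (Nat.card_congr (A.equivMapOfInjective _ β.injective).toEquiv).le
  rw [← h2] at hg
  obtain ⟨x, hx, hxg⟩ := hg
  have : x = g := β.injective hxg
  rwa [← this]

theorem T_notin_Q {k : Fˣ} (hk : (k : F) ≠ 1) : T m k ∉ Q F m := by
  intro h
  have h1 : T m k ≠ 1 := by
    intro h1
    rw [← map_one (T m)] at h1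
    exact hk (congrArg Units.val (T_inj m h1))
  exact op_ne_oi (F := F) m 0 0 (Q_fix m h h1 (T_op0 m k))

theorem norm_form (α : MulAut ↥(Cfsg.Sz F m)) : ∃ x : ↥(Cfsg.Sz F m), (∀ g ∈ Q F m, (MulAut.conj x * α) g ∈ Q F m) ∧ (∀ k : Fˣ, ∃ l : Fˣ, (MulAut.conj x * α) (T m k) = T m l) ∧
    (MulAut.conj x * α) (W F m) = W F m := by
  haveI := Fact.mk Nat.prime_two
  -- step 1
  obtain ⟨x, hx⟩ : ∃ x : ↥(Cfsg.Sz F m), ∀ g ∈ Q F m, x⁻¹ * α g * x ∈ Q F m := by
    have hp : IsPGroup 2 ((Q F m).map α.toMonoidHom) := (isPGroup_Q (F := F) m).map _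
    obtain ⟨P, hP⟩ := hp.exists_le_sylow
    obtain ⟨x, hx⟩ := sylow_conj m P
    refine ⟨x, fun g hg => ?_⟩
    rw [← mem_cj]
    have h1 : α g ∈ (P : Subgroup ↥(Cfsg.Sz F m)) := hP ⟨g, hg, rfl⟩
    rwa [hx] at h1
  obtain ⟨β, hβ⟩ : ∃ β : MulAut ↥(Cfsg.Sz F m), β = MulAut.conj x⁻¹ * α := ⟨_, rfl⟩
  have hβQ : ∀ g ∈ Q F m, β g ∈ Q F m := by
    intro g hg
    rw [hβ]
    show x⁻¹ * α g * x⁻¹⁻¹ ∈ Q F m
    rw [inv_inv]; exact hx g hg
  -- step 2
  obtain ⟨k0, hk0⟩ := exists_unit_ne (F := F) m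
  have hT0 : β (T m k0) ∈ B F m := by
    rw [← normalizer_Q, Subgroup.mem_normalizer_iff]
    intro h
    have h1 : β (T m k0) * h * (β (T m k0))⁻¹ = β (T m k0 * β.symm h * (T m k0)⁻¹) := by
      rw [map_mul, map_mul, map_inv, MulEquiv.apply_symm_apply]
    constructor
    · intro hh
      rw [h1]
      apply hβQ
      apply conj_Q m (T_mem_B m k0)
      apply map_fin β (Q F m) hβQ
      rw [MulEquiv.apply_symm_apply]; exact hh
    · intro hh
      rw [h1] at hh
      have h2 := map_fin β (Q F m) hβQ hh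
      have h3 := conj_Q m ((B F m).inv_mem (T_mem_B m k0)) h2
      have h4 : (T m k0)⁻¹ * (T m k0 * β.symm h * (T m k0)⁻¹) * (T m k0)⁻¹⁻¹ = β.symm h := by group
      rw [h4] at h3
      have h5 := hβQ _ h3
      rwa [MulEquiv.apply_symm_apply] at h5
  have hT1 : β (T m k0) ∉ Q F m := fun h => T_notin_Q m hk0 (map_fin β (Q F m) hβQ h)
  obtain ⟨a, b, l, hl, hT2⟩ := conj_T m hT0 hT1
  obtain ⟨γ, hγ⟩ : ∃ γ : MulAut ↥(Cfsg.Sz F m), γ = MulAut.conj (U m a b)⁻¹ * β := ⟨_, rfl⟩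
  have hγQ : ∀ g ∈ Q F m, γ g ∈ Q F m := by
    intro g hg
    rw [hγ]
    show (U m a b)⁻¹ * β g * (U m a b)⁻¹⁻¹ ∈ Q F m
    exact (Q F m).mul_mem ((Q F m).mul_mem ((Q F m).inv_mem (U_mem_Q m a b)) (hβQ g hg)) ((Q F m).inv_mem ((Q F m).inv_mem (U_mem_Q m a b)))
  have hγT0 : γ (T m k0) = T m l := by
    rw [hγ]
    show (U m a b)⁻¹ * β (T m k0) * (U m a b)⁻¹⁻¹ = _
    rw [hT2]; group
  have hγT : ∀ g ∈ TT F m, γ g ∈ TT F m := by
    rintro _ ⟨k, rfl⟩
    have h1 : γ (T m k) ∈ Subgroup.centralizer {T m l} := by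
      rw [Subgroup.mem_centralizer_singleton_iff, ← hγT0, ← map_mul, ← map_mul, ← map_mul, ← map_mul, mul_comm]
    rw [cent_T m hl] at h1
    exact h1
  -- step 3
  have hW0 : γ (W F m) ∈ Subgroup.normalizer (TT F m : Set ↥(Cfsg.Sz F m)) := by
    rw [Subgroup.mem_normalizer_iff]
    intro h
    have h1 : γ (W F m) * h * (γ (W F m))⁻¹ = γ (W F m * γ.symm h * (W F m)⁻¹) := by
      rw [map_mul, map_mul, map_inv, MulEquiv.apply_symm_apply]
    have hWT : ∀ g ∈ TT F m, W F m * g * (W F m)⁻¹ ∈ TT F m := by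
      rintro _ ⟨k, rfl⟩
      show W F m * T m k * (W F m)⁻¹ ∈ TT F m
      rw [T_conj_W]
      exact (TT F m).inv_mem ⟨k, rfl⟩
    constructor
    · intro hh
      rw [h1]
      apply hγT
      apply hWT
      apply map_fin γ (TT F m) hγT
      rw [MulEquiv.apply_symm_apply]; exact hh
    · intro hh
      rw [h1] at hh
      have h2 := map_fin γ (TT F m) hγT hh
      have h3 := hWT _ h2
      have h4 : W F m * (W F m * γ.symm h * (W F m)⁻¹) * (W F m)⁻¹ = γ.symm h := by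
        rw [W_inv]
        calc W F m * (W F m * γ.symm h * W F m) * W F m = (W F m * W F m) * γ.symm h * (W F m * W F m) := by group
          _ = _ := by rw [W_mul]; group
      rw [h4] at h3
      have h5 := hγT _ h3
      rwa [MulEquiv.apply_symm_apply] at h5
  rw [mem_norm_TT] at hW0
  rcases hW0 with ⟨k, hk⟩ | ⟨k, hk⟩
  · exfalso
    have h1 : γ (W F m) ∈ TT F m := by rw [hk]; exact ⟨k, rfl⟩
    obtain ⟨j, hj⟩ := map_fin γ (TT F m) hγT h1
    have h2 : T m j • oi F m = W F m • oi F m := by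
      have : (T m : Fˣ →* ↥(Cfsg.Sz F m)) j = W F m := hj
      rw [this]
    rw [T_oi, W_oi] at h2
    exact op_ne_oi (F := F) m 0 0 h2.symm
  · obtain ⟨ν, hν⟩ := unit_sq m k
    refine ⟨(T m ν)⁻¹ * ((U m a b)⁻¹ * x⁻¹), ?_, ?_, ?_⟩
    · intro g hg
      have h1 := conj_Q m ((B F m).inv_mem (T_mem_B m ν)) (hγQ g hg)
      have h2 : (MulAut.conj ((T m ν)⁻¹ * ((U m a b)⁻¹ * x⁻¹)) * α) g = (T m ν)⁻¹ * γ g * (T m ν)⁻¹⁻¹ := by
        rw [hγ, hβ]
        simp only [MulAut.mul_apply, MulAut.conj_apply]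
        group
      rw [h2]; exact h1
    · intro j
      obtain ⟨i, hi⟩ := hγT (T m j) ⟨j, rfl⟩
      refine ⟨i, ?_⟩
      have h2 : (MulAut.conj ((T m ν)⁻¹ * ((U m a b)⁻¹ * x⁻¹)) * α) (T m j) = (T m ν)⁻¹ * γ (T m j) * (T m ν)⁻¹⁻¹ := by
        rw [hγ, hβ]
        simp only [MulAut.mul_apply, MulAut.conj_apply]
        group
      rw [h2, ← hi, inv_inv, ← map_inv]
      show T m ν⁻¹ * T m i * T m ν = T m i
      rw [← map_mul, ← map_mul]
      congr 1
      rw [mul_comm ν⁻¹, inv_mul_cancel_right]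
    · have h2 : (MulAut.conj ((T m ν)⁻¹ * ((U m a b)⁻¹ * x⁻¹)) * α) (W F m) = (T m ν)⁻¹ * γ (W F m) * (T m ν)⁻¹⁻¹ := by
        rw [hγ, hβ]
        simp only [MulAut.mul_apply, MulAut.conj_apply]
        group
      rw [h2, hk, inv_inv, mul_assoc, mul_assoc, W_T, ← mul_assoc, ← mul_assoc, ← map_inv, ← map_mul, ← map_mul, hν]
      have : ν⁻¹ * ν ^ 2 * ν⁻¹ = 1 := by rw [sq]; group
      rw [this, map_one, one_mul]

include H in
theorem kth_inj {a b : F} (ha : a ≠ 0) (hb : b ≠ 0) (h : a * th m a = b * th m b) : a = b := by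
  by_contra hne
  have hk1 : ((Units.mk0 a ha)⁻¹ * Units.mk0 b hb : Fˣ) ≠ 1 := by
    intro h5
    apply hne
    have := eq_of_inv_mul_eq_one h5
    exact congrArg Units.val this
  have hk : a * th m a ≠ 0 := mul_ne_zero ha (fun h0 => ha ((th_eq_zero m).1 h0))
  apply unit_th_ne m (k := (Units.mk0 a ha)⁻¹ * Units.mk0 b hb) (fun h6 => hk1 (Units.ext h6))
  rw [Units.val_mul, Units.val_inv_eq_inv_val, Units.val_mk0, Units.val_mk0, th_mul, th_inv]
  have e : a⁻¹ * b * ((th m a)⁻¹ * th m b) = (a * th m a)⁻¹ * (b * th m b) := by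
    rw [mul_inv]; ring
  rw [e, ← h, inv_mul_cancel₀ hk]

/-- an automorphism fixing `T` and `W`, and preserving `Q`, acting on `Z` by a scalar, is trivial -/
theorem std_one (δ : MulAut ↥(Cfsg.Sz F m)) (hQ : ∀ g ∈ Q F m, δ g ∈ Q F m) (hT : ∀ k : Fˣ, δ (T m k) = T m k) (hW : δ (W F m) = W F m)
    {lam : F} (hZ : ∀ b : F, δ (U m 0 b) = U m 0 (lam * b)) : δ = 1 := by
  have h2 := (two0 m : (2 : F) = 0)
  have hU : ∀ a : F, ∃ p r : F, δ (U m a 0) = U m p r := fun a => hQ _ (U_mem_Q m a 0)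
  choose p r hpr using hU
  have hsc : ∀ (k : Fˣ) (a : F), p ((k : F) * a) = (k : F) * p a ∧ r ((k : F) * a) = (k : F) * th m (k : F) * r a := by
    intro k a
    have h1 : δ (T m k * U m a 0 * (T m k)⁻¹) = T m k * U m (p a) (r a) * (T m k)⁻¹ := by
      rw [map_mul, map_mul, map_inv, hT, hpr]
    rw [T_conj_U, T_conj_U, mul_zero, hpr] at h1
    exact U_inj m h1
  have hU0 : p 0 = 0 ∧ r 0 = 0 := by
    have h1 := hpr 0
    rw [U_zero, map_one, ← U_zero m] at h1
    have := U_inj m h1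
    exact ⟨this.1.symm, this.2.symm⟩
  obtain ⟨μ, hμ⟩ : ∃ μ, μ = p 1 := ⟨_, rfl⟩
  obtain ⟨ν, hν⟩ : ∃ ν, ν = r 1 := ⟨_, rfl⟩
  have hp : ∀ a, p a = μ * a := by
    intro a
    by_cases ha : a = 0
    · rw [ha, hU0.1, mul_zero]
    · have := (hsc (Units.mk0 a ha) 1).1
      rw [Units.val_mk0, mul_one] at this
      rw [this, hμ, mul_comm]
  have hr : ∀ a, r a = ν * (a * th m a) := by
    intro a
    by_cases ha : a = 0
    · rw [ha, hU0.2, zero_mul, mul_zero]
    · have := (hsc (Units.mk0 a ha) 1).2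
      rw [Units.val_mk0, mul_one] at this
      rw [this, hν, mul_comm]
  -- squares
  have hsq : μ * th m μ = lam := by
    have h1 : δ (U m 1 0 * U m 1 0) = U m (p 1) (r 1) * U m (p 1) (r 1) := by rw [map_mul, hpr]
    rw [U_sq, U_sq, hZ, th_one, mul_one, mul_one, ← hμ] at h1
    have := (U_inj m h1).2
    rw [this, mul_comm]
  have hμ0 : μ ≠ 0 := by
    intro h
    rw [h, zero_mul] at hsq
    have h1 : δ (U m 0 1) = 1 := by rw [hZ, ← hsq, zero_mul, U_zero]
    have h3 : U m (0 : F) 1 = 1 := δ.injective (h1.trans (map_one δ).symm)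
    rw [← U_zero m] at h3
    exact one_ne_zero (U_inj m h3).2
  -- the cocycle
  have hν0 : ν = 0 := by
    have hc : ∀ a : F, ν * (a + th m a) = 0 := by
      intro a
      have h1 : U m 1 0 * U m a 0 = U m (1 + a) 0 * U m 0 a := by
        rw [U_mul, U_mul, th_one, one_mul, mul_zero]
        congr 1
        · ring
        · ring
      have h3 := congrArg δ h1
      rw [map_mul, map_mul, hpr, hpr, hpr, hZ, U_mul, U_mul, hp, hp, hp, hr, hr, hr] at h3
      have h4 := (U_inj m h3).2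
      rw [th_one, mul_one, mul_one, mul_one, th_add, th_one, mul_zero, add_zero, ← hsq] at h4
      linear_combination (-1) * h4 + (ν + ν * a * th m a) * h2 * 0
    obtain ⟨y, h0, hy1⟩ := exists_ne01 (F := F) (by have := card_ge (F := F) m; omega)
    rcases mul_eq_zero.1 (hc y) with h | h
    · exact h
    · exfalso
      have h3 : y = th m y := eq_of_add_zero m h
      rcases th_eq_self m h3.symm with h | h
      · exact h0 h
      · exact hy1 h
  have hU1 : ∀ a b : F, δ (U m a b) = U m (μ * a) (lam * b) := by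
    intro a b
    have h1 : U m a b = U m a 0 * U m 0 b := by
      rw [U_mul, mul_zero, add_zero, add_zero, zero_add]
    rw [h1, map_mul, hpr, hZ, hp, hr, hν0, zero_mul, U_mul, mul_zero, add_zero, add_zero, zero_add]
  -- the relation with W
  have hlam0 : lam ≠ 0 := by
    rw [← hsq]
    exact mul_ne_zero hμ0 (fun h => hμ0 ((th_eq_zero m).1 h))
  have hrel : (W F m * (U m 1 0)⁻¹ * W F m * U m 0 1 * W F m) ∈ B F m := by
    rw [mem_B, mul_smul, mul_smul, mul_smul, mul_smul, W_oi, U_op0, W_op m (fun h => one_ne_zero h.2)]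
    have : ff m (0 : F) 1 = 1 := by
      unfold ff
      rw [th_zero, th_one]; ring
    rw [this, _root_.inv_one, mul_one, zero_mul, ← U_op0 m 1 0, inv_smul_smul, W_op0]
  have hB : ∀ g ∈ B F m, δ g ∈ B F m := by
    intro g hg
    obtain ⟨a, b, k, rfl⟩ := fix_oi m hg
    rw [map_mul, hU1, hT]
    exact (B F m).mul_mem (Q_le_B m (U_mem_Q m _ _)) (T_mem_B m k)
  have hrel2 := hB _ hrel
  rw [map_mul, map_mul, map_mul, map_mul, map_inv, hW, hU1, hU1, mul_one, mul_zero, mul_zero, mul_one] at hrel2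
  rw [mem_B, mul_smul, mul_smul, mul_smul, mul_smul, W_oi, U_op0, W_op m (fun h => hlam0 h.2)] at hrel2
  have hf : ff m (0 : F) lam = th m lam := by
    unfold ff
    rw [th_zero]; ring
  rw [hf, zero_mul] at hrel2
  have h5 : (U m μ 0)⁻¹ • op m (lam * (th m lam)⁻¹) 0 = op m 0 0 := by
    have h6 : W F m • (W F m • ((U m μ 0)⁻¹ • op m (lam * (th m lam)⁻¹) 0)) = W F m • oi F m := by rw [hrel2]
    rw [← mul_smul, W_mul, one_smul, W_oi] at h6
    exact h6
  rw [inv_smul_eq_iff, U_op0] at h5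
  have h6 := (op_inj m h5).1
  have hthm : th m lam ≠ 0 := fun h => hlam0 ((th_eq_zero m).1 h)
  have h7 : lam = μ * th m lam := by
    rw [← h6, inv_mul_cancel_right₀ hthm]
  have h8 : μ = 1 := by
    rw [← hsq, th_mul, th_th] at h7
    have hthμ : th m μ ≠ 0 := fun h => hμ0 ((th_eq_zero m).1 h)
    have h9 : μ * th m μ * (μ ^ 2 - 1) = 0 := by linear_combination (-1) * h7
    rcases mul_eq_zero.1 h9 with h | h
    · exact absurd h (mul_ne_zero hμ0 hthμ)
    · exact sq_inj m ((sub_eq_zero.1 h).trans (one_pow 2).symm)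
  have h9 : lam = 1 := by rw [← hsq, h8, th_one, one_mul]
  apply MulEquiv.ext
  intro g
  rw [MulAut.one_apply]
  have hUU : ∀ a b : F, δ (U m a b) = U m a b := by
    intro a b
    rw [hU1, h8, h9, one_mul, one_mul]
  rcases bruhat m g with ⟨a, b, k, rfl⟩ | ⟨a, b, c, d, k, rfl⟩
  · rw [map_mul, hUU, hT]
  · rw [map_mul, map_mul, map_mul, hUU, hUU, hT, hW]

theorem std_eq (δ : MulAut ↥(Cfsg.Sz F m)) (hQ : ∀ g ∈ Q F m, δ g ∈ Q F m) (hT : ∀ k : Fˣ, ∃ l : Fˣ, δ (T m k) = T m l) (hW : δ (W F m) = W F m) :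
    ∃ σ : F ≃+* F, δ = fa m σ := by
  choose K hK using hT
  have hZ : ∀ b : F, ∃ c : F, δ (U m 0 b) = U m 0 c := by
    intro b
    obtain ⟨c, hc⟩ := mem_Z_of_sq m (g := δ (U m 0 b)) (Q_le_B m (hQ _ (U_mem_Q m 0 b))) (by
      rw [← map_mul, U_sq, mul_zero, U_zero, map_one])
    exact ⟨c, hc⟩
  choose A hA using hZ
  have hAadd : ∀ b c, A (b + c) = A b + A c := by
    intro b c
    have h1 : δ (U m 0 b * U m 0 c) = U m 0 (A b) * U m 0 (A c) := by rw [map_mul, hA, hA]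
    rw [U_mul, U_mul, add_zero, mul_zero, add_zero, add_zero, hA] at h1
    exact (U_inj m h1).2
  have hA0 : A 0 = 0 := by
    have := hAadd 0 0
    rw [add_zero] at this
    exact left_eq_add.1 this
  have hAsc : ∀ (k : Fˣ) (b : F), A ((k : F) * th m (k : F) * b) = (K k : F) * th m (K k : F) * A b := by
    intro k b
    have h1 : δ (T m k * U m 0 b * (T m k)⁻¹) = T m (K k) * U m 0 (A b) * (T m (K k))⁻¹ := by
      rw [map_mul, map_mul, map_inv, hK, hA]
    rw [T_conj_U, T_conj_U, mul_zero, mul_zero, hA] at h1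
    exact (U_inj m h1).2
  have hAinj : Function.Injective A := by
    intro b c h
    have h1 : δ (U m 0 b) = δ (U m 0 c) := by rw [hA, hA, h]
    exact (U_inj m (δ.injective h1)).2
  have hl0 : A 1 ≠ 0 := by
    intro h
    exact one_ne_zero (hAinj (h.trans hA0.symm))
  let f : F →+* F := {
    toFun := fun x => A x * (A 1)⁻¹
    map_one' := mul_inv_cancel₀ hl0
    map_zero' := by rw [hA0, zero_mul]
    map_add' := by intro x y; rw [hAadd, add_mul]
    map_mul' := by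
      intro x y
      by_cases hx : x = 0
      · rw [hx, zero_mul, hA0, zero_mul, zero_mul]
      · obtain ⟨k, hk⟩ := exists_kth m (Units.mk0 x hx)
        rw [Units.val_mk0] at hk
        have h1 := hAsc k y
        have h3 := hAsc k 1
        rw [hk] at h1 h3
        rw [mul_one] at h3
        rw [h1, h3]
        field_simp }
  have hfb : Function.Bijective f := Finite.injective_iff_bijective.1 f.injective
  let σ : F ≃+* F := RingEquiv.ofBijective f hfb
  have hσ : ∀ x, σ x = A x * (A 1)⁻¹ := fun x => rfl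
  have hKσ : ∀ k : Fˣ, (K k : F) = σ k := by
    intro k
    apply kth_inj m (K k).ne_zero (fun h => k.ne_zero (σ.map_eq_zero_iff.1 h))
    have h1 := hAsc k 1
    rw [mul_one] at h1
    rw [← sig_th, ← map_mul, hσ, h1]
    field_simp
  refine ⟨σ, ?_⟩
  have h1 : δ * (fa m σ)⁻¹ = 1 := by
    rw [← map_inv]
    apply std_one m (δ * fa m σ⁻¹) (lam := A 1)
    · intro g hg
      obtain ⟨a, b, rfl⟩ := hg
      rw [MulAut.mul_apply, fa_U]
      exact hQ _ (U_mem_Q m _ _)
    · intro k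
      rw [MulAut.mul_apply, fa_T, hK]
      congr 1
      apply Units.ext
      rw [hKσ]
      show σ (σ⁻¹ (k : F)) = k
      exact σ.apply_symm_apply _
    · rw [MulAut.mul_apply, fa_W, hW]
    · intro b
      rw [MulAut.mul_apply, fa_U, map_zero, hA]
      congr 1
      have h3 : σ (σ⁻¹ b) = b := σ.apply_symm_apply _
      rw [hσ] at h3
      rw [← h3, mul_comm (A 1), inv_mul_cancel_right₀ hl0, h3]
  rwa [mul_inv_eq_one] at h1

/-- **automorphisms of the Suzuki groups** -/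
theorem aut_eq (α : MulAut ↥(Cfsg.Sz F m)) : ∃ (x : ↥(Cfsg.Sz F m)) (σ : F ≃+* F), α = MulAut.conj x * fa m σ := by
  obtain ⟨x, h1, h2, h3⟩ := norm_form m α
  obtain ⟨σ, hσ⟩ := std_eq m _ h1 h2 h3
  refine ⟨x⁻¹, σ, ?_⟩
  rw [← hσ, map_inv, inv_mul_cancel_left]

theorem fa_inner {σ : F ≃+* F} {x : ↥(Cfsg.Sz F m)} (h : fa m σ = MulAut.conj x) : σ = 1 := by
  have hU : ∀ b : F, x * U m 0 b * x⁻¹ = U m 0 (σ b) := by
    intro b
    have := congrArg (fun z : MulAut ↥(Cfsg.Sz F m) => z (U m 0 b)) h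
    simp only [fa_U, map_zero, MulAut.conj_apply] at this
    exact this.symm
  have hW : x * W F m * x⁻¹ = W F m := by
    have := congrArg (fun z : MulAut ↥(Cfsg.Sz F m) => z (W F m)) h
    simp only [fa_W, MulAut.conj_apply] at this
    exact this.symm
  have h1 : x ∈ B F m := by
    rw [← normalizer_Q]
    apply TI_Q m x (U m 0 1) (U_mem_Q m 0 1)
    · rw [← U_zero m]
      intro h
      exact one_ne_zero (U_inj m h).2
    · rw [hU]; exact U_mem_Q m _ _
  have h2 : x • op m (0 : F) 0 = op m 0 0 := by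
    have h3 : x * W F m = W F m * x := mul_inv_eq_iff_eq_mul.1 hW
    rw [← W_oi, ← mul_smul, h3, mul_smul, (h1 : x • oi F m = oi F m)]
  obtain ⟨l, rfl⟩ := two_op m h1 h2
  have h3 : ∀ b : F, (l : F) * th m (l : F) * b = σ b := by
    intro b
    have := hU b
    rw [T_conj_U, mul_zero] at this
    exact (U_inj m this).2
  have h4 : (l : F) * th m (l : F) = 1 := by
    have := h3 1
    rwa [mul_one, map_one] at this
  ext b
  rw [← h3, h4, one_mul]; rfl

theorem card_out_eq {G L : Type*} [Group G] [Group L] (e : G ≃* L) : Nat.card (Cfsg.Out G) = Nat.card (Cfsg.Out L) := by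
  apply Nat.card_congr
  refine (QuotientGroup.congr (Cfsg.Inn G) (Cfsg.Inn L) (MulAut.congr e) ?_).toEquiv
  ext β
  constructor
  · rintro ⟨_, ⟨g, rfl⟩, rfl⟩
    refine ⟨e g, ?_⟩
    apply MulEquiv.ext
    intro y
    show e g * y * (e g)⁻¹ = e (g * e.symm y * g⁻¹)
    rw [map_mul, map_mul, map_inv, e.apply_symm_apply]
  · rintro ⟨g, rfl⟩
    refine ⟨MulAut.conj (e.symm g), ⟨_, rfl⟩, ?_⟩
    apply MulEquiv.ext
    intro y
    show e (e.symm g * e.symm y * (e.symm g)⁻¹) = g * y * g⁻¹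
    rw [map_mul, map_mul, map_inv, e.apply_symm_apply, e.apply_symm_apply]

theorem card_out : Nat.card (Cfsg.Out ↥(Cfsg.Sz F m)) = 2 * m + 1 := by
  haveI := Fact.mk Nat.prime_two
  have h1 := (Cfsg.Agent.H8.AutPSL.fieldAut F (p := 2) (f := 2 * m + 1) (by rw [Nat.card_eq_fintype_card, H.hF]) (by omega)).2
  rw [← h1]
  symm
  refine Nat.card_congr (Equiv.ofBijective (fun σ : F ≃+* F => (QuotientGroup.mk (fa m σ) : Cfsg.Out ↥(Cfsg.Sz F m))) ⟨?_, ?_⟩)
  · intro σ τ h
    have h2 := QuotientGroup.eq.1 h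
    rw [← map_inv, ← map_mul] at h2
    obtain ⟨x, hx⟩ := h2
    have := fa_inner m hx.symm
    exact (inv_mul_eq_one.1 this)
  · intro q
    obtain ⟨α, rfl⟩ := QuotientGroup.mk_surjective q
    obtain ⟨x, σ, rfl⟩ := aut_eq m α
    refine ⟨σ, ?_⟩
    apply QuotientGroup.eq.2
    refine ⟨(fa m σ)⁻¹ x, ?_⟩
    apply MulEquiv.ext
    intro y
    show (fa m σ)⁻¹ x * y * ((fa m σ)⁻¹ x)⁻¹ = (fa m σ)⁻¹ (x * (fa m σ y) * x⁻¹)
    rw [map_mul, map_mul, map_inv]
    congr 2
    exact ((fa m σ).symm_apply_apply y).symm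

end Cfsg.Agent.H8.Suz
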