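import Mathlib
import Cfsg.Agent.H8.SzP

set_option autoImplicit false

namespace Cfsg.Agent.H8.TI

variable {G : Type*} [Group G]

theorem isTI_subgroupOf {X : Subgroup G} (hX : IsTI X) (M : Subgroup G) : IsTI (X.subgroupOf M) := by
  intro x a ha ha1 hxa
  rw [Subgroup.mem_subgroupOf] at ha hxa
  have h1 : (x : G) ∈ Subgroup.normalizer (X : Set G) := hX x a ha (fun h => ha1 (Subtype.ext h)) hxa
  rw [Subgroup.mem_normalizer_iff] at h1 ⊢
  intro h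
  rw [Subgroup.mem_subgroupOf, Subgroup.mem_subgroupOf]
  exact h1 h

theorem norm_subgroupOf {X : Subgroup G} (hX : IsTI X) (M : Subgroup G) (h1 : ∃ a ∈ X, a ∈ M ∧ a ≠ 1) :
    Subgroup.normalizer ((X.subgroupOf M : Subgroup M) : Set M) = (Subgroup.normalizer (X : Set G)).subgroupOf M := by
  obtain ⟨a, haX, haM, ha1⟩ := h1
  ext x
  rw [Subgroup.mem_subgroupOf]
  constructor
  · intro hx
    rw [Subgroup.mem_normalizer_iff] at hx
    apply hX x a haX ha1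
    exact (hx ⟨a, haM⟩).1 haX
  · intro hx
    rw [Subgroup.mem_normalizer_iff] at hx ⊢
    intro h
    rw [Subgroup.mem_subgroupOf, Subgroup.mem_subgroupOf]
    exact hx h

/-- the index of the trace of a normalized subgroup divides -/
theorem ratio [Finite G] {X N : Subgroup G} (hXN : X ≤ N) (hN : N ≤ Subgroup.normalizer (X : Set G)) {c : ℕ} (hc : Nat.card N = c * Nat.card X) (M : Subgroup G) :
    ∃ n, n ∣ c ∧ Nat.card (N.subgroupOf M) = n * Nat.card (X.subgroupOf M) := by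
  haveI : (X.subgroupOf N).Normal := (Subgroup.normal_subgroupOf_iff_le_normalizer hXN).2 hN
  let ψ : (N.subgroupOf M) →* N := { toFun := fun x => ⟨x.1.1, x.2⟩, map_one' := rfl, map_mul' := fun _ _ => rfl }
  let φ : (N.subgroupOf M) →* N ⧸ (X.subgroupOf N) := (QuotientGroup.mk' _).comp ψ
  refine ⟨Nat.card φ.range, ?_, ?_⟩
  · have h1 : Nat.card φ.range ∣ Nat.card (N ⧸ (X.subgroupOf N)) := Subgroup.card_subgroup_dvd_card _
    have h2 : Nat.card (N ⧸ (X.subgroupOf N)) = c := by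
      have h3 := (X.subgroupOf N).card_mul_index
      have h4 : Nat.card (X.subgroupOf N) = Nat.card X := Nat.card_congr (Subgroup.subgroupOfEquivOfLe hXN).toEquiv
      rw [h4, hc] at h3
      have h5 : 0 < Nat.card X := Nat.card_pos
      rw [mul_comm] at h3
      exact Nat.eq_of_mul_eq_mul_right h5 h3
    rwa [h2] at h1
  · have h1 := φ.ker.card_mul_index
    rw [Subgroup.index_ker] at h1
    rw [← h1, mul_comm]
    congr 1
    refine Nat.card_congr ⟨fun x => ⟨x.1.1, ?_⟩, fun y => ⟨⟨y.1, hXN y.2⟩, ?_⟩, ?_, ?_⟩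
    · have h2 : φ x.1 = 1 := x.2
      have h3 : ψ x.1 ∈ X.subgroupOf N := (QuotientGroup.eq_one_iff _).1 h2
      exact h3
    · rw [MonoidHom.mem_ker]
      exact (QuotientGroup.eq_one_iff _).2 (show ψ _ ∈ X.subgroupOf N from y.2)
    · intro x; rfl
    · intro y; rfl

end Cfsg.Agent.H8.TI

namespace Cfsg.Agent.H8.Suz

open Matrix Cfsg.Agent.H8.TI
open scoped Pointwise

variable {F : Type*} [Field F] [Fintype F] (m : ℕ) [H : Hyp F m]

theorem isTI_cj {G : Type*} [Group G] {X : Subgroup G} (hX : IsTI X) (x : G) : IsTI (cj x X) := by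
  intro y a ha ha1 hya
  rw [mem_cj] at ha hya
  have h1 : x⁻¹ * a * x ≠ 1 := by
    intro h
    apply ha1
    have : a = x * (x⁻¹ * a * x) * x⁻¹ := by group
    rw [this, h]; group
  have h2 := hX (x⁻¹ * y * x) _ ha h1 (by
    have : x⁻¹ * y * x * (x⁻¹ * a * x) * (x⁻¹ * y * x)⁻¹ = x⁻¹ * (y * a * y⁻¹) * x := by group
    rwa [this])
  rw [Subgroup.mem_normalizer_iff] at h2 ⊢
  intro h
  rw [mem_cj, mem_cj]
  have h3 := h2 (x⁻¹ * h * x)
  have : x⁻¹ * y * x * (x⁻¹ * h * x) * (x⁻¹ * y * x)⁻¹ = x⁻¹ * (y * h * y⁻¹) * x := by group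
  rwa [this] at h3

theorem norm_cj {G : Type*} [Group G] (X : Subgroup G) (x : G) : Subgroup.normalizer ((cj x X : Subgroup G) : Set G) = cj x (Subgroup.normalizer (X : Set G)) :=
  (Subgroup.map_equiv_normalizer_eq X (MulAut.conj x)).symm

theorem comp2_TI {X : Subgroup ↥(Cfsg.Sz F m)} (hX : Comp2 m X) : IsTI X := by
  rcases hX with ⟨x, rfl⟩ | hX
  · exact isTI_cj (TI_T m) x
  · exact tor_TI m hX

theorem comp2_norm {X : Subgroup ↥(Cfsg.Sz F m)} (hX : Comp2 m X) : ∃ c, c ∣ 4 ∧ Nat.card (Subgroup.normalizer (X : Set ↥(Cfsg.Sz F m))) = c * Nat.card X := by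
  rcases hX with ⟨x, rfl⟩ | hX
  · refine ⟨2, by norm_num, ?_⟩
    rw [norm_cj, card_cj, card_cj, card_norm_TT, card_TT]
  · exact ⟨4, dvd_rfl, (tor_four m hX).1⟩

/-- elements of `M` of torus type -/
def RR (M : Subgroup ↥(Cfsg.Sz F m)) : Set ↥M := {y | ¬ ∃ x : ↥(Cfsg.Sz F m), x⁻¹ * (y : ↥(Cfsg.Sz F m)) * x ∈ Q F m}

theorem RR_ne {M : Subgroup ↥(Cfsg.Sz F m)} {y : ↥M} (hy : y ∈ RR m M) : y ≠ 1 := by
  rintro rfl
  exact hy ⟨1, by simp [Subgroup.one_mem]⟩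

theorem RR_comp {M : Subgroup ↥(Cfsg.Sz F m)} {y : ↥M} (hy : y ∈ RR m M) : Comp2 m (Subgroup.centralizer {(y : ↥(Cfsg.Sz F m))}) := by
  rcases trich m (y : ↥(Cfsg.Sz F m)) with h | ⟨x, k, hk, hx⟩ | h
  · exact absurd h hy
  · rw [hx, cent_conj_T m hk]; exact Or.inl ⟨x, rfl⟩
  · exact Or.inr ⟨_, h, rfl⟩

/-- a class of tori of `M` -/
structure IsCls (M : Subgroup ↥(Cfsg.Sz F m)) (X : Subgroup ↥(Cfsg.Sz F m)) (n a : ℕ) : Prop where
  comp : Comp2 m X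
  ne : ∃ g ∈ X, g ∈ M ∧ g ≠ 1
  card : Nat.card (X.subgroupOf M) = a
  norm : Nat.card (Subgroup.normalizer ((X.subgroupOf M : Subgroup M) : Set M)) = n * a
  dvd : n ∣ 4
  five : 5 ≤ a
  odd : Odd a
  three : ¬ 3 ∣ a
  cov : Nat.card (cov (X.subgroupOf M)) * (n * a) = Nat.card M * (a - 1)

theorem exists_cls {M X : Subgroup ↥(Cfsg.Sz F m)} (hX : Comp2 m X) (h1 : ∃ g ∈ X, g ∈ M ∧ g ≠ 1) : ∃ n a, IsCls m M X n a := by
  obtain ⟨c, hc4, hc⟩ := comp2_norm m hX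
  obtain ⟨n, hn, hn2⟩ := ratio (Subgroup.le_normalizer (H := X)) le_rfl hc M
  have hTI := comp2_TI m hX
  have hN := norm_subgroupOf hTI M h1
  have hodd : Odd (Nat.card (X.subgroupOf M)) := by
    have h2 : Nat.card (X.subgroupOf M) ∣ Nat.card X := by
      have : Nat.card (X.subgroupOf M) = Nat.card (X ⊓ M : Subgroup _) :=
        Nat.card_congr ⟨fun x => ⟨x.1.1, x.2, x.1.2⟩, fun y => ⟨⟨y.1, y.2.2⟩, y.2.1⟩, fun _ => rfl, fun _ => rfl⟩
      rw [this]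
      exact Subgroup.card_dvd_of_le inf_le_left
    exact (S3_odd (F := F) m (comp2_card m hX)).of_dvd_nat h2
  have h3 : ¬ 3 ∣ Nat.card (X.subgroupOf M) := by
    intro h
    apply not3 (F := F) m
    exact h.trans ((Subgroup.card_subgroup_dvd_card _).trans (Subgroup.card_subgroup_dvd_card M))
  have h5 : 5 ≤ Nat.card (X.subgroupOf M) := by
    have h6 : Nat.card (X.subgroupOf M) ≠ 1 := by
      intro h
      obtain ⟨g, hgX, hgM, hg1⟩ := h1
      have h7 : X.subgroupOf M = ⊥ := Subgroup.card_eq_one.1 h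
      have h8 : (⟨g, hgM⟩ : M) ∈ X.subgroupOf M := hgX
      rw [h7, Subgroup.mem_bot] at h8
      exact hg1 (congrArg Subtype.val h8)
    have h7 : 0 < Nat.card (X.subgroupOf M) := Nat.card_pos
    generalize Nat.card (X.subgroupOf M) = a at *
    obtain ⟨j, hj⟩ := hodd
    omega
  refine ⟨n, Nat.card (X.subgroupOf M), hX, h1, rfl, ?_, hn.trans hc4, h5, hodd, h3, ?_⟩
  · rw [hN, hn2]
  · have := card_cov (X.subgroupOf M) (isTI_subgroupOf hTI M)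
    rwa [hN, hn2] at this

theorem cls_sub {M X : Subgroup ↥(Cfsg.Sz F m)} {n a : ℕ} (h : IsCls m M X n a) : cov (X.subgroupOf M) ⊆ RR m M := by
  rintro y ⟨hy1, x, hx⟩ ⟨z, hz⟩
  have h1 : ((x⁻¹ * y * x : M) : ↥(Cfsg.Sz F m)) ≠ 1 := by
    intro h
    apply hy1
    have h2 : x⁻¹ * y * x = 1 := Subtype.ext h
    have : y = x * (x⁻¹ * y * x) * x⁻¹ := by group
    rw [this, h2]; group
  apply comp2_not_unip m h.comp hx h1
  refine ⟨(x : ↥(Cfsg.Sz F m))⁻¹ * z, ?_⟩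
  have : ((x : ↥(Cfsg.Sz F m))⁻¹ * z)⁻¹ * ((x⁻¹ * y * x : M) : ↥(Cfsg.Sz F m)) * ((x : ↥(Cfsg.Sz F m))⁻¹ * z) = z⁻¹ * y * z := by
    push_cast
    group
  have h3 : ((x : ↥(Cfsg.Sz F m))⁻¹ * z)⁻¹ * ((x⁻¹ * y * x : M) : ↥(Cfsg.Sz F m)) * ((x : ↥(Cfsg.Sz F m))⁻¹ * z) ∈ Q F m := by rw [this]; exact hz
  exact h3

theorem cls_disj {M X Y : Subgroup ↥(Cfsg.Sz F m)} {n a n' a' : ℕ} (hX : IsCls m M X n a) (hY : IsCls m M Y n' a') {h : ↥M} (hhY : (h : ↥(Cfsg.Sz F m)) ∈ Y) (hh1 : h ≠ 1)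
    (hh : h ∉ cov (X.subgroupOf M)) : Disjoint (cov (X.subgroupOf M)) (cov (Y.subgroupOf M)) := by
  rw [Set.disjoint_left]
  rintro w ⟨hw1, x, hx⟩ ⟨-, y, hy⟩
  apply hh
  refine ⟨hh1, y⁻¹ * x, ?_⟩
  have hne : ∀ z : M, ((z⁻¹ * w * z : M) : ↥(Cfsg.Sz F m)) ≠ 1 := by
    intro z h
    apply hw1
    have h2 : z⁻¹ * w * z = 1 := Subtype.ext h
    have : w = z * (z⁻¹ * w * z) * z⁻¹ := by group
    rw [this, h2]; group
  have h1 := comp2_cent m hX.comp hx (hne x)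
  have h2 := comp2_cent m hY.comp hy (hne y)
  rw [Subgroup.mem_subgroupOf, h1, Subgroup.mem_centralizer_singleton_iff]
  rw [h2, Subgroup.mem_centralizer_singleton_iff] at hhY
  have h3 : h * (y⁻¹ * w * y) = (y⁻¹ * w * y) * h := Subtype.ext hhY
  have h4 : (y⁻¹ * x)⁻¹ * h * (y⁻¹ * x) * (x⁻¹ * w * x) = (x⁻¹ * w * x) * ((y⁻¹ * x)⁻¹ * h * (y⁻¹ * x)) := by
    calc (y⁻¹ * x)⁻¹ * h * (y⁻¹ * x) * (x⁻¹ * w * x) = x⁻¹ * y * (h * (y⁻¹ * w * y)) * y⁻¹ * x := by group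
      _ = x⁻¹ * y * ((y⁻¹ * w * y) * h) * y⁻¹ * x := by rw [h3]
      _ = _ := by group
  exact congrArg Subtype.val h4

/-- unions of classes -/
def Closed (M : Subgroup ↥(Cfsg.Sz F m)) (S : Set ↥M) : Prop := S ⊆ RR m M ∧ ∀ h ∈ RR m M, h ∉ S → ∃ X n a, IsCls m M X n a ∧ Disjoint S (cov (X.subgroupOf M)) ∧ h ∈ cov (X.subgroupOf M)

theorem closed_empty (M : Subgroup ↥(Cfsg.Sz F m)) : Closed m M ∅ := by
  refine ⟨Set.empty_subset _, ?_⟩
  intro h hh _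
  have hc := RR_comp m hh
  obtain ⟨n, a, hcls⟩ := exists_cls m (M := M) hc ⟨h, mem_cent_self _, h.2, fun h1 => RR_ne m hh (Subtype.ext h1)⟩
  refine ⟨_, n, a, hcls, Set.empty_disjoint _, RR_ne m hh, 1, ?_⟩
  rw [_root_.inv_one, one_mul, mul_one]
  exact mem_cent_self _

theorem closed_union {M X : Subgroup ↥(Cfsg.Sz F m)} {S : Set ↥M} (hS : Closed m M S) {n a : ℕ} (hX : IsCls m M X n a) : Closed m M (S ∪ cov (X.subgroupOf M)) := by
  refine ⟨Set.union_subset hS.1 (cls_sub m hX), ?_⟩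
  intro h hh hhS
  rw [Set.mem_union, not_or] at hhS
  obtain ⟨Y, n', a', hY, hd, hhY⟩ := hS.2 h hh hhS.1
  refine ⟨Y, n', a', hY, ?_, hhY⟩
  rw [Set.disjoint_union_left]
  refine ⟨hd, ?_⟩
  -- use a conjugate of h in Y
  obtain ⟨hh1, x, hx⟩ := hhY
  apply cls_disj m hX hY (h := x⁻¹ * h * x) hx
  · intro h2
    apply hh1
    have : h = x * (x⁻¹ * h * x) * x⁻¹ := by group
    rw [this, h2]; group
  · rintro ⟨-, y, hy⟩
    apply hhS.2
    refine ⟨hh1, x * y, ?_⟩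
    have : (x * y)⁻¹ * h * (x * y) = y⁻¹ * (x⁻¹ * h * x) * y := by group
    rwa [this]

end Cfsg.Agent.H8.Suz
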