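import Mathlib
import Cfsg.Agent.H8.SzS
import Cfsg.Agent.H8.SzOut

set_option autoImplicit false

namespace Cfsg.Agent.H8.Suz

open Matrix Cfsg.Agent.H8.TI
open scoped Pointwise

variable {F : Type*} [Field F] [Fintype F] (m : ℕ) [H : Hyp F m]

theorem conj_ne {G : Type*} [Group G] {x g : G} (h : g ≠ 1) : x⁻¹ * g * x ≠ 1 := by
  intro h1
  apply h
  have : g = x * (x⁻¹ * g * x) * x⁻¹ := by group
  rw [this, h1]; group

theorem invol_unip {t : ↥(Cfsg.Sz F m)} (ht : t * t = 1) (h1 : t ≠ 1) : ∃ x b, x⁻¹ * t * x = U m 0 b := by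
  have h2 : ∃ x, x⁻¹ * t * x ∈ Q F m := by
    by_contra hcon
    obtain ⟨-, h3⟩ := cent_tor m hcon
    have h4 := S3_odd (F := F) m h3
    have h5 : t ^ Nat.card (Subgroup.centralizer {t}) = 1 := congrArg Subtype.val (pow_card_eq_one' (G := Subgroup.centralizer {t}) (x := ⟨t, mem_cent_self t⟩))
    obtain ⟨n, hn⟩ := h4
    rw [hn, pow_add, pow_mul, sq, ht, one_pow, one_mul, pow_one] at h5
    exact h1 h5
  obtain ⟨x, hx⟩ := h2
  obtain ⟨b, hb⟩ := mem_Z_of_sq m (g := x⁻¹ * t * x) (Q_le_B m hx) (by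
    have : x⁻¹ * t * x * (x⁻¹ * t * x) = x⁻¹ * (t * t) * x := by group
    rw [this, ht]; group)
  exact ⟨x, b, hb⟩

theorem invol_fix {t : ↥(Cfsg.Sz F m)} (ht : t * t = 1) (h1 : t ≠ 1) : ∃ p : Om F m, t • p = p ∧ ∀ q, t • q = q → q = p := by
  obtain ⟨x, b, hx⟩ := invol_unip m ht h1
  have hne : x⁻¹ * t * x ≠ 1 := conj_ne h1
  refine ⟨x • oi F m, ?_, ?_⟩
  · have : (x⁻¹ * t * x) • oi F m = oi F m := by rw [hx]; exact U_oi m 0 b
    rw [mul_smul, mul_smul, inv_smul_eq_iff] at this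
    exact this
  · intro q hq
    have h2 : (x⁻¹ * t * x) • (x⁻¹ • q) = x⁻¹ • q := by
      rw [mul_smul, mul_smul, smul_inv_smul, hq]
    have h3 := Q_fix m (g := x⁻¹ * t * x) (by rw [hx]; exact U_mem_Q m 0 b) hne h2
    rw [← h3, smul_inv_smul]

theorem inv_conj {t₁ t₂ : ↥(Cfsg.Sz F m)} (h1 : t₁ * t₁ = 1) (h2 : t₂ * t₂ = 1) (n1 : t₁ ≠ 1) (n2 : t₂ ≠ 1) {p : Om F m} (hp : t₁ • p = p) (hp2 : t₂ • p ≠ p) :
    ∃ j : ℕ, (t₁ * t₂) ^ j * t₁ * ((t₁ * t₂) ^ j)⁻¹ = t₂ := by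
  obtain ⟨w, hw⟩ : ∃ w, w = t₁ * t₂ := ⟨_, rfl⟩
  rw [← hw]
  have i1 : t₁⁻¹ = t₁ := inv_eq_of_mul_eq_one_left h1
  have i2 : t₂⁻¹ = t₂ := inv_eq_of_mul_eq_one_left h2
  have hwi : w⁻¹ = t₂ * t₁ := by rw [hw, _root_.mul_inv_rev, i1, i2]
  have c1 : t₁ * w⁻¹ = w * t₁ := by rw [hwi, hw]; group
  have c2 : t₂ * w⁻¹ = w * t₂ := by
    rw [hwi, hw]
    calc t₂ * (t₂ * t₁) = (t₂ * t₂) * t₁ := by group
      _ = t₁ * (t₂ * t₂) := by rw [h2]; group
      _ = _ := by group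
  have cp1 : ∀ j : ℕ, t₁ * (w ^ j)⁻¹ = w ^ j * t₁ := by
    intro j
    induction j with
    | zero => simp
    | succ j ih => rw [pow_succ, _root_.mul_inv_rev, ← mul_assoc, c1, mul_assoc, ih, ← mul_assoc, ← pow_succ', pow_succ]
  have cp2 : ∀ j : ℕ, t₂ * (w ^ j)⁻¹ = w ^ j * t₂ := by
    intro j
    induction j with
    | zero => simp
    | succ j ih => rw [pow_succ, _root_.mul_inv_rev, ← mul_assoc, c2, mul_assoc, ih, ← mul_assoc, ← pow_succ', pow_succ]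
  have hodd : Odd (orderOf w) := by
    by_contra hev
    rw [Nat.not_odd_iff_even] at hev
    obtain ⟨c, hc⟩ := hev
    have hpos : 0 < orderOf w := orderOf_pos w
    obtain ⟨v, hv⟩ : ∃ v, v = w ^ c := ⟨_, rfl⟩
    have hvv : v * v = 1 := by rw [hv, ← pow_add, ← hc, pow_orderOf_eq_one]
    have hv1 : v ≠ 1 := by
      intro h
      rw [hv] at h
      have := orderOf_dvd_of_pow_eq_one h
      have := Nat.le_of_dvd (by omega) this
      omega
    have iv : v⁻¹ = v := inv_eq_of_mul_eq_one_left hvv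
    have d1 : t₁ * v = v * t₁ := by
      have := cp1 c
      rwa [← hv, iv] at this
    have d2 : t₂ * v = v * t₂ := by
      have := cp2 c
      rwa [← hv, iv] at this
    obtain ⟨q, hq, hqu⟩ := invol_fix m hvv hv1
    have e1 : t₁ • q = q := hqu _ (by rw [← mul_smul, ← d1, mul_smul, hq])
    have e2 : t₂ • q = q := hqu _ (by rw [← mul_smul, ← d2, mul_smul, hq])
    obtain ⟨p', hp', hpu⟩ := invol_fix m h1 n1
    have e3 : q = p := (hpu q e1).trans (hpu p hp).symm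
    rw [e3] at e2
    exact hp2 e2
  obtain ⟨c, hc⟩ := hodd
  refine ⟨c, ?_⟩
  rw [mul_assoc, cp1, ← mul_assoc, ← pow_add]
  have : w ^ (c + c) = w⁻¹ := by
    rw [eq_inv_iff_mul_eq_one, ← pow_succ, ← two_mul, ← hc, pow_orderOf_eq_one]
  rw [this, hwi, mul_assoc, h1, mul_one]

/-- the standing assumptions: an involution at infinity and one elsewhere -/
structure Core (M : Subgroup ↥(Cfsg.Sz F m)) : Prop where
  one : U m 0 1 ∈ M
  two : ∃ t ∈ M, t * t = 1 ∧ t ≠ 1 ∧ t • oi F m ≠ oi F m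

theorem U01_ne : U m (0 : F) 1 ≠ 1 := by
  rw [← U_zero m]
  exact fun h => one_ne_zero (U_inj m h).2

theorem U0_mul (b c : F) : U m 0 b * U m 0 c = U m 0 (b + c) := by
  rw [U_mul, add_zero, mul_zero, add_zero]

theorem U0_sq' (b : F) : U m 0 b * U m 0 b = 1 := by rw [U_sq, mul_zero, U_zero]

theorem core_conj {M : Subgroup ↥(Cfsg.Sz F m)} (hM : Core m M) {t : ↥(Cfsg.Sz F m)} (ht : t ∈ M) (h1 : t * t = 1) (h2 : t ≠ 1) :
    ∃ w ∈ M, w * t * w⁻¹ = U m 0 1 := by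
  have key : ∀ t ∈ M, t * t = 1 → t ≠ 1 → t • oi F m ≠ oi F m → ∃ w ∈ M, w * t * w⁻¹ = U m 0 1 := by
    intro t ht h1 h2 h3
    obtain ⟨j, hj⟩ := inv_conj m (U0_sq' m 1) h1 (U01_ne m) h2 (U_oi m 0 1) h3
    obtain ⟨y, hyM, hy⟩ : ∃ y ∈ M, y * U m 0 1 * y⁻¹ = t := ⟨_, M.pow_mem (M.mul_mem hM.one ht) j, hj⟩
    refine ⟨y⁻¹, M.inv_mem hyM, ?_⟩
    rw [← hy]; group
  by_cases h3 : t • oi F m = oi F m
  · obtain ⟨s, hs, s1, s2, s3⟩ := hM.two
    obtain ⟨j, hj⟩ := inv_conj m h1 s1 h2 s2 h3 s3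
    obtain ⟨w, hw, hw2⟩ := key s hs s1 s2 s3
    obtain ⟨y, hyM, hy⟩ : ∃ y ∈ M, y * t * y⁻¹ = s := ⟨_, M.pow_mem (M.mul_mem ht hs) j, hj⟩
    refine ⟨w * y, M.mul_mem hw hyM, ?_⟩
    rw [← hw2, ← hy]; group
  · exact key t ht h1 h2 h3

theorem conj_U0 (p q : F) (k : Fˣ) (b : F) : U m p q * T m k * U m 0 b * (U m p q * T m k)⁻¹ = U m 0 ((k : F) * th m (k : F) * b) := by
  have : U m p q * T m k * U m 0 b * (U m p q * T m k)⁻¹ = U m p q * (T m k * U m 0 b * (T m k)⁻¹) * (U m p q)⁻¹ := by group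
  rw [this, T_conj_U, mul_zero, mul_inv_eq_iff_eq_mul, U_mul, U_mul, add_zero, zero_add, mul_zero, add_zero, th_zero, zero_mul, add_zero, add_comm q]

/-- the subfield attached to `M` -/
theorem core_field {M : Subgroup ↥(Cfsg.Sz F m)} (hM : Core m M) : ∃ K : Subfield F, (∀ b, b ∈ K ↔ U m 0 b ∈ M) ∧
    (∀ a ∈ K, a ≠ 0 → ∃ p q : F, ∃ k : Fˣ, (k : F) * th m (k : F) = a ∧ U m p q * T m k ∈ M) ∧
    (∀ p q : F, ∀ k : Fˣ, U m p q * T m k ∈ M → (k : F) * th m (k : F) ∈ K) := by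
  have h1 : ∀ a : F, a ≠ 0 → U m 0 a ∈ M → ∃ p q : F, ∃ k : Fˣ, (k : F) * th m (k : F) = a ∧ U m p q * T m k ∈ M := by
    intro a ha haM
    have hne : U m 0 a ≠ 1 := by
      rw [← U_zero m]
      exact fun h => ha (U_inj m h).2
    obtain ⟨w, hw, hw2⟩ := core_conj m hM haM (U0_sq' m a) hne
    have hB : w⁻¹ • oi F m = oi F m := by
      apply Q_fix m (U_mem_Q m 0 a) hne
      have : U m 0 a = w⁻¹ * U m 0 1 * w := by rw [← hw2]; group
      rw [this, mul_smul, mul_smul, smul_inv_smul, U_oi]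
    obtain ⟨p, q, k, hk⟩ := fix_oi m hB
    refine ⟨p, q, k, ?_, by rw [← hk]; exact M.inv_mem hw⟩
    have h2 := conj_U0 m p q k 1
    rw [← hk, ← hw2, mul_one] at h2
    have h3 : w⁻¹ * (w * U m 0 a * w⁻¹) * w⁻¹⁻¹ = U m 0 a := by group
    rw [h3] at h2
    exact (U_inj m h2).2.symm
  have h2 : ∀ p q : F, ∀ k : Fˣ, U m p q * T m k ∈ M → ∀ b, U m 0 b ∈ M → U m 0 ((k : F) * th m (k : F) * b) ∈ M := by
    intro p q k hk b hb
    rw [← conj_U0 m p q k b]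
    exact M.mul_mem (M.mul_mem hk hb) (M.inv_mem hk)
  have hkinv : ∀ k : Fˣ, ((k⁻¹ : Fˣ) : F) * th m ((k⁻¹ : Fˣ) : F) = ((k : F) * th m (k : F))⁻¹ := by
    intro k
    rw [Units.val_inv_eq_inv_val, th_inv, mul_inv]
  obtain ⟨K, hK⟩ := subfield_of (F := F) m {b | U m 0 b ∈ M} (by show U m 0 0 ∈ M; rw [U_zero]; exact M.one_mem) hM.one
    (by
      intro x hx y hy
      show U m 0 (x + y) ∈ M
      rw [← U0_mul]
      exact M.mul_mem hx hy)
    (by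
      intro x hx y hy hy0
      show U m 0 (x * y⁻¹) ∈ M
      obtain ⟨p, q, k, hk, hkM⟩ := h1 y hy0 hy
      have h3 : U m 0 (((k : F) * th m (k : F))⁻¹ * x) ∈ M := by
        have h4 : (U m p q * T m k)⁻¹ * U m 0 x * (U m p q * T m k)⁻¹⁻¹ = U m 0 (((k : F) * th m (k : F))⁻¹ * x) := by
          have hk0 : (k : F) * th m (k : F) ≠ 0 := by rw [hk]; exact hy0
          have h5 := conj_U0 m p q k (((k : F) * th m (k : F))⁻¹ * x)
          rw [mul_inv_cancel_left₀ hk0] at h5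
          rw [← h5]; group
        rw [← h4]
        exact M.mul_mem (M.mul_mem (M.inv_mem hkM) hx) (M.inv_mem (M.inv_mem hkM))
      rw [hk, mul_comm] at h3
      exact h3)
  have hKm : ∀ b, b ∈ K ↔ U m 0 b ∈ M := by
    intro b
    show b ∈ (K : Set F) ↔ _
    rw [hK]; rfl
  refine ⟨K, hKm, ?_, ?_⟩
  · intro a ha ha0
    exact h1 a ha0 ((hKm a).1 ha)
  · intro p q k hk
    have := h2 p q k hk 1 hM.one
    rw [mul_one] at this
    exact (hKm _).2 this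

theorem th_mem (K : Subfield F) {x : F} (hx : x ∈ K) : th m x ∈ K := K.pow_mem hx _
theorem rh_mem (K : Subfield F) {x : F} (hx : x ∈ K) : rh m x ∈ K := K.pow_mem hx _

theorem kth_mem (K : Subfield F) {x : F} (hx : x * th m x ∈ K) : x ∈ K := by
  by_cases h0 : x = 0
  · rw [h0]; exact K.zero_mem
  have hx0 : x * th m x ≠ 0 := mul_ne_zero h0 (fun h => h0 ((th_eq_zero m).1 h))
  let f : {y : K // y ≠ 0} → {y : K // y ≠ 0} := fun y => ⟨⟨(y.1 : F) * th m (y.1 : F), K.mul_mem y.1.2 (th_mem m K y.1.2)⟩, by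
    intro h
    have h1 : (y.1 : F) * th m (y.1 : F) = 0 := congrArg Subtype.val h
    have hy : (y.1 : F) ≠ 0 := fun h => y.2 (Subtype.ext h)
    rcases mul_eq_zero.1 h1 with h2 | h2
    · exact hy h2
    · exact hy ((th_eq_zero m).1 h2)⟩
  have hf : Function.Injective f := by
    intro y z h
    have h1 : (y.1 : F) * th m (y.1 : F) = (z.1 : F) * th m (z.1 : F) := congrArg (fun w => (w.1 : F)) h
    have hy : (y.1 : F) ≠ 0 := fun h => y.2 (Subtype.ext h)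
    have hz : (z.1 : F) ≠ 0 := fun h => z.2 (Subtype.ext h)
    exact Subtype.ext (Subtype.ext (kth_inj m hy hz h1))
  obtain ⟨y, hy⟩ := Finite.surjective_of_injective hf ⟨⟨_, hx⟩, fun h => hx0 (congrArg Subtype.val h)⟩
  have h1 : (y.1 : F) * th m (y.1 : F) = x * th m x := congrArg (fun w => (w.1 : F)) hy
  have hy0 : (y.1 : F) ≠ 0 := fun h => y.2 (Subtype.ext h)
  rw [← kth_inj m hy0 h0 h1]
  exact y.1.2

end Cfsg.Agent.H8.Suz
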