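import Mathlib
import Cfsg.Agent.H8.SzS2

set_option autoImplicit false

namespace Cfsg.Agent.H8.Suz

open Matrix Cfsg.Agent.H8.TI
open scoped Pointwise

variable {F : Type*} [Field F] [Fintype F] (m : ℕ) [H : Hyp F m]

/-- `K` is the subfield of `M` -/
structure FldOf (M : Subgroup ↥(Cfsg.Sz F m)) (K : Subfield F) : Prop where
  mem : ∀ b, b ∈ K ↔ U m 0 b ∈ M
  lift : ∀ k : Fˣ, (k : F) ∈ K → ∃ p q : F, U m p q * T m k ∈ M
  diag : ∀ p q : F, ∀ k : Fˣ, U m p q * T m k ∈ M → (k : F) ∈ K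

theorem core_fld {M : Subgroup ↥(Cfsg.Sz F m)} (hM : Core m M) : ∃ K : Subfield F, FldOf m M K := by
  obtain ⟨K, h1, h2, h3⟩ := core_field m hM
  refine ⟨K, h1, ?_, fun p q k hk => kth_mem m K (h3 p q k hk)⟩
  intro k hk
  obtain ⟨p, q, k', hk', h4⟩ := h2 ((k : F) * th m (k : F)) (K.mul_mem hk (th_mem m K hk)) (mul_ne_zero k.ne_zero (fun h => k.ne_zero ((th_eq_zero m).1 h)))
  have : k' = k := Units.ext (kth_inj m k'.ne_zero k.ne_zero hk')
  rw [this] at h4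
  exact ⟨p, q, h4⟩

/-- first coordinates -/
def DD (M : Subgroup ↥(Cfsg.Sz F m)) : AddSubgroup F where
  carrier := {c | ∃ d, U m c d ∈ M}
  zero_mem' := ⟨0, by rw [U_zero]; exact M.one_mem⟩
  add_mem' := by
    rintro a b ⟨d, hd⟩ ⟨e, he⟩
    exact ⟨_, by rw [← U_mul]; exact M.mul_mem hd he⟩
  neg_mem' := by
    rintro a ⟨d, hd⟩
    refine ⟨d, ?_⟩
    rw [neg_eq m]; exact hd

theorem mem_DD {M : Subgroup ↥(Cfsg.Sz F m)} {c : F} : c ∈ DD m M ↔ ∃ d, U m c d ∈ M := Iff.rfl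

theorem DD_sub {M : Subgroup ↥(Cfsg.Sz F m)} {K : Subfield F} (hK : FldOf m M K) {c : F} (hc : c ∈ DD m M) : c ∈ K := by
  obtain ⟨d, hd⟩ := hc
  apply kth_mem m K
  rw [mul_comm]
  apply (hK.mem _).2
  rw [← U_sq m c d]
  exact M.mul_mem hd hd

theorem DD_smul {M : Subgroup ↥(Cfsg.Sz F m)} {K : Subfield F} (hK : FldOf m M K) {c k : F} (hc : c ∈ DD m M) (hk : k ∈ K) : k * c ∈ DD m M := by
  by_cases h0 : k = 0
  · rw [h0, zero_mul]; exact (DD m M).zero_mem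
  obtain ⟨d, hd⟩ := hc
  obtain ⟨p, q, hpq⟩ := hK.lift (Units.mk0 k h0) hk
  have h1 := M.mul_mem (M.mul_mem hpq hd) (M.inv_mem hpq)
  have h2 : U m p q * T m (Units.mk0 k h0) * U m c d * (U m p q * T m (Units.mk0 k h0))⁻¹ = U m p q * (T m (Units.mk0 k h0) * U m c d * (T m (Units.mk0 k h0))⁻¹) * (U m p q)⁻¹ := by group
  rw [h2, T_conj_U, U_inv, U_mul, U_mul, Units.val_mk0] at h1
  have e1 : p + k * c + p = k * c := by linear_combination p * (two0 m : (2 : F) = 0)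
  rw [e1] at h1
  exact ⟨_, h1⟩

theorem DD_cases {M : Subgroup ↥(Cfsg.Sz F m)} {K : Subfield F} (hK : FldOf m M K) : DD m M = ⊥ ∨ (∀ c, c ∈ DD m M ↔ c ∈ K) := by
  by_cases h : ∃ c ∈ DD m M, c ≠ 0
  · right
    obtain ⟨c, hc, hc0⟩ := h
    intro b
    refine ⟨fun hb => DD_sub m hK hb, fun hb => ?_⟩
    have h1 := DD_smul m hK hc (K.mul_mem hb (K.inv_mem (DD_sub m hK hc)))
    rwa [inv_mul_cancel_right₀ hc0] at h1
  · left
    push Not at h
    rw [eq_bot_iff]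
    intro c hc
    exact h c hc

theorem card_QM {M : Subgroup ↥(Cfsg.Sz F m)} {K : Subfield F} (hK : FldOf m M K) : Nat.card ((Q F m).subgroupOf M) = Nat.card (DD m M) * Nat.card K := by
  rw [← Nat.card_prod]
  have hd : ∀ c : DD m M, ∃ d, U m (c : F) d ∈ M := fun c => c.2
  choose d hd using hd
  symm
  refine Nat.card_congr (Equiv.ofBijective (fun x : DD m M × K => (⟨⟨U m (x.1 : F) (d x.1 + (x.2 : F)), ?_⟩, U_mem_Q m _ _⟩ : (Q F m).subgroupOf M)) ⟨?_, ?_⟩)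
  · have h1 := M.mul_mem (hd x.1) ((hK.mem (x.2 : F)).1 x.2.2)
    rwa [U_mul, add_zero, mul_zero, add_zero] at h1
  · rintro ⟨c, b⟩ ⟨c', b'⟩ h
    have h1 : U m (c : F) (d c + (b : F)) = U m (c' : F) (d c' + (b' : F)) := congrArg (fun z : (Q F m).subgroupOf M => (z.1 : ↥(Cfsg.Sz F m))) h
    obtain ⟨h2, h3⟩ := U_inj m h1
    have h4 : c = c' := Subtype.ext h2
    subst h4
    have h5 : b = b' := Subtype.ext (add_left_cancel h3)
    rw [h5]
  · rintro ⟨⟨g, hgM⟩, hgQ⟩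
    obtain ⟨c, e, hce⟩ := hgQ
    have hce : g = U m c e := hce
    subst hce
    have hc : c ∈ DD m M := ⟨e, hgM⟩
    have h1 : e + d ⟨c, hc⟩ ∈ K := by
      apply (hK.mem _).2
      have h2 := M.mul_mem (M.inv_mem (hd ⟨c, hc⟩)) hgM
      have h3 : (U m c (d ⟨c, hc⟩))⁻¹ * U m c e = U m 0 (e + d ⟨c, hc⟩) := by
        rw [inv_mul_eq_iff_eq_mul, U_mul, add_zero, mul_zero, add_zero]
        congr 1
        linear_combination (-d ⟨c, hc⟩) * (two0 m : (2 : F) = 0)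
      rw [← h3]
      exact h2
    refine ⟨(⟨c, hc⟩, ⟨_, h1⟩), ?_⟩
    apply Subtype.ext
    apply Subtype.ext
    show U m c (d ⟨c, hc⟩ + (e + d ⟨c, hc⟩)) = U m c e
    congr 1
    linear_combination (d ⟨c, hc⟩) * (two0 m : (2 : F) = 0)

theorem card_BM {M : Subgroup ↥(Cfsg.Sz F m)} {K : Subfield F} (hK : FldOf m M K) : Nat.card ((B F m).subgroupOf M) = Nat.card ((Q F m).subgroupOf M) * (Nat.card K - 1) := by
  classical
  have h0 : Nat.card {k : K // k ≠ 0} = Nat.card K - 1 := by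
    haveI := Fintype.ofFinite K
    rw [Nat.card_eq_fintype_card, Nat.card_eq_fintype_card, Fintype.card_subtype_compl, Fintype.card_subtype_eq]
  rw [← h0, ← Nat.card_prod]
  have hne : ∀ k : {k : K // k ≠ 0}, (k.1 : F) ≠ 0 := fun k h => k.2 (Subtype.ext h)
  have hx : ∀ k : {k : K // k ≠ 0}, ∃ x : ↥(Cfsg.Sz F m), x ∈ M ∧ ∃ p q, x = U m p q * T m (Units.mk0 (k.1 : F) (hne k)) := by
    intro k
    obtain ⟨p, q, h⟩ := hK.lift (Units.mk0 (k.1 : F) (hne k)) k.1.2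
    exact ⟨_, h, p, q, rfl⟩
  choose x hxM p q hx using hx
  symm
  refine Nat.card_congr (Equiv.ofBijective (fun y : (Q F m).subgroupOf M × {k : K // k ≠ 0} => (⟨y.1.1 * ⟨x y.2, hxM y.2⟩, ?_⟩ : (B F m).subgroupOf M)) ⟨?_, ?_⟩)
  · show ((y.1.1 : M) : ↥(Cfsg.Sz F m)) * x y.2 ∈ B F m
    rw [hx]
    exact (B F m).mul_mem (Q_le_B m y.1.2) ((B F m).mul_mem (Q_le_B m (U_mem_Q m _ _)) (T_mem_B m _))
  · rintro ⟨⟨⟨u, huM⟩, hu⟩, k⟩ ⟨⟨⟨u', hu'M⟩, hu'⟩, k'⟩ h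
    have h1 : u * x k = u' * x k' := congrArg (fun z : (B F m).subgroupOf M => (z.1 : ↥(Cfsg.Sz F m))) h
    obtain ⟨a, b, hab⟩ := hu
    obtain ⟨a', b', hab'⟩ := hu'
    have hab : u = U m a b := hab
    have hab' : u' = U m a' b' := hab'
    subst hab
    subst hab'
    have h2 : U m a b * x k = U m a' b' * x k' := h1
    rw [hx, hx, ← mul_assoc, ← mul_assoc, U_mul, U_mul] at h2
    have h3 := (UT_inj m h2).2.2
    have h4 : k = k' := Subtype.ext (Subtype.ext (congrArg Units.val h3))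
    subst h4
    have h5 : U m a b = U m a' b' := mul_right_cancel h1
    have h6 : (⟨⟨U m a b, huM⟩, ⟨a, b, rfl⟩⟩ : (Q F m).subgroupOf M) = ⟨⟨U m a' b', hu'M⟩, ⟨a', b', rfl⟩⟩ := Subtype.ext (Subtype.ext h5)
    exact Prod.ext h6 rfl
  · rintro ⟨⟨g, hgM⟩, hgB⟩
    obtain ⟨a, b, k, hab⟩ := fix_oi m ((mem_B m).1 hgB)
    have hab : g = U m a b * T m k := hab
    subst hab
    have hk := hK.diag a b k hgM
    let k' : {k : K // k ≠ 0} := ⟨⟨(k : F), hk⟩, fun h => k.ne_zero (congrArg Subtype.val h)⟩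
    have hk' : Units.mk0 (k'.1 : F) (hne k') = k := Units.ext rfl
    have h1 : U m a b * T m k * (x k')⁻¹ ∈ Q F m := by
      rw [hx k', hk']
      have : U m a b * T m k * (U m (p k') (q k') * T m k)⁻¹ = U m a b * (U m (p k') (q k'))⁻¹ := by group
      rw [this]
      exact (Q F m).mul_mem (U_mem_Q m _ _) ((Q F m).inv_mem (U_mem_Q m _ _))
    refine ⟨(⟨⟨U m a b * T m k * (x k')⁻¹, M.mul_mem hgM (M.inv_mem (hxM k'))⟩, h1⟩, k'), ?_⟩
    apply Subtype.ext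
    apply Subtype.ext
    show U m a b * T m k * (x k')⁻¹ * x k' = U m a b * T m k
    group

end Cfsg.Agent.H8.Suz
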