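import Mathlib
import Cfsg.Agent.H8.SzS3

set_option autoImplicit false

namespace Cfsg.Agent.H8.Suz

open Matrix Cfsg.Agent.H8.TI
open scoped Pointwise

variable {F : Type*} [Field F] [Fintype F] (m : ℕ) [H : Hyp F m]

theorem unip_pow4 {y x : ↥(Cfsg.Sz F m)} (h : x⁻¹ * y * x ∈ Q F m) : y ^ 4 = 1 := by
  obtain ⟨a, b, hab⟩ := h
  have e : y = x * (x⁻¹ * y * x) * x⁻¹ := by group
  rw [e, conj_pow, hab, U_pow4]; group

theorem unip_iff {M : Subgroup ↥(Cfsg.Sz F m)} (hM : Core m M) {y : ↥M} (hy : y ≠ 1) : y ∉ RR m M ↔ y ∈ cov ((Q F m).subgroupOf M) := by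
  have hy1 : (y : ↥(Cfsg.Sz F m)) ≠ 1 := fun h => hy (Subtype.ext h)
  constructor
  · intro h
    have h' : ∃ x : ↥(Cfsg.Sz F m), x⁻¹ * (y : ↥(Cfsg.Sz F m)) * x ∈ Q F m := by
      by_contra hcon; exact h hcon
    obtain ⟨x, hx⟩ := h'
    have h4 := unip_pow4 m hx
    obtain ⟨t, ht, ht1, ht2, htc⟩ : ∃ t ∈ M, t * t = 1 ∧ t ≠ 1 ∧ (y : ↥(Cfsg.Sz F m)) * t = t * y := by
      by_cases h2 : (y : ↥(Cfsg.Sz F m)) * y = 1
      · exact ⟨y, y.2, h2, hy1, rfl⟩
      · refine ⟨y * y, M.mul_mem y.2 y.2, ?_, h2, by group⟩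
        rw [← h4]
        simp only [pow_succ, pow_zero, one_mul, mul_assoc]
    obtain ⟨w, hw, hw2⟩ := core_conj m hM ht ht1 ht2
    refine ⟨hy, ⟨w, hw⟩⁻¹, ?_⟩
    rw [Subgroup.mem_subgroupOf]
    apply cent_Q m (U_mem_Q m 0 1) (U01_ne m)
    rw [Subgroup.mem_centralizer_singleton_iff, ← hw2]
    show (w⁻¹)⁻¹ * (y : ↥(Cfsg.Sz F m)) * w⁻¹ * (w * t * w⁻¹) = w * t * w⁻¹ * ((w⁻¹)⁻¹ * (y : ↥(Cfsg.Sz F m)) * w⁻¹)
    calc (w⁻¹)⁻¹ * (y : ↥(Cfsg.Sz F m)) * w⁻¹ * (w * t * w⁻¹) = w * ((y : ↥(Cfsg.Sz F m)) * t) * w⁻¹ := by group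
      _ = w * (t * y) * w⁻¹ := by rw [htc]
      _ = _ := by group
  · rintro ⟨-, x, hx⟩ h
    exact h ⟨x, hx⟩

theorem total {M : Subgroup ↥(Cfsg.Sz F m)} (hM : Core m M) : Nat.card M = 1 + Nat.card (cov ((Q F m).subgroupOf M)) + Nat.card (RR m M) := by
  have h1 : (Set.univ : Set M) = ({1} ∪ cov ((Q F m).subgroupOf M)) ∪ RR m M := by
    ext y
    simp only [Set.mem_univ, Set.mem_union, Set.mem_singleton_iff, true_iff]
    by_cases hy : y = 1
    · exact Or.inl (Or.inl hy)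
    · by_cases h : y ∈ RR m M
      · exact Or.inr h
      · exact Or.inl (Or.inr ((unip_iff m hM hy).1 h))
  have h2 : Disjoint ({1} : Set M) (cov ((Q F m).subgroupOf M)) := by
    rw [Set.disjoint_singleton_left]
    exact fun h => h.1 rfl
  have h3 : Disjoint (({1} : Set M) ∪ cov ((Q F m).subgroupOf M)) (RR m M) := by
    rw [Set.disjoint_union_left]
    refine ⟨?_, ?_⟩
    · rw [Set.disjoint_singleton_left]
      exact fun h => RR_ne m h rfl
    · rw [Set.disjoint_left]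
      intro y hy hyR
      exact (unip_iff m hM hy.1).2 hy hyR
  have h4 : (Set.univ : Set M).ncard = Nat.card M := Set.ncard_univ _
  rw [← h4, h1, Set.ncard_union_eq h3 (Set.toFinite _) (Set.toFinite _), Set.ncard_union_eq h2 (Set.toFinite _) (Set.toFinite _), Set.ncard_singleton]
  rfl

theorem cov_Q {M : Subgroup ↥(Cfsg.Sz F m)} (hM : Core m M) :
    Nat.card (cov ((Q F m).subgroupOf M)) * Nat.card ((B F m).subgroupOf M) = Nat.card M * (Nat.card ((Q F m).subgroupOf M) - 1) := by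
  have h1 := card_cov _ (isTI_subgroupOf (TI_Q (F := F) m) M)
  rwa [norm_subgroupOf (TI_Q (F := F) m) M ⟨_, U_mem_Q m 0 1, hM.one, U01_ne m⟩, normalizer_Q] at h1

/-- the lower bound for the order -/
theorem big {M : Subgroup ↥(Cfsg.Sz F m)} (hM : Core m M) :
    (Nat.card ((Q F m).subgroupOf M) + 1) * Nat.card ((B F m).subgroupOf M) ≤ Nat.card M := by
  obtain ⟨t, htM, -, -, ht⟩ := hM.two
  let f : ((B F m).subgroupOf M) ⊕ (((Q F m).subgroupOf M) × ((B F m).subgroupOf M)) → M := fun x => match x with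
    | Sum.inl b => b.1
    | Sum.inr p => p.1.1 * ⟨t, htM⟩ * p.2.1
  have hf : Function.Injective f := by
    have key : ∀ (b : ((B F m).subgroupOf M)) (p : ((Q F m).subgroupOf M) × ((B F m).subgroupOf M)), f (Sum.inl b) ≠ f (Sum.inr p) := by
      intro b p h
      have h1 : ((b.1 : M) : ↥(Cfsg.Sz F m)) = (p.1.1 : M) * t * (p.2.1 : M) := congrArg Subtype.val h
      apply ht
      have h2 : ((b.1 : M) : ↥(Cfsg.Sz F m)) • oi F m = oi F m := (mem_B m).1 b.2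
      have h3 : ((p.2.1 : M) : ↥(Cfsg.Sz F m)) • oi F m = oi F m := (mem_B m).1 p.2.2
      have h4 : ((p.1.1 : M) : ↥(Cfsg.Sz F m)) • oi F m = oi F m := Q_le_B m p.1.2
      rw [h1, mul_smul, mul_smul, h3] at h2
      exact smul_left_cancel _ (h2.trans h4.symm)
    rintro (b | p) (b' | p') h
    · have : b.1 = b'.1 := h
      rw [Subtype.ext this]
    · exact absurd h (key _ _)
    · exact absurd h.symm (key _ _)
    · have h1 : ((p.1.1 : M) : ↥(Cfsg.Sz F m)) * t * (p.2.1 : M) = (p'.1.1 : M) * t * (p'.2.1 : M) := congrArg Subtype.val h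
      have h3 : ((p.2.1 : M) : ↥(Cfsg.Sz F m)) • oi F m = oi F m := (mem_B m).1 p.2.2
      have h3' : ((p'.2.1 : M) : ↥(Cfsg.Sz F m)) • oi F m = oi F m := (mem_B m).1 p'.2.2
      have h4 : (((p'.1.1 : M) : ↥(Cfsg.Sz F m))⁻¹ * (p.1.1 : M)) • (t • oi F m) = t • oi F m := by
        have h5 : ((p.1.1 : M) : ↥(Cfsg.Sz F m)) • t • oi F m = ((p'.1.1 : M) : ↥(Cfsg.Sz F m)) • t • oi F m := by
          have := congrArg (fun z : ↥(Cfsg.Sz F m) => z • oi F m) h1
          simp only [mul_smul, h3, h3'] at this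
          exact this
        rw [mul_smul, h5, inv_smul_smul]
      have h5 : ((p'.1.1 : M) : ↥(Cfsg.Sz F m))⁻¹ * (p.1.1 : M) = 1 := by
        by_contra hne
        exact ht (Q_fix m ((Q F m).mul_mem ((Q F m).inv_mem p'.1.2) p.1.2) hne h4)
      have h6 : ((p'.1.1 : M) : ↥(Cfsg.Sz F m)) = (p.1.1 : M) := inv_mul_eq_one.1 h5
      have h7 : p.1 = p'.1 := Subtype.ext (Subtype.ext h6.symm)
      rw [h6] at h1
      have h8 : ((p.2.1 : M) : ↥(Cfsg.Sz F m)) = (p'.2.1 : M) := mul_left_cancel h1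
      have h9 : p.2 = p'.2 := Subtype.ext (Subtype.ext h8)
      exact congrArg Sum.inr (Prod.ext h7 h9)
  have h1 := Nat.card_le_card_of_injective f hf
  rw [Nat.card_sum, Nat.card_prod] at h1
  linarith [h1]

theorem odd_card_elt {X : Subgroup ↥(Cfsg.Sz F m)} (hX : Comp2 m X) {v : ↥(Cfsg.Sz F m)} (hv : v ∈ X) (h2 : v * v = 1) : v = 1 := by
  have h4 := S3_odd (F := F) m (comp2_card m hX)
  have h5 : v ^ Nat.card X = 1 := congrArg Subtype.val (pow_card_eq_one' (G := X) (x := ⟨v, hv⟩))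
  obtain ⟨n, hn⟩ := h4
  rw [hn, pow_add, pow_mul, sq, h2, one_pow, one_mul, pow_one] at h5
  exact h5

theorem comp2_comm {X : Subgroup ↥(Cfsg.Sz F m)} (hX : Comp2 m X) {v w : ↥(Cfsg.Sz F m)} (hv : v ∈ X) (hw : w ∈ X) : v * w = w * v := by
  haveI := comp2_cyclic m hX
  letI := IsCyclic.commGroup (α := X)
  exact congrArg Subtype.val (mul_comm (⟨v, hv⟩ : X) ⟨w, hw⟩)

/-- an involution normalizing a torus inverts it -/
theorem invol_inverts {X : Subgroup ↥(Cfsg.Sz F m)} (hX : Comp2 m X) {v x : ↥(Cfsg.Sz F m)} (hv : v ∈ Subgroup.normalizer (X : Set ↥(Cfsg.Sz F m))) (h2 : v * v = 1) (h1 : v ≠ 1)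
    (hx : x ∈ X) : v * x * v⁻¹ = x⁻¹ := by
  have hi : v⁻¹ = v := inv_eq_of_mul_eq_one_left h2
  have h3 : v * x * v⁻¹ ∈ X := (Subgroup.mem_normalizer_iff.1 hv x).1 hx
  by_contra hcon
  have h4 : x * (v * x * v⁻¹) ≠ 1 := by
    intro h
    exact hcon (eq_inv_of_mul_eq_one_right h)
  have h5 : x * (v * x * v⁻¹) ∈ X := X.mul_mem hx h3
  have h6 := comp2_cent m hX h5 h4
  have h7 : v ∈ X := by
    rw [h6, Subgroup.mem_centralizer_singleton_iff]
    rw [hi] at h3 ⊢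
    calc v * (x * (v * x * v)) = (v * x * v) * x * v := by group
      _ = x * (v * x * v) * v := by rw [comp2_comm m hX h3 hx]
  exact h1 (odd_card_elt m hX h7 h2)

/-- when all 2-elements of `M` are involutions the normalizer quotients have order at most two -/
theorem no_four {M : Subgroup ↥(Cfsg.Sz F m)} (hM : Core m M) (hD : DD m M = ⊥) {X : Subgroup ↥(Cfsg.Sz F m)} {n a : ℕ} (hX : IsCls m M X n a) : n ≠ 4 := by
  rintro rfl
  classical
  haveI := Fact.mk Nat.prime_two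
  have hsq : ∀ y : M, y ∉ RR m M → y * y = 1 := by
    intro y hy
    by_cases hy1 : y = 1
    · rw [hy1, mul_one]
    · obtain ⟨-, x, hx⟩ := (unip_iff m hM hy1).1 hy
      obtain ⟨c, d, hcd⟩ := hx
      have hcd : ((x⁻¹ * y * x : M) : ↥(Cfsg.Sz F m)) = U m c d := hcd
      have hc : c ∈ DD m M := ⟨d, by rw [← hcd]; exact (x⁻¹ * y * x).2⟩
      rw [hD] at hc
      have hc0 : c = 0 := hc
      have h1 : (x⁻¹ * y * x) * (x⁻¹ * y * x) = 1 := by
        apply Subtype.ext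
        show ((x⁻¹ * y * x : M) : ↥(Cfsg.Sz F m)) * ((x⁻¹ * y * x : M) : ↥(Cfsg.Sz F m)) = 1
        rw [hcd, hc0, U0_sq']
      have h2 : y * y = x * ((x⁻¹ * y * x) * (x⁻¹ * y * x)) * x⁻¹ := by group
      rw [h2, h1]; group
  obtain ⟨x₀, hx₀X, hx₀M, hx₀1⟩ := hX.ne
  obtain ⟨NM, hNM⟩ : ∃ NM, NM = Subgroup.normalizer ((X.subgroupOf M : Subgroup M) : Set M) := ⟨_, rfl⟩
  have hcard : Nat.card NM = 4 * a := by rw [hNM]; exact hX.norm
  have hN2 : NM = (Subgroup.normalizer (X : Set ↥(Cfsg.Sz F m))).subgroupOf M := by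
    rw [hNM]
    exact norm_subgroupOf (comp2_TI m hX.comp) M hX.ne
  obtain ⟨V, hV⟩ := Sylow.exists_subgroup_card_pow_prime (G := NM) 2 (n := 2) (by rw [hcard]; exact dvd_mul_right 4 a)
  have hVsq : ∀ v ∈ V, ((v : M) : ↥(Cfsg.Sz F m)) * (v : M) = 1 := by
    intro v hv
    have h4 : v ^ 4 = 1 := by
      have := pow_card_eq_one' (G := V) (x := ⟨v, hv⟩)
      rw [hV] at this
      exact congrArg Subtype.val this
    have h5 : (v : M) ∉ RR m M := by
      intro h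
      have hc := RR_comp m h
      have h6 : ((v : M) : ↥(Cfsg.Sz F m)) ^ 4 = 1 := congrArg (fun z : NM => ((z : M) : ↥(Cfsg.Sz F m))) h4
      have h7 : ((v : M) : ↥(Cfsg.Sz F m)) ^ 2 = 1 := by
        apply odd_card_elt m hc (Subgroup.pow_mem _ (mem_cent_self _) 2)
        rw [← pow_add]; exact h6
      have h8 : ((v : M) : ↥(Cfsg.Sz F m)) = 1 := odd_card_elt m hc (mem_cent_self _) (by rw [← sq]; exact h7)
      exact RR_ne m h (Subtype.ext h8)
    exact congrArg Subtype.val (hsq v h5)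
  have hVinv : ∀ v ∈ V, v ≠ 1 → ((v : M) : ↥(Cfsg.Sz F m)) * x₀ * ((v : M) : ↥(Cfsg.Sz F m))⁻¹ = x₀⁻¹ := by
    intro v hv hv1
    apply invol_inverts m hX.comp _ (hVsq v hv) (fun h => hv1 (Subtype.ext (Subtype.ext h))) hx₀X
    have h1 : (v : M) ∈ (Subgroup.normalizer (X : Set ↥(Cfsg.Sz F m))).subgroupOf M := by rw [← hN2]; exact v.2
    exact h1
  -- two different involutions
  have h3 : 2 < Nat.card V := by rw [hV]; norm_num
  obtain ⟨v, w, hv1, hw1, hvw⟩ : ∃ v w : V, v ≠ 1 ∧ w ≠ 1 ∧ v ≠ w := by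
    haveI : Fintype V := Fintype.ofFinite V
    rw [Nat.card_eq_fintype_card] at h3
    obtain ⟨v, hv⟩ := Fintype.exists_ne_of_one_lt_card (α := V) (by omega) 1
    obtain ⟨w, hw1, hw2⟩ : ∃ w : V, w ≠ 1 ∧ w ≠ v := by
      by_contra hcon
      push Not at hcon
      have hsub : (Finset.univ : Finset V) ⊆ {1, v} := by
        intro z _
        rw [Finset.mem_insert, Finset.mem_singleton]
        by_cases hz : z = 1
        · exact Or.inl hz
        · exact Or.inr (hcon z hz)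
      have := (Finset.card_le_card hsub).trans Finset.card_le_two
      rw [Finset.card_univ] at this
      omega
    exact ⟨v, w, hv, hw1, fun h => hw2 h.symm⟩
  have e1 := hVinv v.1 v.2 (fun h => hv1 (Subtype.ext h))
  have e2 := hVinv w.1 w.2 (fun h => hw1 (Subtype.ext h))
  obtain ⟨g, hg⟩ : ∃ g : ↥(Cfsg.Sz F m), g = ((v.1 : M) : ↥(Cfsg.Sz F m)) := ⟨_, rfl⟩
  obtain ⟨h, hh⟩ : ∃ h : ↥(Cfsg.Sz F m), h = ((w.1 : M) : ↥(Cfsg.Sz F m)) := ⟨_, rfl⟩
  rw [← hg] at e1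
  rw [← hh] at e2
  have e3 : g * h ∈ X := by
    rw [comp2_cent m hX.comp hx₀X hx₀1, Subgroup.mem_centralizer_singleton_iff]
    have h4 : g * h * x₀ * (g * h)⁻¹ = x₀ := by
      calc g * h * x₀ * (g * h)⁻¹ = g * (h * x₀ * h⁻¹) * g⁻¹ := by group
        _ = (g * x₀ * g⁻¹)⁻¹ := by rw [e2]; group
        _ = x₀ := by rw [e1, inv_inv]
    exact mul_inv_eq_iff_eq_mul.1 h4
  have e4 : g * h * (g * h) = 1 := by
    have := hVsq (v * w : V).1 (v * w : V).2
    rw [hg, hh]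
    exact this
  have e5 := odd_card_elt m hX.comp e3 e4
  apply hvw
  have h6 : g = h := by
    have h7 : h * h = 1 := by rw [hh]; exact hVsq w.1 w.2
    calc g = g * (h * h) := by rw [h7, mul_one]
      _ = (g * h) * h := by group
      _ = h := by rw [e5, one_mul]
  rw [hg, hh] at h6
  exact Subtype.ext (Subtype.ext (Subtype.ext h6))

end Cfsg.Agent.H8.Suz
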