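import Mathlib
import Cfsg.Agent.H8.SzS4
import Cfsg.Agent.H8.SzNum

set_option autoImplicit false

namespace Cfsg.Agent.H8.Suz

open Matrix Cfsg.Agent.H8.TI Cfsg.Agent.H8.SzNum
open scoped Pointwise

variable {F : Type*} [Field F] [Fintype F] (m : ℕ) [H : Hyp F m]

include H in
theorem subfield_card (K : Subfield F) : ∃ n, Nat.card K = 2 ^ n ∧ n ∣ 2 * m + 1 ∧ (n = 1 ∨ 3 ≤ n) := by
  haveI : Fintype K := Fintype.ofFinite _
  have h3 := Module.card_eq_pow_finrank (K := K) (V := F)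
  rw [H.hF, ← Nat.card_eq_fintype_card] at h3
  have hd : Module.finrank K F ≠ 0 := by
    intro h
    rw [h, pow_zero] at h3
    have : 1 < 2 ^ (2 * m + 1) := Nat.one_lt_two_pow (by omega)
    omega
  have h4 : Nat.card K ∣ 2 ^ (2 * m + 1) := by rw [h3]; exact dvd_pow_self _ hd
  obtain ⟨n, -, hn⟩ := (Nat.dvd_prime_pow Nat.prime_two).1 h4
  have h5 := subfield_dvd (F := F) m K hn
  refine ⟨n, hn, h5, ?_⟩
  have h6 : Odd n := Odd.of_dvd_nat (show Odd (2 * m + 1) from ⟨m, rfl⟩) h5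
  obtain ⟨j, hj⟩ := h6
  omega

theorem dvd4 {n : ℕ} (h : n ∣ 4) : n = 1 ∨ n = 2 ∨ n = 4 := by
  have h1 : n ≤ 4 := Nat.le_of_dvd (by norm_num) h
  interval_cases n
  · simp at h
  · exact Or.inl rfl
  · exact Or.inr (Or.inl rfl)
  · omega
  · exact Or.inr (Or.inr rfl)

theorem closed_step {M : Subgroup ↥(Cfsg.Sz F m)} {S : Set ↥M} (hS : Closed m M S) : S = RR m M ∨ ∃ X n a, IsCls m M X n a ∧ Closed m M (S ∪ cov (X.subgroupOf M)) ∧
    Nat.card (S ∪ cov (X.subgroupOf M) : Set ↥M) = Nat.card S + Nat.card (cov (X.subgroupOf M)) := by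
  by_cases h : ∃ h ∈ RR m M, h ∉ S
  · right
    obtain ⟨h, hR, hS'⟩ := h
    obtain ⟨X, n, a, hX, hd, -⟩ := hS.2 h hR hS'
    refine ⟨X, n, a, hX, closed_union m hS hX, ?_⟩
    exact Set.ncard_union_eq hd (Set.toFinite _) (Set.toFinite _)
  · left
    push Not at h
    exact Set.Subset.antisymm hS.1 h

theorem closed_le {M : Subgroup ↥(Cfsg.Sz F m)} {S : Set ↥M} (hS : Closed m M S) : Nat.card S ≤ Nat.card (RR m M) :=
  Set.ncard_le_ncard hS.1 (Set.toFinite _)

theorem cls_norm_top {M X : Subgroup ↥(Cfsg.Sz F m)} {n a : ℕ} (hX : IsCls m M X n a) (h : Nat.card M = n * a) : M ≤ Subgroup.normalizer (X : Set ↥(Cfsg.Sz F m)) := by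
  have h1 : Subgroup.normalizer ((X.subgroupOf M : Subgroup M) : Set M) = ⊤ := by
    apply Subgroup.eq_top_of_card_eq
    rw [hX.norm, h]
  rw [norm_subgroupOf (comp2_TI m hX.comp) M hX.ne, Subgroup.subgroupOf_eq_top] at h1
  exact h1

theorem cls_int {M X : Subgroup ↥(Cfsg.Sz F m)} {n a : ℕ} (hX : IsCls m M X n a) : (Nat.card (cov (X.subgroupOf M)) : ℤ) * ((n : ℤ) * (a : ℤ)) = (Nat.card M : ℤ) * ((a : ℤ) - 1) := by
  have h1 := hX.cov
  have h2 := hX.five
  have h3 : ((a - 1 : ℕ) : ℤ) = (a : ℤ) - 1 := by push_cast [Nat.cast_sub (show 1 ≤ a by omega)]; ring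
  rw [← h3]
  exact_mod_cast h1

theorem cls_le5 {M X : Subgroup ↥(Cfsg.Sz F m)} {n a : ℕ} (hX : IsCls m M X n a) : (Nat.card M : ℤ) ≤ 5 * (Nat.card (cov (X.subgroupOf M)) : ℤ) := by
  have h1 := cls_large (a := (a : ℤ)) (by exact_mod_cast hX.five) (by positivity) (cls_int m hX)
  have h2 : (0 : ℤ) ≤ Nat.card (cov (X.subgroupOf M)) := by positivity
  rcases dvd4 hX.dvd with h | h | h <;> rw [h] at h1 <;> push_cast at h1 <;> linarith

theorem count_small {M : Subgroup ↥(Cfsg.Sz F m)} (hM : Core m M) {K : Subfield F} (hK : FldOf m M K) (hr : Nat.card K = 2) :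
    ∃ X : Subgroup ↥(Cfsg.Sz F m), Comp2 m X ∧ M ≤ Subgroup.normalizer (X : Set ↥(Cfsg.Sz F m)) := by
  obtain ⟨s, hs⟩ : ∃ s, s = Nat.card ((Q F m).subgroupOf M) := ⟨_, rfl⟩
  have hβ := card_BM m hK
  rw [hr, show 2 - 1 = 1 from rfl, mul_one, ← hs] at hβ
  have hs1 := card_QM m hK
  rw [← hs, hr] at hs1
  have hu := cov_Q m hM
  have hbig := big m hM
  rw [hβ, ← hs] at hu hbig
  have ht := total m hM
  have hs2 : (s = 2 ∧ DD m M = ⊥) ∨ s = 4 := by
    rcases DD_cases m hK with h | h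
    · left
      refine ⟨?_, h⟩
      rw [hs1, h]; simp
    · right
      have : Nat.card (DD m M) = Nat.card K := by
        have : (DD m M : Set F) = (K : Set F) := Set.ext h
        show Nat.card (DD m M : Set F) = Nat.card (K : Set F)
        rw [this]
      rw [hs1, this, hr]
  have hs0 : 1 ≤ s := by rcases hs2 with ⟨h, -⟩ | h <;> omega
  -- integers
  obtain ⟨μ, hμ⟩ : ∃ μ : ℤ, μ = Nat.card M := ⟨_, rfl⟩
  obtain ⟨u, hu'⟩ : ∃ u : ℤ, u = Nat.card (cov ((Q F m).subgroupOf M)) := ⟨_, rfl⟩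
  obtain ⟨ρ, hρ⟩ : ∃ ρ : ℤ, ρ = Nat.card (RR m M) := ⟨_, rfl⟩
  have zu : u * (s : ℤ) = μ * ((s : ℤ) - 1) := by
    have h3 : ((s - 1 : ℕ) : ℤ) = (s : ℤ) - 1 := by push_cast [Nat.cast_sub hs0]; ring
    rw [hu', hμ, ← h3]
    exact_mod_cast hu
  have zt : μ = 1 + u + ρ := by
    rw [hμ, hu', hρ]
    exact_mod_cast ht
  have zμ : 0 < μ := by rw [hμ]; exact_mod_cast Nat.card_pos
  have zs : (s : ℤ) = 2 ∨ (s : ℤ) = 4 := by
    rcases hs2 with ⟨h, -⟩ | h
    · left; exact_mod_cast h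
    · right; exact_mod_cast h
  have zbig : ((s : ℤ) + 1) * s ≤ μ := by rw [hμ]; exact_mod_cast hbig
  rcases closed_step m (closed_empty m M) with h0 | ⟨X, n, a, hX, hcl, hcard⟩
  · exfalso
    have : ρ = 0 := by
      rw [hρ, ← h0]
      simp
    have h2 : (s : ℤ) * ρ = μ - s := by linear_combination (-(s : ℤ)) * zt - zu
    rw [this] at h2
    rcases zs with h | h <;> rw [h] at zbig h2 <;> omega
  · have hle := closed_le m hcl
    rw [hcard] at hle
    obtain ⟨c, hc⟩ : ∃ c : ℤ, c = Nat.card (cov (X.subgroupOf M)) := ⟨_, rfl⟩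
    have hE : Nat.card (∅ : Set ↥M) = 0 := by simp
    rw [hE, zero_add] at hle hcard
    have zle : c ≤ ρ := by rw [hc, hρ]; exact_mod_cast hle
    have zc : c * ((n : ℤ) * (a : ℤ)) = μ * ((a : ℤ) - 1) := by rw [hc, hμ]; exact cls_int m hX
    have za : (5 : ℤ) ≤ a := by exact_mod_cast hX.five
    have zn : (n : ℤ) = 1 ∨ (n : ℤ) = 2 ∨ (n : ℤ) = 4 := by
      rcases dvd4 hX.dvd with h | h | h <;> rw [h] <;> simp
    have h1 := caseA zs zu zt zn (by
      intro hs2' hn4
      rcases hs2 with ⟨-, h⟩ | h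
      · exact no_four m hM h hX (by exact_mod_cast hn4)
      · rw [h] at hs2'; norm_num at hs2') za zμ zc zle
    rw [h1] at zc
    rcases closed_step m hcl with h2 | ⟨X', n', a', hX', hcl', hcard'⟩
    · have h3 : c = ρ := by rw [hc, hρ, ← h2, hcard]
      have h4 := caseA3 zu zt zc h3
      rw [← h1] at h4
      refine ⟨X, hX.comp, cls_norm_top m hX ?_⟩
      rw [hμ] at h4
      exact_mod_cast h4
    · exfalso
      have hle' := closed_le m hcl'
      rw [hcard', hcard] at hle'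
      have za' : (5 : ℤ) ≤ a' := by exact_mod_cast hX'.five
      have zn' : (n' : ℤ) = 1 ∨ (n' : ℤ) = 2 ∨ (n' : ℤ) = 4 := by
        rcases dvd4 hX'.dvd with h | h | h <;> rw [h] <;> simp
      exact caseA2 zs zu zt zn' za za' zμ zc (c' := (Nat.card (cov (X'.subgroupOf M)) : ℤ)) (by rw [hμ]; exact cls_int m hX') (by rw [hc, hρ]; exact_mod_cast hle')

theorem T_mem_iff {M : Subgroup ↥(Cfsg.Sz F m)} {K : Subfield F} (hK : FldOf m M K) (hT : ∀ k : Fˣ, (k : F) ∈ K → T m k ∈ M) (k : Fˣ) : T m k ∈ M ↔ (k : F) ∈ K := by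
  constructor
  · intro h
    apply hK.diag 0 0 k
    rwa [U_zero, one_mul]
  · exact hT k

theorem card_TM {M : Subgroup ↥(Cfsg.Sz F m)} {K : Subfield F} (hK : FldOf m M K) (hT : ∀ k : Fˣ, (k : F) ∈ K → T m k ∈ M) : Nat.card ((TT F m).subgroupOf M) = Nat.card K - 1 := by
  classical
  have h0 : Nat.card {k : K // k ≠ 0} = Nat.card K - 1 := by
    haveI := Fintype.ofFinite K
    rw [Nat.card_eq_fintype_card, Nat.card_eq_fintype_card, Fintype.card_subtype_compl, Fintype.card_subtype_eq]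
  rw [← h0]
  have hne : ∀ k : {k : K // k ≠ 0}, (k.1 : F) ≠ 0 := fun k h => k.2 (Subtype.ext h)
  symm
  refine Nat.card_congr (Equiv.ofBijective (fun k : {k : K // k ≠ 0} => (⟨⟨T m (Units.mk0 (k.1 : F) (hne k)), hT _ k.1.2⟩, ⟨_, rfl⟩⟩ : (TT F m).subgroupOf M)) ⟨?_, ?_⟩)
  · intro k k' h
    have h1 : T m (Units.mk0 (k.1 : F) (hne k)) = T m (Units.mk0 (k'.1 : F) (hne k')) := congrArg (fun z : (TT F m).subgroupOf M => (z.1 : ↥(Cfsg.Sz F m))) h
    have h2 := T_inj m h1
    exact Subtype.ext (Subtype.ext (congrArg Units.val h2))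
  · rintro ⟨⟨g, hgM⟩, hgT⟩
    obtain ⟨k, hk⟩ := hgT
    have hk : T m k = g := hk
    subst hk
    have h1 := (T_mem_iff m hK hT k).1 hgM
    refine ⟨⟨⟨(k : F), h1⟩, fun h => k.ne_zero (congrArg Subtype.val h)⟩, ?_⟩
    apply Subtype.ext
    apply Subtype.ext
    show T m (Units.mk0 (k : F) _) = T m k
    congr 1
    exact Units.ext rfl

theorem count_large {M : Subgroup ↥(Cfsg.Sz F m)} (hM : Core m M) {K : Subfield F} (hK : FldOf m M K) (hT : ∀ k : Fˣ, (k : F) ∈ K → T m k ∈ M) {j : ℕ} (hj : 3 ≤ j) (hjo : Odd j)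
    (hr : Nat.card K = 2 ^ j) : (∀ c, c ∈ DD m M ↔ c ∈ K) ∧ (Nat.card M = (Nat.card K * Nat.card K + 1) * (Nat.card K * Nat.card K * (Nat.card K - 1))) ∧ ∃ l : Fˣ, T m l * W F m ∈ M := by
  obtain ⟨s, hs⟩ : ∃ s, s = Nat.card ((Q F m).subgroupOf M) := ⟨_, rfl⟩
  obtain ⟨r, hr'⟩ : ∃ r, r = Nat.card K := ⟨_, rfl⟩
  have hβ := card_BM m hK
  have hs1 := card_QM m hK
  have hTM := card_TM m hK hT
  rw [← hs, ← hr'] at hs1 hβ
  rw [← hr'] at hTM
  have hr8 : 8 ≤ r := by
    rw [hr', hr]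
    calc 8 = 2 ^ 3 := rfl
      _ ≤ 2 ^ j := Nat.pow_le_pow_right (by norm_num) hj
  have hr4 : 4 ∣ r := by
    rw [hr', hr]
    exact Nat.pow_dvd_pow 2 (show 2 ≤ j by omega)
  have hr3 : 3 ∣ r + 1 := by
    obtain ⟨i, hi⟩ := hjo
    have h0 := mod3 i
    rw [hr', hr, hi]
    apply Nat.dvd_of_mod_eq_zero
    rw [Nat.add_mod, h0]
  have hu := cov_Q m hM
  have hbig := big m hM
  have hβdvd : Nat.card ((B F m).subgroupOf M) ∣ Nat.card M := Subgroup.card_subgroup_dvd_card _
  rw [hβ, ← hs] at hu hbig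
  rw [hβ] at hβdvd
  have ht := total m hM
  have hs2 : (s = r ∧ DD m M = ⊥) ∨ (s = r * r ∧ ∀ c, c ∈ DD m M ↔ c ∈ K) := by
    rcases DD_cases m hK with h | h
    · left
      refine ⟨?_, h⟩
      rw [hs1, h]; simp
    · right
      refine ⟨?_, h⟩
      have : Nat.card (DD m M) = Nat.card K := by
        have : (DD m M : Set F) = (K : Set F) := Set.ext h
        show Nat.card (DD m M : Set F) = Nat.card (K : Set F)
        rw [this]
      rw [hs1, this, ← hr']
  have hs8 : 8 ≤ s := by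
    rcases hs2 with ⟨h, -⟩ | ⟨h, -⟩
    · omega
    · rw [h]; nlinarith
  -- integers
  obtain ⟨μ, hμ⟩ : ∃ μ : ℤ, μ = Nat.card M := ⟨_, rfl⟩
  obtain ⟨u, hu'⟩ : ∃ u : ℤ, u = Nat.card (cov ((Q F m).subgroupOf M)) := ⟨_, rfl⟩
  obtain ⟨ρ, hρ⟩ : ∃ ρ : ℤ, ρ = Nat.card (RR m M) := ⟨_, rfl⟩
  obtain ⟨e, he⟩ : ∃ e : ℤ, e = (r : ℤ) - 1 := ⟨_, rfl⟩
  have hr1 : ((r - 1 : ℕ) : ℤ) = e := by rw [he]; push_cast [Nat.cast_sub (show 1 ≤ r by omega)]; ring
  have hsm : ((s - 1 : ℕ) : ℤ) = (s : ℤ) - 1 := by push_cast [Nat.cast_sub (show 1 ≤ s by omega)]; ring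
  have zs : (8 : ℤ) ≤ s := by exact_mod_cast hs8
  have ze : (7 : ℤ) ≤ e := by rw [he]; have : (8 : ℤ) ≤ r := by exact_mod_cast hr8
                              omega
  have zu : u * ((s : ℤ) * e) = μ * ((s : ℤ) - 1) := by
    rw [hu', hμ, ← hsm, ← hr1]
    exact_mod_cast hu
  have zt : μ = 1 + u + ρ := by
    rw [hμ, hu', hρ]
    exact_mod_cast ht
  have zbig : ((s : ℤ) + 1) * ((s : ℤ) * e) ≤ μ := by rw [hμ, ← hr1]; exact_mod_cast hbig
  have zμ : 0 < μ := by rw [hμ]; exact_mod_cast Nat.card_pos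
  -- the torus class
  obtain ⟨k₀, hk₀K, hk₀⟩ : ∃ k : Fˣ, (k : F) ∈ K ∧ (k : F) ≠ 1 := by
    by_contra hcon
    push Not at hcon
    have hsub : (K : Set F) ⊆ {0, 1} := by
      intro x hx
      by_cases h : x = 0
      · exact Or.inl h
      · exact Or.inr (hcon (Units.mk0 x h) hx)
    have h1 : (K : Set F).ncard ≤ ({0, 1} : Set F).ncard := Set.ncard_le_ncard hsub (Set.toFinite _)
    have h2 := Set.ncard_insert_le (0 : F) {1}
    rw [Set.ncard_singleton] at h2
    have h3 : Nat.card K = (K : Set F).ncard := rfl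
    omega
  have hTne : ∃ g ∈ TT F m, g ∈ M ∧ g ≠ 1 := by
    refine ⟨T m k₀, ⟨k₀, rfl⟩, hT k₀ hk₀K, ?_⟩
    intro h
    rw [← map_one (T m)] at h
    exact hk₀ (congrArg Units.val (T_inj m h))
  obtain ⟨nT, aT, hTc⟩ := exists_cls m (comp2_TT (F := F) m) hTne
  have haT : aT = r - 1 := by rw [← hTc.card, hTM]
  have hnT : nT = 1 ∨ nT = 2 := by
    obtain ⟨n', hn', hn2⟩ := ratio (Subgroup.le_normalizer (H := TT F m)) le_rfl (c := 2) (by rw [card_norm_TT, card_TT]) M
    have h1 := hTc.norm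
    rw [norm_subgroupOf (comp2_TI m (comp2_TT m)) M hTne, hn2, hTc.card] at h1
    have h2 : n' = nT := Nat.eq_of_mul_eq_mul_right (by have := hTc.five; omega) h1
    rw [h2] at hn'
    have h3 : nT ≤ 2 := Nat.le_of_dvd (by norm_num) hn'
    interval_cases nT
    · simp at hn'
    · exact Or.inl rfl
    · exact Or.inr rfl
  have hcl0 := closed_union m (closed_empty m M) hTc
  rw [Set.empty_union] at hcl0
  obtain ⟨t, ht'⟩ : ∃ t : ℤ, t = Nat.card (cov ((TT F m).subgroupOf M)) := ⟨_, rfl⟩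
  have ztc : t * ((nT : ℤ) * e) = μ * (e - 1) := by
    have := cls_int m hTc
    rw [haT, hr1, ← hμ, ← ht'] at this
    exact this
  have hle0 := closed_le m hcl0
  rcases hnT with rfl | rfl
  · -- impossible
    exfalso
    have h1 := caseB1 (t := t) zs ze zbig zu zt (by exact_mod_cast ztc)
    rcases closed_step m hcl0 with h2 | ⟨X, n, a, hX, hcl, hcard⟩
    · have h3 : t = ρ := by rw [ht', hρ, h2]
      omega
    · have hle := closed_le m hcl
      rw [hcard] at hle
      apply h1.2 (Nat.card (cov (X.subgroupOf M)) : ℤ) (by positivity)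
      · rw [ht', hρ]; exact_mod_cast hle
      · rw [hμ]; exact cls_le5 m hX
  · obtain ⟨ρ1, hρ1⟩ : ∃ ρ1, ρ1 = ρ - t := ⟨_, rfl⟩
    have zE := caseB2 (t := t) zu zt (by exact_mod_cast ztc)
    rw [← hρ1] at zE
    have zpos := caseB_pos zs ze zbig zE
    -- the swapping element
    have hW : ∃ l : Fˣ, T m l * W F m ∈ M := by
      by_contra hcon
      push Not at hcon
      have h1 : Subgroup.normalizer (((TT F m).subgroupOf M : Subgroup M) : Set M) ≤ (TT F m).subgroupOf M := by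
        rw [norm_subgroupOf (comp2_TI m (comp2_TT m)) M hTne]
        intro y hy
        rw [Subgroup.mem_subgroupOf, mem_norm_TT] at hy
        rcases hy with ⟨k, hk⟩ | ⟨k, hk⟩
        · exact ⟨k, hk.symm⟩
        · exfalso
          apply hcon k
          rw [← hk]; exact y.2
      have h2 := Subgroup.card_le_of_le h1
      rw [hTc.norm, hTc.card] at h2
      have := hTc.five
      omega
    rcases closed_step m hcl0 with h2 | ⟨X, n, a, hX, hcl, hcard⟩
    · exfalso
      have h3 : t = ρ := by rw [ht', hρ, h2]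
      omega
    obtain ⟨c, hc⟩ : ∃ c : ℤ, c = Nat.card (cov (X.subgroupOf M)) := ⟨_, rfl⟩
    have hle := closed_le m hcl
    rw [hcard] at hle
    have zle : c ≤ ρ1 := by
      have : (Nat.card (cov ((TT F m).subgroupOf M)) : ℤ) + Nat.card (cov (X.subgroupOf M)) ≤ Nat.card (RR m M) := by exact_mod_cast hle
      rw [← ht', ← hc, ← hρ] at this
      omega
    have zc : c * ((n : ℤ) * (a : ℤ)) = μ * ((a : ℤ) - 1) := by rw [hc, hμ]; exact cls_int m hX
    have za : (5 : ℤ) ≤ a := by exact_mod_cast hX.five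
    rcases dvd4 hX.dvd with rfl | rfl | rfl
    · exfalso
      apply caseB_n1 zs ze zbig zE zle
      have := cls_large za zμ.le zc
      exact_mod_cast this
    · -- quotient two
      exfalso
      have zc2 : c * (2 * (a : ℤ)) = μ * ((a : ℤ) - 1) := by exact_mod_cast zc
      have hρ2 : c = ρ1 := by
        rcases closed_step m hcl with h2 | ⟨X', n', a', hX', hcl', hcard'⟩
        · have h3 : (Nat.card (cov ((TT F m).subgroupOf M)) : ℤ) + Nat.card (cov (X.subgroupOf M)) = Nat.card (RR m M) := by rw [← h2]; exact_mod_cast hcard.symm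
          rw [← ht', ← hc, ← hρ] at h3
          omega
        · exfalso
          have hle' := closed_le m hcl'
          rw [hcard', hcard] at hle'
          have h3 : (Nat.card (cov ((TT F m).subgroupOf M)) : ℤ) + Nat.card (cov (X.subgroupOf M)) + Nat.card (cov (X'.subgroupOf M)) ≤ Nat.card (RR m M) := by exact_mod_cast hle'
          rw [← ht', ← hc, ← hρ] at h3
          exact caseB_n2 zs ze za zbig zE zc2 (by rw [hμ]; exact cls_le5 m hX') (by omega)
      have h4 := caseB_eq2 zE zc2 hρ2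
      rcases hs2 with ⟨h5, h6⟩ | ⟨h5, h6⟩
      · rw [h5, he] at h4 zbig
        have h7 := caseB_D0 (r := (r : ℤ)) (by exact_mod_cast hr8) zbig h4 za
        apply hX.three
        have h8 : a = r + 1 := by exact_mod_cast h7
        rw [h8]; exact hr3
      · rw [h5, he] at h4 zbig
        push_cast at h4 zbig
        exact caseB_DK (r := (r : ℤ)) (by exact_mod_cast hr8) zbig h4 za
    · -- quotient four
      have zc4 : c * (4 * (a : ℤ)) = μ * ((a : ℤ) - 1) := by exact_mod_cast zc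
      have hD : ∀ c, c ∈ DD m M ↔ c ∈ K := by
        rcases hs2 with ⟨-, h6⟩ | ⟨-, h6⟩
        · exact absurd rfl (no_four m hM h6 hX)
        · exact h6
      have hsr : s = r * r := by
        rcases hs2 with ⟨-, h6⟩ | ⟨h5, -⟩
        · exact absurd rfl (no_four m hM h6 hX)
        · exact h5
      refine ⟨hD, ?_, hW⟩
      rcases closed_step m hcl with h2 | ⟨X', n', a', hX', hcl', hcard'⟩
      · exfalso
        have h3 : (Nat.card (cov ((TT F m).subgroupOf M)) : ℤ) + Nat.card (cov (X.subgroupOf M)) = Nat.card (RR m M) := by rw [← h2]; exact_mod_cast hcard.symm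
        rw [← ht', ← hc, ← hρ] at h3
        exact caseB_n4 zs ze za zbig zE zc4 (by omega)
      obtain ⟨c', hc'⟩ : ∃ c' : ℤ, c' = Nat.card (cov (X'.subgroupOf M)) := ⟨_, rfl⟩
      have hle' := closed_le m hcl'
      rw [hcard', hcard] at hle'
      have zle' : c + c' ≤ ρ1 := by
        have h3 : (Nat.card (cov ((TT F m).subgroupOf M)) : ℤ) + Nat.card (cov (X.subgroupOf M)) + Nat.card (cov (X'.subgroupOf M)) ≤ Nat.card (RR m M) := by exact_mod_cast hle'
        rw [← ht', ← hc, ← hρ, ← hc'] at h3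
        omega
      have zc' : c' * ((n' : ℤ) * (a' : ℤ)) = μ * ((a' : ℤ) - 1) := by rw [hc', hμ]; exact cls_int m hX'
      have za' : (5 : ℤ) ≤ a' := by exact_mod_cast hX'.five
      have hbad : n' = 1 ∨ n' = 2 → False := by
        intro hn'
        have h5 := cls_large za' zμ.le zc'
        have h6 : 2 * μ ≤ 5 * c' := by
          rcases hn' with rfl | rfl <;> push_cast at h5 <;> linarith
        exact caseB_n4' zs ze za zbig zE zc4 h6 zle'
      rcases dvd4 hX'.dvd with h7 | h7 | rfl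
      · exact (hbad (Or.inl h7)).elim
      · exact (hbad (Or.inr h7)).elim
      have zc4' : c' * (4 * (a' : ℤ)) = μ * ((a' : ℤ) - 1) := by exact_mod_cast zc'
      have heq : c + c' = ρ1 := by
        rcases closed_step m hcl' with h2 | ⟨X'', n'', a'', hX'', hcl'', hcard''⟩
        · have h3 : (Nat.card (cov ((TT F m).subgroupOf M)) : ℤ) + Nat.card (cov (X.subgroupOf M)) + Nat.card (cov (X'.subgroupOf M)) = Nat.card (RR m M) := by
            rw [← h2]
            rw [hcard] at hcard'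
            exact_mod_cast hcard'.symm
          rw [← ht', ← hc, ← hρ, ← hc'] at h3
          omega
        · exfalso
          have hle'' := closed_le m hcl''
          rw [hcard'', hcard', hcard] at hle''
          have h3 : (Nat.card (cov ((TT F m).subgroupOf M)) : ℤ) + Nat.card (cov (X.subgroupOf M)) + Nat.card (cov (X'.subgroupOf M)) + Nat.card (cov (X''.subgroupOf M)) ≤ Nat.card (RR m M) := by exact_mod_cast hle''
          rw [← ht', ← hc, ← hρ, ← hc'] at h3
          exact caseB_n44 zs ze za za' zbig zE zc4 zc4' (by rw [hμ]; exact cls_le5 m hX'') (by omega)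
      have h8 := caseB_eq4 zE zc4 zc4' heq
      obtain ⟨N, hN⟩ := hβdvd
      rw [hsr] at h8 hN zbig
      have hN' : μ = (r : ℤ) * r * (r - 1) * N := by
        rw [hμ, hN]
        push_cast
        rw [hr1, he]
      rw [he] at h8 zbig
      push_cast at h8 zbig
      have hre : (0 : ℤ) < (r : ℤ) * r * (r - 1) := by
        have : (8 : ℤ) ≤ r := by exact_mod_cast hr8
        have h9 : (0 : ℤ) < (r : ℤ) - 1 := by omega
        positivity
      have h9 : (N : ℤ) * ((r : ℤ) * r * (r - 1) * ((a : ℤ) + a') - 2 * ((a : ℤ) * a') * ((r : ℤ) * r - 2)) = 4 * ((a : ℤ) * a') := by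
        apply mul_left_cancel₀ hre.ne'
        rw [hN'] at h8
        linear_combination h8
      have h10 : (r : ℤ) * r + 1 ≤ N := by
        have h11 : ((r : ℤ) * r * (r - 1)) * ((r : ℤ) * r + 1) ≤ ((r : ℤ) * r * (r - 1)) * N := by
          rw [hN'] at zbig
          linarith
        exact le_of_mul_le_mul_left h11 hre
      have h11 := caseB_final (by exact_mod_cast hr8) (by exact_mod_cast hr4) h10 za za' (by exact_mod_cast hX.odd) (by exact_mod_cast hX'.odd) h9
      have h12 : N = r * r + 1 := by exact_mod_cast h11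
      rw [hN, h12, ← hr', mul_comm]

end Cfsg.Agent.H8.Suz
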