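import Mathlib
import Cfsg.Agent.H8.SzS5

set_option autoImplicit false

namespace Cfsg.Agent.H8.Suz

open Matrix Cfsg.Agent.H8.TI
open scoped Pointwise

variable {F : Type*} [Field F] [Fintype F] (m : ℕ) [H : Hyp F m]

theorem conj_QT {u : ↥(Cfsg.Sz F m)} (hu : u ∈ Q F m) (p q : F) (k : Fˣ) : ∃ p' q' : F, u * (U m p q * T m k) * u⁻¹ = U m p' q' * T m k := by
  obtain ⟨a, b, rfl⟩ := hu
  have h : U m a b * (U m p q * T m k) * (U m a b)⁻¹ = U m a b * U m p q * (T m k * (U m a b)⁻¹ * (T m k)⁻¹) * T m k := by group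
  rw [h, U_inv, T_conj_U, U_mul, U_mul]
  exact ⟨_, _, rfl⟩

theorem conj_QZ {u : ↥(Cfsg.Sz F m)} (hu : u ∈ Q F m) (b : F) : u⁻¹ * U m 0 b * u = U m 0 b := by
  obtain ⟨a, c, rfl⟩ := hu
  have h : (U m a c)⁻¹ * U m 0 b * U m a c = (U m a c)⁻¹ * (U m 0 b * U m a c) := by group
  have h2 : U m 0 b * U m a c = U m a c * U m 0 b := by
    rw [U_mul, U_mul]
    congr 1
    · ring
    · rw [th_zero, zero_mul, mul_zero]; ring
  rw [h, h2]; group

theorem normT {M : Subgroup ↥(Cfsg.Sz F m)} (hM : Core m M) {K : Subfield F} (hK : FldOf m M K) :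
    ∃ u ∈ Q F m, Core m (cj u M) ∧ FldOf m (cj u M) K ∧ ∀ k : Fˣ, (k : F) ∈ K → T m k ∈ cj u M := by
  have key : ∀ u ∈ Q F m, Core m (cj u M) ∧ FldOf m (cj u M) K := by
    intro u hu
    have huo : u • oi F m = oi F m := Q_le_B m hu
    refine ⟨⟨?_, ?_⟩, ⟨?_, ?_, ?_⟩⟩
    · rw [mem_cj, conj_QZ m hu]; exact hM.one
    · obtain ⟨t, ht, h1, h2, h3⟩ := hM.two
      refine ⟨u * t * u⁻¹, ?_, ?_, ?_, ?_⟩
      · rw [mem_cj]
        have : u⁻¹ * (u * t * u⁻¹) * u = t := by group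
        rwa [this]
      · have : u * t * u⁻¹ * (u * t * u⁻¹) = u * (t * t) * u⁻¹ := by group
        rw [this, h1]; group
      · intro h
        apply h2
        have : t = u⁻¹ * (u * t * u⁻¹) * u := by group
        rw [this, h]; group
      · intro h
        apply h3
        rw [mul_smul, mul_smul] at h
        have h4 : u⁻¹ • oi F m = oi F m := by rw [inv_smul_eq_iff, huo]
        rw [h4] at h
        have h5 : u • t • oi F m = u • oi F m := by rw [h, huo]
        exact smul_left_cancel u h5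
    · intro b
      rw [mem_cj, conj_QZ m hu]; exact hK.mem b
    · intro k hk
      obtain ⟨p, q, h⟩ := hK.lift k hk
      obtain ⟨p', q', h'⟩ := conj_QT m hu p q k
      refine ⟨p', q', ?_⟩
      rw [← h', mem_cj]
      have : u⁻¹ * (u * (U m p q * T m k) * u⁻¹) * u = U m p q * T m k := by group
      rwa [this]
    · intro p q k h
      rw [mem_cj] at h
      obtain ⟨p', q', h'⟩ := conj_QT m ((Q F m).inv_mem hu) p q k
      rw [inv_inv] at h'
      rw [h'] at h
      exact hK.diag p' q' k h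
  let L : Subgroup Fˣ := {
    carrier := {k | (k : F) ∈ K}
    one_mem' := K.one_mem
    mul_mem' := fun {a b} ha hb => by show ((a * b : Fˣ) : F) ∈ K; rw [Units.val_mul]; exact K.mul_mem ha hb
    inv_mem' := fun {a} ha => by show ((a⁻¹ : Fˣ) : F) ∈ K; rw [Units.val_inv_eq_inv_val]; exact K.inv_mem ha }
  obtain ⟨⟨k₀, hk₀⟩, hgen⟩ := IsCyclic.exists_generator (α := L)
  have hgen' : ∀ k : Fˣ, (k : F) ∈ K → ∃ n : ℤ, k = k₀ ^ n := by
    intro k hk
    obtain ⟨n, hn⟩ := hgen ⟨k, hk⟩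
    exact ⟨n, (congrArg Subtype.val hn).symm⟩
  by_cases h0 : (k₀ : F) = 1
  · refine ⟨1, (Q F m).one_mem, (key 1 (Q F m).one_mem).1, (key 1 (Q F m).one_mem).2, ?_⟩
    intro k hk
    obtain ⟨n, rfl⟩ := hgen' k hk
    have : k₀ = 1 := Units.ext h0
    rw [this, _root_.one_zpow, map_one]
    exact Subgroup.one_mem _
  · obtain ⟨p, q, hpq⟩ := hK.lift k₀ hk₀
    have hB : U m p q * T m k₀ ∈ B F m := (B F m).mul_mem (Q_le_B m (U_mem_Q m _ _)) (T_mem_B m _)
    have hnQ : U m p q * T m k₀ ∉ Q F m := by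
      intro h
      have h1 := (Q F m).mul_mem ((Q F m).inv_mem (U_mem_Q m p q)) h
      rw [inv_mul_cancel_left] at h1
      exact T_notin_Q m h0 h1
    obtain ⟨a, b, l, hl, hx⟩ := conj_T m hB hnQ
    have hlk : k₀ = l := by
      have h1 : U m a b * T m l * (U m a b)⁻¹ = U m a b * (T m l * (U m a b)⁻¹ * (T m l)⁻¹) * T m l := by group
      rw [h1, U_inv, T_conj_U, U_mul] at hx
      exact (UT_inj m hx).2.2
    refine ⟨(U m a b)⁻¹, (Q F m).inv_mem (U_mem_Q m a b), (key _ ((Q F m).inv_mem (U_mem_Q m a b))).1, (key _ ((Q F m).inv_mem (U_mem_Q m a b))).2, ?_⟩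
    have hT0 : T m k₀ ∈ cj (U m a b)⁻¹ M := by
      rw [mem_cj, inv_inv, hlk, ← hx]; exact hpq
    intro k hk
    obtain ⟨n, rfl⟩ := hgen' k hk
    rw [map_zpow]
    exact Subgroup.zpow_mem _ hT0 n

/-- the subfield subgroups -/
def GK (K : Subfield F) : Subgroup ↥(Cfsg.Sz F m) where
  carrier := {g | ∀ i j, mat m g i j ∈ K}
  one_mem' := by
    intro i j
    have : mat m (1 : ↥(Cfsg.Sz F m)) = 1 := rfl
    rw [this, Matrix.one_apply]
    split_ifs
    · exact K.one_mem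
    · exact K.zero_mem
  mul_mem' := by
    intro g h hg hh i j
    rw [mat_mul, Matrix.mul_apply]
    exact K.sum_mem (fun k _ => K.mul_mem (hg i k) (hh k j))
  inv_mem' := by
    intro g hg
    have hpow : ∀ n : ℕ, ∀ i j, mat m (g ^ n) i j ∈ K := by
      intro n
      induction n with
      | zero =>
        intro i j
        rw [pow_zero]
        have : mat m (1 : ↥(Cfsg.Sz F m)) = 1 := rfl
        rw [this, Matrix.one_apply]
        split_ifs
        · exact K.one_mem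
        · exact K.zero_mem
      | succ n ih =>
        intro i j
        rw [pow_succ, mat_mul, Matrix.mul_apply]
        exact K.sum_mem (fun k _ => K.mul_mem (ih i k) (hg k j))
    have h1 : g⁻¹ = g ^ (orderOf g - 1) := by
      apply inv_eq_of_mul_eq_one_left
      rw [← pow_succ, Nat.sub_add_cancel (orderOf_pos g), pow_orderOf_eq_one]
    show ∀ i j, mat m g⁻¹ i j ∈ K
    rw [h1]
    exact hpow _

theorem ff_mem (K : Subfield F) {a b : F} (ha : a ∈ K) (hb : b ∈ K) : ff m a b ∈ K := by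
  unfold ff
  exact K.add_mem (K.add_mem (K.mul_mem ha hb) (K.mul_mem (th_mem m K ha) (K.pow_mem ha 2))) (th_mem m K hb)

theorem U_mem_GK (K : Subfield F) {a b : F} (ha : a ∈ K) (hb : b ∈ K) : U m a b ∈ GK m K := by
  intro i j
  rw [mat_U]
  have h0 := K.zero_mem
  have h1 := K.one_mem
  have h2 := th_mem m K ha
  have h3 := ff_mem m K ha hb
  have h4 : b + a * th m a ∈ K := K.add_mem hb (K.mul_mem ha h2)
  fin_cases i <;> fin_cases j <;> simp [Um, h0, h1, h2, h3, h4, ha, hb]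

theorem T_mem_GK (K : Subfield F) {k : Fˣ} (hk : (k : F) ∈ K) : T m k ∈ GK m K := by
  intro i j
  rw [mat_T]
  have h0 := K.zero_mem
  have h2 := rh_mem m K hk
  have h3 := K.inv_mem h2
  have h4 := K.mul_mem hk h2
  have h5 := K.mul_mem h3 (K.inv_mem hk)
  fin_cases i <;> fin_cases j <;> simp [Hm, h0, h2, h3, h4, h5]

theorem W_mem_GK (K : Subfield F) : W F m ∈ GK m K := by
  intro i j
  rw [mat_W]
  have h0 := K.zero_mem
  have h1 := K.one_mem
  fin_cases i <;> fin_cases j <;> simp [Wm, h0, h1]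

theorem UT_mem_GK {K : Subfield F} {a b : F} {k : Fˣ} (h : U m a b * T m k ∈ GK m K) : a ∈ K ∧ b ∈ K ∧ (k : F) ∈ K := by
  have h1 : rh m (k : F) ∈ K := by
    have := h 1 1
    rw [mat_mul, mat_U, mat_T, Hm, Matrix.mul_diagonal] at this
    simpa [Um] using this
  have hk : (k : F) ∈ K := by
    have := th_mem m K h1
    rwa [th_rh'] at this
  have h2 : U m a b ∈ GK m K := by
    have := (GK m K).mul_mem h ((GK m K).inv_mem (T_mem_GK m K hk))
    rwa [mul_inv_cancel_right] at this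
  have h3 : a ∈ K := by
    have := h2 0 1
    rw [mat_U] at this
    simpa [Um] using this
  have h4 : b ∈ K := by
    have := h2 1 3
    rw [mat_U] at this
    simpa [Um] using this
  exact ⟨h3, h4, hk⟩

theorem UWUT_mem_GK {K : Subfield F} {a b c d : F} {k : Fˣ} (h : U m a b * W F m * U m c d * T m k ∈ GK m K) : a ∈ K ∧ b ∈ K ∧ c ∈ K ∧ d ∈ K ∧ (k : F) ∈ K := by
  have hcol : ∀ i, mat m (U m a b * W F m * U m c d * T m k) i 0 = (k : F) * rh m (k : F) * (![ff m a b, b, a, 1] : Fin 4 → F) i := by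
    intro i
    rw [mat_mul, mat_mul, mat_mul, mat_U, mat_W, mat_U, mat_T, Hm, Matrix.mul_diagonal]
    fin_cases i <;> simp [Um, Wm, Matrix.mul_apply, Fin.sum_univ_four] <;> ring
  have h3 := h 3 0
  have h2 := h 2 0
  have h1 := h 1 0
  rw [hcol] at h1 h2 h3
  have h3' : (k : F) * rh m (k : F) ∈ K := by simpa using h3
  have hk0 : (k : F) * rh m (k : F) ≠ 0 := mul_ne_zero k.ne_zero (fun h => k.ne_zero ((rh_eq_zero m).1 h))
  have ha : a ∈ K := by
    have h2' : (k : F) * rh m (k : F) * a ∈ K := by simpa using h2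
    have := K.mul_mem (K.inv_mem h3') h2'
    rwa [inv_mul_cancel_left₀ hk0] at this
  have hb : b ∈ K := by
    have h1' : (k : F) * rh m (k : F) * b ∈ K := by simpa using h1
    have := K.mul_mem (K.inv_mem h3') h1'
    rwa [inv_mul_cancel_left₀ hk0] at this
  have h4 : U m c d * T m k ∈ GK m K := by
    have h5 := (GK m K).mul_mem ((GK m K).inv_mem ((GK m K).mul_mem (U_mem_GK m K ha hb) (W_mem_GK m K))) h
    have : (U m a b * W F m)⁻¹ * (U m a b * W F m * U m c d * T m k) = U m c d * T m k := by group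
    rwa [this] at h5
  obtain ⟨h5, h6, h7⟩ := UT_mem_GK m h4
  exact ⟨ha, hb, h5, h6, h7⟩

theorem GK_le {K : Subfield F} {M : Subgroup ↥(Cfsg.Sz F m)} (hU : ∀ a ∈ K, ∀ b ∈ K, U m a b ∈ M) (hT : ∀ k : Fˣ, (k : F) ∈ K → T m k ∈ M) (hW : W F m ∈ M) : GK m K ≤ M := by
  intro g hg
  rcases bruhat m g with ⟨a, b, k, rfl⟩ | ⟨a, b, c, d, k, rfl⟩
  · obtain ⟨h1, h2, h3⟩ := UT_mem_GK m hg
    exact M.mul_mem (hU a h1 b h2) (hT k h3)
  · obtain ⟨h1, h2, h3, h4, h5⟩ := UWUT_mem_GK m hg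
    exact M.mul_mem (M.mul_mem (M.mul_mem (hU a h1 b h2) hW) (hU c h3 d h4)) (hT k h5)

theorem GK_top : GK m (⊤ : Subfield F) = ⊤ := by
  rw [eq_top_iff]
  intro g _ i j
  trivial

end Cfsg.Agent.H8.Suz
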