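import Mathlib
import Cfsg.Agent.H8.SzS6

set_option autoImplicit false

namespace Cfsg.Agent.H8.Suz

open Matrix Cfsg.Agent.H8.TI
open scoped Pointwise

variable {F : Type*} [Field F] [Fintype F] (m : ℕ) [H : Hyp F m]

theorem big_surj {M : Subgroup ↥(Cfsg.Sz F m)} {t : ↥(Cfsg.Sz F m)} (htM : t ∈ M) (ht : t • oi F m ≠ oi F m)
    (hc : Nat.card M = (Nat.card ((Q F m).subgroupOf M) + 1) * Nat.card ((B F m).subgroupOf M)) :
    ∀ x ∈ M, x ∈ B F m ∨ ∃ u ∈ Q F m, ∃ b ∈ B F m, u ∈ M ∧ b ∈ M ∧ x = u * t * b := by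
  let f : ((B F m).subgroupOf M) ⊕ (((Q F m).subgroupOf M) × ((B F m).subgroupOf M)) → M := fun x => match x with
    | Sum.inl b => b.1
    | Sum.inr p => p.1.1 * ⟨t, htM⟩ * p.2.1
  have hf : Function.Injective f := by
    have key : ∀ (b : ((B F m).subgroupOf M)) (p : ((Q F m).subgroupOf M) × ((B F m).subgroupOf M)), f (Sum.inl b) ≠ f (Sum.inr p) := by
      intro b p h
      have h1 : ((b.1 : M) : ↥(Cfsg.Sz F m)) = (p.1.1 : M) * t * (p.2.1 : M) := congrArg Subtype.val h
      apply ht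
      have h2 : ((b.1 : M) : ↥(Cfsg.Sz F m)) • oi F m = oi F m := (mem_B m).1 b.2
      have h3 : ((p.2.1 : M) : ↥(Cfsg.Sz F m)) • oi F m = oi F m := (mem_B m).1 p.2.2
      have h4 : ((p.1.1 : M) : ↥(Cfsg.Sz F m)) • oi F m = oi F m := Q_le_B m p.1.2
      rw [h1, mul_smul, mul_smul, h3] at h2
      exact smul_left_cancel _ (h2.trans h4.symm)
    rintro (b | p) (b' | p') h
    · have : b.1 = b'.1 := h
      rw [Subtype.ext this]
    · exact absurd h (key _ _)
    · exact absurd h.symm (key _ _)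
    · have h1 : ((p.1.1 : M) : ↥(Cfsg.Sz F m)) * t * (p.2.1 : M) = (p'.1.1 : M) * t * (p'.2.1 : M) := congrArg Subtype.val h
      have h3 : ((p.2.1 : M) : ↥(Cfsg.Sz F m)) • oi F m = oi F m := (mem_B m).1 p.2.2
      have h3' : ((p'.2.1 : M) : ↥(Cfsg.Sz F m)) • oi F m = oi F m := (mem_B m).1 p'.2.2
      have h4 : (((p'.1.1 : M) : ↥(Cfsg.Sz F m))⁻¹ * (p.1.1 : M)) • (t • oi F m) = t • oi F m := by
        have h5 : ((p.1.1 : M) : ↥(Cfsg.Sz F m)) • t • oi F m = ((p'.1.1 : M) : ↥(Cfsg.Sz F m)) • t • oi F m := by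
          have := congrArg (fun z : ↥(Cfsg.Sz F m) => z • oi F m) h1
          simp only [mul_smul, h3, h3'] at this
          exact this
        rw [mul_smul, h5, inv_smul_smul]
      have h5 : ((p'.1.1 : M) : ↥(Cfsg.Sz F m))⁻¹ * (p.1.1 : M) = 1 := by
        by_contra hne
        exact ht (Q_fix m ((Q F m).mul_mem ((Q F m).inv_mem p'.1.2) p.1.2) hne h4)
      have h6 : ((p'.1.1 : M) : ↥(Cfsg.Sz F m)) = (p.1.1 : M) := inv_mul_eq_one.1 h5
      have h7 : p.1 = p'.1 := Subtype.ext (Subtype.ext h6.symm)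
      rw [h6] at h1
      have h8 : ((p.2.1 : M) : ↥(Cfsg.Sz F m)) = (p'.2.1 : M) := mul_left_cancel h1
      have h9 : p.2 = p'.2 := Subtype.ext (Subtype.ext h8)
      exact congrArg Sum.inr (Prod.ext h7 h9)
  have hb := hf.bijective_of_nat_card_le (by
    rw [Nat.card_sum, Nat.card_prod, hc]
    exact le_of_eq (by ring))
  intro x hx
  obtain ⟨z, hz⟩ := hb.2 ⟨x, hx⟩
  rcases z with b | p
  · left
    have : (b.1 : ↥(Cfsg.Sz F m)) = x := congrArg Subtype.val hz
    rw [← this]; exact b.2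
  · right
    have : ((p.1.1 : M) : ↥(Cfsg.Sz F m)) * t * (p.2.1 : M) = x := congrArg Subtype.val hz
    exact ⟨_, p.1.2, _, p.2.2, p.1.1.2, p.2.1.2, this.symm⟩

theorem ident {M : Subgroup ↥(Cfsg.Sz F m)} {K : Subfield F} (hK : FldOf m M K) (hT : ∀ k : Fˣ, (k : F) ∈ K → T m k ∈ M)
    (hr8 : 8 ≤ Nat.card K) (hD : ∀ c, c ∈ DD m M ↔ c ∈ K) (hcard : Nat.card M = (Nat.card K * Nat.card K + 1) * (Nat.card K * Nat.card K * (Nat.card K - 1)))
    (hW : ∃ l : Fˣ, T m l * W F m ∈ M) : M = GK m K := by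
  have h2 := (two0 m : (2 : F) = 0)
  -- second coordinates
  have hsame : ∀ c d d', U m c d ∈ M → U m c d' ∈ M → d + d' ∈ K := by
    intro c d d' hd hd'
    apply (hK.mem _).2
    have h3 := M.mul_mem (M.inv_mem hd) hd'
    have h4 : (U m c d)⁻¹ * U m c d' = U m 0 (d + d') := by
      rw [inv_mul_eq_iff_eq_mul, U_mul, add_zero, mul_zero, add_zero]
      congr 1
      linear_combination (-d) * h2
    rwa [h4] at h3
  obtain ⟨b₀, hb₀⟩ := (hD 1).2 K.one_mem
  have hsc : ∀ k : Fˣ, (k : F) ∈ K → U m (k : F) ((k : F) * th m (k : F) * b₀) ∈ M := by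
    intro k hk
    have := M.mul_mem (M.mul_mem (hT k hk) hb₀) (M.inv_mem (hT k hk))
    rwa [T_conj_U, mul_one] at this
  -- an element of K other than 0, 1
  obtain ⟨k, hkK, hk0, hk1⟩ : ∃ k ∈ K, k ≠ 0 ∧ k ≠ 1 := by
    by_contra hcon
    push Not at hcon
    have hsub : (K : Set F) ⊆ {0, 1} := by
      intro x hx
      by_cases h : x = 0
      · exact Or.inl h
      · exact Or.inr (hcon x hx h)
    have h1 : (K : Set F).ncard ≤ ({0, 1} : Set F).ncard := Set.ncard_le_ncard hsub (Set.toFinite _)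
    have h2 := Set.ncard_insert_le (0 : F) {1}
    rw [Set.ncard_singleton] at h2
    have h3 : Nat.card K = (K : Set F).ncard := rfl
    omega
  have hk1' : 1 + k ≠ 0 := by
    intro h
    apply hk1
    rw [add_comm] at h
    exact eq_of_add_zero m h
  have hb : b₀ ∈ K := by
    have e1 := hsc (Units.mk0 k hk0) hkK
    have e2 := hsc (Units.mk0 (1 + k) hk1') (K.add_mem K.one_mem hkK)
    rw [Units.val_mk0] at e1 e2
    have e3 := M.mul_mem hb₀ e1
    rw [U_mul, th_one, one_mul] at e3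
    have e4 := hsame _ _ _ e3 e2
    rw [th_add, th_one] at e4
    have e5 : b₀ + k * th m k * b₀ + k + (1 + k) * (1 + th m k) * b₀ = (k + th m k) * b₀ + k := by
      linear_combination (b₀ + k * th m k * b₀) * h2
    rw [e5] at e4
    have e6 : (k + th m k) * b₀ ∈ K := by
      have := K.sub_mem e4 hkK
      rwa [add_sub_cancel_right] at this
    have e7 : k + th m k ≠ 0 := by
      intro h
      have h3 : k = th m k := eq_of_add_zero m h
      rcases th_eq_self m h3.symm with h | h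
      · exact hk0 h
      · exact hk1 h
    have e8 := K.mul_mem (K.inv_mem (K.add_mem hkK (th_mem m K hkK))) e6
    rwa [inv_mul_cancel_left₀ e7] at e8
  have hU1 : ∀ a b, U m a b ∈ M → a ∈ K ∧ b ∈ K := by
    intro a b hab
    have ha : a ∈ K := (hD a).1 ⟨b, hab⟩
    refine ⟨ha, ?_⟩
    by_cases h0 : a = 0
    · rw [h0] at hab; exact (hK.mem b).2 hab
    · have e1 := hsc (Units.mk0 a h0) ha
      have e2 := hsame _ _ _ hab e1
      rw [Units.val_mk0] at e2
      have e3 := K.sub_mem e2 (K.mul_mem (K.mul_mem ha (th_mem m K ha)) hb)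
      rwa [add_sub_cancel_right] at e3
  have hU2 : ∀ a ∈ K, ∀ b ∈ K, U m a b ∈ M := by
    intro a ha b hbK
    by_cases h0 : a = 0
    · rw [h0]; exact (hK.mem b).1 hbK
    · have e1 := hsc (Units.mk0 a h0) ha
      rw [Units.val_mk0] at e1
      have e2 := M.mul_mem e1 ((hK.mem _).1 (K.add_mem hbK (K.mul_mem (K.mul_mem ha (th_mem m K ha)) hb)))
      rw [U_mul, add_zero, mul_zero, add_zero] at e2
      have e3 : a * th m a * b₀ + (b + a * th m a * b₀) = b := by linear_combination (a * th m a * b₀) * h2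
      rwa [e3] at e2
  have hBM : ∀ x ∈ M, x ∈ B F m → x ∈ GK m K := by
    intro x hx hxB
    obtain ⟨a, b, j, rfl⟩ := fix_oi m hxB
    have hj := hK.diag a b j hx
    have h3 := M.mul_mem hx (M.inv_mem (hT j hj))
    rw [mul_inv_cancel_right] at h3
    obtain ⟨h4, h5⟩ := hU1 a b h3
    exact (GK m K).mul_mem (U_mem_GK m K h4 h5) (T_mem_GK m K hj)
  obtain ⟨l, hl⟩ := hW
  have hyoi : (T m l * W F m) • oi F m = op m 0 0 := by rw [mul_smul, W_oi, T_op0]
  have hyne : (T m l * W F m) • oi F m ≠ oi F m := by rw [hyoi]; exact op_ne_oi m _ _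
  have hβ := card_BM m hK
  have hs1 := card_QM m hK
  have hDc : Nat.card (DD m M) = Nat.card K := by
    have : (DD m M : Set F) = (K : Set F) := Set.ext hD
    show Nat.card (DD m M : Set F) = Nat.card (K : Set F)
    rw [this]
  have hsurj := big_surj m hl hyne (by rw [hβ, hs1, hDc]; exact hcard)
  have hlK : (l : F) ∈ K := by
    have hg : T m l * W F m * U m 0 1 * (T m l * W F m) ∈ M := M.mul_mem (M.mul_mem hl (hU2 0 K.zero_mem 1 K.one_mem)) hl
    have hgoi : (T m l * W F m * U m 0 1 * (T m l * W F m)) • oi F m = op m (l : F) 0 := by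
      rw [mul_smul, hyoi, mul_smul, U_op0, mul_smul, W_op m (fun h => one_ne_zero h.2)]
      have : ff m (0 : F) 1 = 1 := by
        unfold ff
        rw [th_zero, th_one]; ring
      rw [this, _root_.inv_one, mul_one, zero_mul, T_op, mul_one, mul_zero]
    rcases hsurj _ hg with h | ⟨u, hu, b, hb, huM, hbM, hgx⟩
    · exfalso
      rw [mem_B, hgoi] at h
      exact op_ne_oi m _ _ h
    · obtain ⟨a', b', rfl⟩ := hu
      have h3 : op m (l : F) 0 = op m a' b' := by
        rw [← hgoi, hgx, mul_smul, mul_smul, (mem_B m).1 hb, hyoi, U_op0]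
      rw [(op_inj m h3).1]
      exact (hU1 _ _ huM).1
  have hWM : W F m ∈ M := by
    have := M.mul_mem (M.inv_mem (hT l hlK)) hl
    rwa [inv_mul_cancel_left] at this
  apply le_antisymm
  · intro x hx
    rcases hsurj x hx with h | ⟨u, hu, b, hb, huM, hbM, rfl⟩
    · exact hBM x hx h
    · exact (GK m K).mul_mem ((GK m K).mul_mem (hBM u huM (Q_le_B m hu)) ((GK m K).mul_mem (T_mem_GK m K hlK) (W_mem_GK m K))) (hBM b hbM hb)
  · exact GK_le m hU2 hT hWM

theorem comp2_cj {X : Subgroup ↥(Cfsg.Sz F m)} (hX : Comp2 m X) (y : ↥(Cfsg.Sz F m)) : Comp2 m (cj y X) := by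
  rcases hX with ⟨x, rfl⟩ | hX
  · left
    refine ⟨y * x, ?_⟩
    ext z
    rw [mem_cj, mem_cj, mem_cj]
    have : x⁻¹ * (y⁻¹ * z * y) * x = (y * x)⁻¹ * z * (y * x) := by group
    rw [this]
  · exact Or.inr (isTor_conj m hX y)

theorem cj_cj {G : Type*} [Group G] (x y : G) (A : Subgroup G) : cj x (cj y A) = cj (x * y) A := by
  ext z
  rw [mem_cj, mem_cj, mem_cj]
  have : y⁻¹ * (x⁻¹ * z * x) * y = (x * y)⁻¹ * z * (x * y) := by group
  rw [this]

theorem cj_one {G : Type*} [Group G] (A : Subgroup G) : cj 1 A = A := by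
  ext z
  rw [mem_cj]; simp

theorem cj_mono {G : Type*} [Group G] (x : G) {A C : Subgroup G} (h : A ≤ C) : cj x A ≤ cj x C := Subgroup.map_mono h

/-- the classification statement -/
def Concl (M : Subgroup ↥(Cfsg.Sz F m)) : Prop := (∃ x, M ≤ cj x (B F m)) ∨ (∃ X : Subgroup ↥(Cfsg.Sz F m), Comp2 m X ∧ M ≤ Subgroup.normalizer (X : Set ↥(Cfsg.Sz F m))) ∨
  (∃ x, ∃ K : Subfield F, 8 ≤ Nat.card K ∧ M = cj x (GK m K))

theorem concl_cj {M : Subgroup ↥(Cfsg.Sz F m)} (y : ↥(Cfsg.Sz F m)) (h : Concl m (cj y M)) : Concl m M := by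
  have e : M = cj y⁻¹ (cj y M) := by rw [cj_cj, inv_mul_cancel, cj_one]
  rcases h with ⟨x, hx⟩ | ⟨X, hX, hle⟩ | ⟨x, K, hK, hx⟩
  · left
    refine ⟨y⁻¹ * x, ?_⟩
    rw [e, ← cj_cj]
    exact cj_mono _ hx
  · right; left
    refine ⟨cj y⁻¹ X, comp2_cj m hX _, ?_⟩
    rw [norm_cj, e]
    exact cj_mono _ hle
  · right; right
    refine ⟨y⁻¹ * x, K, hK, ?_⟩
    rw [e, hx, cj_cj]

theorem concl_core {M : Subgroup ↥(Cfsg.Sz F m)} (hM : Core m M) : Concl m M := by
  obtain ⟨K, hK⟩ := core_fld m hM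
  obtain ⟨n, hn, hnd, hn3⟩ := subfield_card (F := F) m K
  rcases hn3 with rfl | hn3
  · exact Or.inr (Or.inl (count_small m hM hK (by rw [hn, pow_one])))
  · obtain ⟨u, hu, hM', hK', hT'⟩ := normT m hM hK
    apply concl_cj m u
    have hodd : Odd n := Odd.of_dvd_nat (show Odd (2 * m + 1) from ⟨m, rfl⟩) hnd
    obtain ⟨h1, h2, h3⟩ := count_large m hM' hK' hT' hn3 hodd hn
    have h8 : 8 ≤ Nat.card K := by
      rw [hn]
      calc 8 = 2 ^ 3 := rfl
        _ ≤ 2 ^ n := Nat.pow_le_pow_right (by norm_num) hn3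
    right; right
    refine ⟨1, K, h8, ?_⟩
    rw [cj_one]
    exact ident m hK' hT' h8 h1 h2 h3

theorem concl_odd {M : Subgroup ↥(Cfsg.Sz F m)} (hM : ∀ t ∈ M, t * t = 1 → t = 1) : Concl m M := by
  by_cases hbot : M = ⊥
  · left
    refine ⟨1, ?_⟩
    rw [hbot]; exact bot_le
  · right; left
    obtain ⟨⟨g, hgM⟩, hg1⟩ := Subgroup.ne_bot_iff_exists_ne_one.1 hbot
    have hRR : ∀ y : M, y ≠ 1 → y ∈ RR m M := by
      intro y hy hcon
      obtain ⟨x, hx⟩ := hcon
      have h4 := unip_pow4 m hx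
      have h5 : ((y : ↥(Cfsg.Sz F m)) * y) * (y * y) = 1 := by
        rw [← h4]
        simp only [pow_succ, pow_zero, one_mul, mul_assoc]
      have h6 := hM _ (M.mul_mem y.2 y.2) h5
      exact hy (Subtype.ext (hM _ y.2 h6))
    have hodd : Odd (Nat.card M) := by
      by_contra hev
      rw [Nat.not_odd_iff_even, even_iff_two_dvd] at hev
      haveI := Fact.mk Nat.prime_two
      obtain ⟨y, hy⟩ := exists_prime_orderOf_dvd_card' (G := M) 2 hev
      have h1 : y ^ 2 = 1 := by rw [← hy, pow_orderOf_eq_one]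
      have h2 : (y : ↥(Cfsg.Sz F m)) * y = 1 := by
        rw [sq] at h1
        exact congrArg Subtype.val h1
      have h3 : y = 1 := Subtype.ext (hM _ y.2 h2)
      rw [h3, orderOf_one] at hy
      omega
    have hn1 : ∀ X n a, IsCls m M X n a → n = 1 := by
      intro X n a hX
      have h1 : n * a ∣ Nat.card M := by rw [← hX.norm]; exact Subgroup.card_subgroup_dvd_card _
      have h2 : Odd n := hodd.of_dvd_nat ((dvd_mul_right n a).trans h1)
      rcases dvd4 hX.dvd with h | h | h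
      · exact h
      · rw [h] at h2; exact absurd h2 (by decide)
      · rw [h] at h2; exact absurd h2 (by decide)
    have hcardRR : Nat.card (RR m M) + 1 = Nat.card M := by
      have h1 : (Set.univ : Set M) = {1} ∪ RR m M := by
        ext y
        simp only [Set.mem_univ, Set.mem_union, Set.mem_singleton_iff, true_iff]
        by_cases hy : y = 1
        · exact Or.inl hy
        · exact Or.inr (hRR y hy)
      have h2 : Disjoint ({1} : Set M) (RR m M) := by
        rw [Set.disjoint_singleton_left]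
        exact fun h => RR_ne m h rfl
      have h4 : (Set.univ : Set M).ncard = Nat.card M := Set.ncard_univ _
      rw [← h4, h1, Set.ncard_union_eq h2 (Set.toFinite _) (Set.toFinite _), Set.ncard_singleton, add_comm]
      rfl
    rcases closed_step m (closed_empty m M) with h0 | ⟨X, n, a, hX, hcl, hcard⟩
    · exfalso
      have : (⟨g, hgM⟩ : M) ∈ RR m M := hRR _ hg1
      rw [← h0] at this
      exact this
    · obtain rfl := hn1 X n a hX
      have hE : Nat.card (∅ : Set ↥M) = 0 := by simp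
      rw [hE, zero_add] at hcard
      have h5 := hX.five
      have h6 := hX.cov
      rw [one_mul] at h6
      rcases closed_step m hcl with h2 | ⟨X', n', a', hX', hcl', hcard'⟩
      · refine ⟨X, hX.comp, cls_norm_top m hX ?_⟩
        rw [h2] at hcard
        rw [← hcard] at h6
        obtain ⟨μ, hμ⟩ : ∃ μ, μ = Nat.card M := ⟨_, rfl⟩
        obtain ⟨ρ, hρ⟩ : ∃ ρ, ρ = Nat.card (RR m M) := ⟨_, rfl⟩
        rw [← hμ, ← hρ] at hcardRR h6
        rw [← hμ, one_mul]
        obtain ⟨b, rfl⟩ : ∃ b, a = b + 1 := ⟨a - 1, by omega⟩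
        rw [← hcardRR, Nat.add_sub_cancel] at h6
        rw [← hcardRR]
        nlinarith
      · exfalso
        obtain rfl := hn1 X' n' a' hX'
        have hle' := closed_le m hcl'
        rw [hcard', hcard] at hle'
        have h5' := hX'.five
        have h6' := hX'.cov
        rw [one_mul] at h6'
        obtain ⟨μ, hμ⟩ : ∃ μ, μ = Nat.card M := ⟨_, rfl⟩
        obtain ⟨c, hc⟩ : ∃ c, c = Nat.card (TI.cov (X.subgroupOf M)) := ⟨_, rfl⟩
        obtain ⟨c', hc'⟩ : ∃ c, c = Nat.card (TI.cov (X'.subgroupOf M)) := ⟨_, rfl⟩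
        rw [← hμ, ← hc] at h6
        rw [← hμ, ← hc'] at h6'
        rw [← hc, ← hc'] at hle'
        rw [← hμ] at hcardRR
        have k1 : 4 * μ ≤ 5 * c := by
          obtain ⟨b, rfl⟩ : ∃ b, a = b + 1 := ⟨a - 1, by omega⟩
          rw [Nat.add_sub_cancel] at h6
          have h7 : (4 * μ) * (b + 1) ≤ (5 * c) * (b + 1) := by nlinarith
          exact Nat.le_of_mul_le_mul_right h7 (by omega)
        have k2 : 4 * μ ≤ 5 * c' := by
          obtain ⟨b, rfl⟩ : ∃ b, a' = b + 1 := ⟨a' - 1, by omega⟩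
          rw [Nat.add_sub_cancel] at h6'
          have h7 : (4 * μ) * (b + 1) ≤ (5 * c') * (b + 1) := by nlinarith
          exact Nat.le_of_mul_le_mul_right h7 (by omega)
        omega

/-- **the subgroups of the Suzuki groups** -/
theorem subgroups (M : Subgroup ↥(Cfsg.Sz F m)) : Concl m M := by
  by_cases h : ∀ t ∈ M, t * t = 1 → t = 1
  · exact concl_odd m h
  · push Not at h
    obtain ⟨t, htM, ht2, ht1⟩ := h
    obtain ⟨p, hp, hpu⟩ := invol_fix m ht2 ht1
    haveI := pretrans F m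
    obtain ⟨x, hx⟩ := MulAction.exists_smul_eq ↥(Cfsg.Sz F m) (oi F m) p
    by_cases hall : ∀ s ∈ M, s * s = 1 → s ≠ 1 → s • p = p
    · left
      refine ⟨x, ?_⟩
      intro y hy
      rw [mem_cj, mem_B, mul_smul, mul_smul, hx, inv_smul_eq_iff, hx]
      -- y p is fixed by t
      have h1 := hall (y⁻¹ * t * y) (M.mul_mem (M.mul_mem (M.inv_mem hy) htM) hy) (by
        have : y⁻¹ * t * y * (y⁻¹ * t * y) = y⁻¹ * (t * t) * y := by group
        rw [this, ht2]; group) (conj_ne ht1)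
      rw [mul_smul, mul_smul, inv_smul_eq_iff] at h1
      exact hpu _ h1
    · push Not at hall
      obtain ⟨s, hsM, hs2, hs1, hsp⟩ := hall
      have htx : (x⁻¹ * t * x) • oi F m = oi F m := by
        rw [mul_smul, mul_smul, hx, hp, ← hx, inv_smul_smul]
      obtain ⟨b, hb⟩ := mem_Z_of_sq m htx (by
        have : x⁻¹ * t * x * (x⁻¹ * t * x) = x⁻¹ * (t * t) * x := by group
        rw [this, ht2]; group)
      have hb0 : b ≠ 0 := by
        rintro rfl
        rw [U_zero] at hb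
        exact conj_ne ht1 hb
      obtain ⟨k, hk⟩ := exists_kth m (Units.mk0 b⁻¹ (inv_ne_zero hb0))
      rw [Units.val_mk0] at hk
      apply concl_cj m (T m k * x⁻¹)
      apply concl_core
      refine ⟨?_, ?_⟩
      · rw [mem_cj]
        have h1 : T m k * (x⁻¹ * t * x) * (T m k)⁻¹ = U m 0 1 := by
          rw [hb, T_conj_U, mul_zero, hk, inv_mul_cancel₀ hb0]
        have h2 : (T m k * x⁻¹)⁻¹ * U m 0 1 * (T m k * x⁻¹) = t := by
          rw [← h1]; group
        rw [h2]; exact htM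
      · refine ⟨T m k * x⁻¹ * s * (T m k * x⁻¹)⁻¹, ?_, ?_, ?_, ?_⟩
        · rw [mem_cj]
          have : (T m k * x⁻¹)⁻¹ * (T m k * x⁻¹ * s * (T m k * x⁻¹)⁻¹) * (T m k * x⁻¹) = s := by group
          rwa [this]
        · have : T m k * x⁻¹ * s * (T m k * x⁻¹)⁻¹ * (T m k * x⁻¹ * s * (T m k * x⁻¹)⁻¹) = T m k * x⁻¹ * (s * s) * (T m k * x⁻¹)⁻¹ := by group
          rw [this, hs2]; group
        · intro h
          apply hs1
          have : s = (T m k * x⁻¹)⁻¹ * (T m k * x⁻¹ * s * (T m k * x⁻¹)⁻¹) * (T m k * x⁻¹) := by group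
          rw [this, h]; group
        · intro h
          apply hsp
          have h1 : (T m k * x⁻¹)⁻¹ • oi F m = p := by
            rw [_root_.mul_inv_rev, inv_inv, mul_smul, ← map_inv, T_oi, hx]
          rw [mul_smul, mul_smul, h1] at h
          have h3 : s • p = (T m k * x⁻¹)⁻¹ • oi F m := by rw [← h, inv_smul_smul]
          rw [h3, h1]

end Cfsg.Agent.H8.Suz
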