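import Mathlib
import Cfsg.Agent.H8.SzS7

set_option autoImplicit false

namespace Cfsg.Agent.H8.Suz

open Matrix Cfsg.Agent.H8.TI
open scoped Pointwise

variable {F : Type*} [Field F] [Fintype F] (m : ℕ) [H : Hyp F m]

section emb

variable {L : Type*} [Field L] [Fintype L] (k : ℕ) [HL : Hyp L k] (ι : L →+* F) (hdvd : 2 * k + 1 ∣ 2 * m + 1)

include H HL hdvd in
theorem th_compat (x : L) : ι (x ^ (2 ^ (k + 1))) = (ι x) ^ (2 ^ (m + 1)) := by
  obtain ⟨c, hc⟩ := hdvd
  have hodd : Odd c := by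
    have h1 : Odd ((2 * k + 1) * c) := by rw [← hc]; exact ⟨m, rfl⟩
    exact (Nat.odd_mul.1 h1).2
  obtain ⟨j, hj⟩ := hodd
  have hm : m + 1 = (k + 1) + (2 * k + 1) * j := by
    rw [hj] at hc
    nlinarith
  have hx : ∀ i : ℕ, ∀ y : L, y ^ (2 ^ ((2 * k + 1) * i)) = y := by
    intro i
    induction i with
    | zero => intro y; simp
    | succ i ih =>
      intro y
      rw [mul_add, mul_one, pow_add, pow_mul, ih, ← HL.hF, FiniteField.pow_card]
  rw [hm, ← map_pow]
  congr 1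
  rw [pow_add 2 (k + 1), pow_mul, hx]

include H HL hdvd in
theorem InS_iff (A : Matrix (Fin 4) (Fin 4) L) : InS m (A.map ι) ↔ InS k A := by
  have hι : Function.Injective (fun A : Matrix (Fin 4) (Fin 4) L => A.map ι) := Matrix.map_injective ι.injective
  have hW : (Wm L).map ι = Wm F := by
    ext i j
    fin_cases i <;> fin_cases j <;> simp [Wm]
  have h1 : Sp (A.map ι) ↔ Sp A := by
    show (A.map ι)ᵀ * Wm F * A.map ι = Wm F ↔ Aᵀ * Wm L * A = Wm L
    have h2 : (A.map ι)ᵀ * Wm F * A.map ι = (Aᵀ * Wm L * A).map ι := by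
      rw [Matrix.map_mul, Matrix.map_mul, Matrix.transpose_map, hW]
    rw [h2, ← hW]
    exact hι.eq_iff
  have h3 : Cfsg.Lie.star4 (A.map ι) = (Cfsg.Lie.star4 A).map ι := by
    ext i j
    rw [star4_apply, Matrix.map_apply, star4_apply]
    unfold mn
    simp
  have h4 : (A.map ι).map (fun x => x ^ (2 ^ (m + 1))) = (A.map (fun x => x ^ (2 ^ (k + 1)))).map ι := by
    ext i j
    simp only [Matrix.map_apply]
    exact (th_compat m k ι hdvd _).symm
  show (Sp (A.map ι) ∧ _) ↔ (Sp A ∧ _)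
  rw [h1, h3, h4]
  exact and_congr_right (fun _ => hι.eq_iff)

/-- the embedding of a smaller Suzuki group -/
def emb : ↥(Cfsg.Sz L k) →* ↥(Cfsg.Sz F m) where
  toFun g := ⟨SpecialLinearGroup.map ι g.1, (mem_Sz_iff m _).2 ((InS_iff m k ι hdvd _).2 (InS_mat k g))⟩
  map_one' := by
    apply Subtype.ext
    exact map_one (SpecialLinearGroup.map ι)
  map_mul' g h := by
    apply Subtype.ext
    exact map_mul (SpecialLinearGroup.map ι) g.1 h.1

theorem mat_emb (g : ↥(Cfsg.Sz L k)) : mat m (emb m k ι hdvd g) = (mat k g).map ι := rfl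

theorem emb_inj : Function.Injective (emb m k ι hdvd) := by
  intro g h hgh
  apply Subtype.ext
  apply Subtype.ext
  have h1 : (mat k g).map ι = (mat k h).map ι := by rw [← mat_emb m k ι hdvd, ← mat_emb m k ι hdvd, hgh]
  exact Matrix.map_injective ι.injective h1

theorem emb_range : (emb m k ι hdvd).range = GK m ι.fieldRange := by
  ext g
  constructor
  · rintro ⟨h, rfl⟩ i j
    rw [mat_emb]
    exact ⟨mat k h i j, rfl⟩
  · intro hg
    have h1 : ∀ i j, ∃ x : L, ι x = mat m g i j := fun i j => hg i j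
    choose A hA using h1
    have h2 : (Matrix.of A).map ι = mat m g := by
      ext i j
      exact hA i j
    have h3 : (Matrix.of A).det = 1 := by
      apply ι.injective
      rw [RingHom.map_det, map_one]
      have : (RingHom.mapMatrix ι) (Matrix.of A) = mat m g := h2
      rw [this]
      exact g.1.2
    obtain ⟨s, hs⟩ : ∃ s : SpecialLinearGroup (Fin 4) L, s.1 = Matrix.of A := ⟨⟨Matrix.of A, h3⟩, rfl⟩
    have h4 : s ∈ Cfsg.Sz L k := by
      apply (mem_Sz_iff k s).2
      apply (InS_iff m k ι hdvd _).1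
      rw [hs, h2]
      exact InS_mat m g
    rw [← hs] at h2
    refine ⟨⟨s, h4⟩, ?_⟩
    apply Subtype.ext
    apply Subtype.ext
    exact h2

end emb

/-- a subfield is the image of a standard field -/
theorem subfield_model (K : Subfield F) {n : ℕ} (hn : Nat.card K = 2 ^ n) (L : Type*) [Field L] [Fintype L] (hL : Fintype.card L = 2 ^ n) : ∃ ι : L →+* F, ι.fieldRange = K := by
  haveI : Fintype K := Fintype.ofFinite _
  let e : L ≃+* K := FiniteField.ringEquivOfCardEq (by rw [hL, ← Nat.card_eq_fintype_card, hn])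
  refine ⟨K.subtype.comp e.toRingHom, ?_⟩
  ext x
  constructor
  · rintro ⟨y, rfl⟩
    exact (e y).2
  · intro hx
    exact ⟨e.symm ⟨x, hx⟩, by show ((e (e.symm ⟨x, hx⟩) : K) : F) = x; rw [e.apply_symm_apply]⟩

theorem GK_iso (K : Subfield F) {k : ℕ} (hk : 1 ≤ k) (hn : Nat.card K = 2 ^ (2 * k + 1)) (L : Type*) [Field L] [Fintype L] (hL : Fintype.card L = 2 ^ (2 * k + 1)) :
    Nonempty (↥(GK m K) ≃* ↥(Cfsg.Sz L k)) := by
  haveI : Hyp L k := ⟨hk, hL⟩
  obtain ⟨ι, hι⟩ := subfield_model K hn L hL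
  have hdvd := subfield_dvd (F := F) m K hn
  have h1 := MonoidHom.ofInjective (emb_inj m k ι hdvd)
  rw [emb_range, hι] at h1
  exact ⟨h1.symm⟩

theorem GK_ne_top {K : Subfield F} (h : GK m K ≠ ⊤) : Nat.card K < Fintype.card F := by
  rw [← Nat.card_eq_fintype_card]
  have h1 : (K : Set F) ≠ Set.univ := by
    intro hK
    apply h
    have : K = ⊤ := SetLike.coe_injective hK
    rw [this, GK_top]
  have h2 : (K : Set F).ncard < (Set.univ : Set F).ncard := Set.ncard_lt_ncard (Set.ssubset_univ_iff.2 h1) (Set.toFinite _)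
  rw [Set.ncard_univ] at h2
  exact h2

theorem card_odd_exp (K : Subfield F) (h8 : 8 ≤ Nat.card K) : ∃ k, 1 ≤ k ∧ Nat.card K = 2 ^ (2 * k + 1) ∧ 2 * k + 1 ∣ 2 * m + 1 := by
  obtain ⟨n, hn, hnd, hn3⟩ := subfield_card (F := F) m K
  have hodd : Odd n := Odd.of_dvd_nat (show Odd (2 * m + 1) from ⟨m, rfl⟩) hnd
  obtain ⟨k, rfl⟩ := hodd
  refine ⟨k, ?_, hn, hnd⟩
  rcases hn3 with h | h
  · rw [hn, h] at h8; norm_num at h8
  · omega

end Cfsg.Agent.H8.Suz
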