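import Mathlib
import Cfsg.Agent.H8.SzS8

set_option autoImplicit false

namespace Cfsg.Agent.H8.Suz

open Matrix Cfsg.Agent.H8.TI
open scoped Pointwise

theorem subfield_uniq {F : Type*} [Field F] [Fintype F] (K₁ K₂ : Subfield F) (h : Nat.card K₁ = Nat.card K₂) : K₁ = K₂ := by
  classical
  haveI : Fintype K₁ := Fintype.ofFinite _
  haveI : Fintype K₂ := Fintype.ofFinite _
  obtain ⟨s, hs⟩ : ∃ s, s = Nat.card K₁ := ⟨_, rfl⟩
  have hs1 : 1 < s := by rw [hs]; exact Finite.one_lt_card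
  let P : Polynomial F := Polynomial.X ^ s - Polynomial.X
  have hP : P ≠ 0 := FiniteField.X_pow_card_sub_X_ne_zero F hs1
  have hdeg : P.natDegree = s := FiniteField.X_pow_card_sub_X_natDegree_eq F hs1
  have key : ∀ K : Subfield F, Nat.card K = s → (K : Set F) = (P.roots.toFinset : Set F) := by
    intro K hK
    haveI : Fintype K := Fintype.ofFinite _
    apply Set.eq_of_subset_of_ncard_le
    · intro x hx
      have h1 : (⟨x, hx⟩ : K) ^ Fintype.card K = ⟨x, hx⟩ := FiniteField.pow_card _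
      rw [← Nat.card_eq_fintype_card, hK] at h1
      have h2 : x ^ s = x := congrArg Subtype.val h1
      rw [Finset.mem_coe, Multiset.mem_toFinset, Polynomial.mem_roots hP, Polynomial.IsRoot.def]
      simp [P, h2]
    · rw [Set.ncard_coe_finset]
      calc P.roots.toFinset.card ≤ P.roots.card := Multiset.toFinset_card_le _
        _ ≤ P.natDegree := P.card_roots'
        _ = s := hdeg
        _ = (K : Set F).ncard := hK.symm
    · exact Finset.finite_toSet _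
  apply SetLike.coe_injective
  rw [key K₁ hs.symm, key K₂ (by rw [← h, hs])]

variable {F : Type*} [Field F] [Fintype F] (m : ℕ) [H : Hyp F m]

theorem B_comm {x y : ↥(Cfsg.Sz F m)} (hx : x ∈ B F m) (hy : y ∈ B F m) : x * y * x⁻¹ * y⁻¹ ∈ Q F m := by
  obtain ⟨a, b, k, rfl⟩ := fix_oi m hx
  obtain ⟨c, d, l, rfl⟩ := fix_oi m hy
  have hQ := U_mem_Q (F := F) m
  have e : U m a b * T m k * (U m c d * T m l) * (U m a b * T m k)⁻¹ * (U m c d * T m l)⁻¹ =
      U m a b * (T m k * U m c d * (T m k)⁻¹) * ((T m k * T m l) * (T m k)⁻¹ * (U m a b)⁻¹ * ((T m k * T m l) * (T m k)⁻¹)⁻¹) * ((T m k * T m l) * (T m k)⁻¹ * (T m l)⁻¹) * (U m c d)⁻¹ := by group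
  have e2 : T m k * T m l * (T m k)⁻¹ = T m l := by
    rw [← map_mul, mul_comm k l, map_mul, mul_inv_cancel_right]
  rw [e, e2, T_conj_U, U_inv, T_conj_U, mul_inv_cancel, mul_one, U_inv]
  exact (Q F m).mul_mem ((Q F m).mul_mem ((Q F m).mul_mem (hQ _ _) (hQ _ _)) (hQ _ _)) (hQ _ _)

/-- a Suzuki subgroup is a subfield subgroup -/
theorem suz_sub {L : Type*} [Field L] [Fintype L] (k : ℕ) [HL : Hyp L k] {S : Subgroup ↥(Cfsg.Sz F m)} (e : ↥S ≃* ↥(Cfsg.Sz L k)) :
    ∃ x, ∃ K : Subfield F, Nat.card K = 2 ^ (2 * k + 1) ∧ S = cj x (GK m K) := by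
  have hcard : Nat.card S = (2 ^ (2 * k + 1)) ^ 2 * ((2 ^ (2 * k + 1)) ^ 2 + 1) * (2 ^ (2 * k + 1) - 1) := by
    rw [Nat.card_congr e.toEquiv, card_G]
  have h8 : 8 ≤ 2 ^ (2 * k + 1) := (q_facts (F := L) k).1
  rcases subgroups m S with ⟨x, hx⟩ | ⟨X, hX, hle⟩ | ⟨x, K, hK, hx⟩
  · exfalso
    -- S is perfect, hence inside the unipotent radical
    have hperf : commutator S = ⊤ := by
      have h1 := perfect (F := L) k
      have h2 : (commutator ↥(Cfsg.Sz L k)).map e.symm.toMonoidHom = commutator S := by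
        rw [commutator_def, commutator_def, Subgroup.map_commutator, Subgroup.map_top_of_surjective _ e.symm.surjective]
      rw [← h2, h1, Subgroup.map_top_of_surjective _ e.symm.surjective]
    have hSQ : S ≤ cj x (Q F m) := by
      intro g hg
      have h1 : (⟨g, hg⟩ : S) ∈ commutator S := by rw [hperf]; trivial
      have h2 : commutator S ≤ (cj x (Q F m)).subgroupOf S := by
        rw [commutator_def, Subgroup.commutator_le]
        rintro ⟨a, ha⟩ - ⟨b, hb⟩ -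
        rw [Subgroup.mem_subgroupOf]
        show a * b * a⁻¹ * b⁻¹ ∈ cj x (Q F m)
        rw [mem_cj]
        have h3 := B_comm m (mem_cj.1 (hx ha)) (mem_cj.1 (hx hb))
        have h4 : x⁻¹ * a * x * (x⁻¹ * b * x) * (x⁻¹ * a * x)⁻¹ * (x⁻¹ * b * x)⁻¹ = x⁻¹ * (a * b * a⁻¹ * b⁻¹) * x := by group
        rwa [h4] at h3
      exact h2 h1
    obtain ⟨k₀, hk₀⟩ := exists_unit_ne (F := L) k
    have h1 : (e.symm (T k k₀) : ↥(Cfsg.Sz F m)) ^ 4 = 1 := unip_pow4 m (mem_cj.1 (hSQ (e.symm (T k k₀)).2))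
    have h2 : (T k k₀) ^ 4 = (1 : ↥(Cfsg.Sz L k)) := by
      apply e.symm.injective
      rw [map_pow, map_one]
      exact Subtype.ext h1
    rw [← map_pow, ← map_one (T k)] at h2
    have h3 := T_inj k h2
    have h4 := odd_units (F := L) k
    have h5 : k₀ ^ Nat.card Lˣ = 1 := pow_card_eq_one'
    apply hk₀
    have h6 : orderOf k₀ ∣ 4 := orderOf_dvd_of_pow_eq_one h3
    have h7 : orderOf k₀ ∣ Nat.card Lˣ := orderOf_dvd_of_pow_eq_one h5
    have h8 : Nat.Coprime (2 ^ 2) (Nat.card Lˣ) := Nat.Coprime.pow_left 2 (Nat.coprime_two_left.2 h4)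
    have h9 : orderOf k₀ ∣ 1 := by
      have h10 : Nat.gcd 4 (Nat.card Lˣ) = 1 := h8
      rw [← h10]
      exact Nat.dvd_gcd h6 h7
    rw [orderOf_eq_one_iff.1 (Nat.dvd_one.1 h9), Units.val_one]
  · exfalso
    obtain ⟨c, hc4, hc⟩ := comp2_norm m hX
    have h1 : Nat.card S ∣ c * Nat.card X := by rw [← hc]; exact Subgroup.card_dvd_of_le hle
    have h2 : 8 ∣ Nat.card S := by
      rw [hcard]
      apply Dvd.dvd.mul_right
      apply Dvd.dvd.mul_right
      rw [← pow_mul]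
      have : 2 ^ 3 ∣ 2 ^ ((2 * k + 1) * 2) := Nat.pow_dvd_pow 2 (by have := HL.hm; omega)
      exact this
    have h3 : 8 ∣ 4 * Nat.card X := (h2.trans h1).trans (Nat.mul_dvd_mul_right hc4 _)
    obtain ⟨j, hj⟩ := S3_odd (F := F) m (comp2_card m hX)
    omega
  · obtain ⟨k', hk1, hk2, hk3⟩ := card_odd_exp m K hK
    refine ⟨x, K, ?_, hx⟩
    haveI := Fact.mk Nat.prime_two
    haveI : Fintype (GaloisField 2 (2 * k' + 1)) := Fintype.ofFinite _
    have hL : Fintype.card (GaloisField 2 (2 * k' + 1)) = 2 ^ (2 * k' + 1) := by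
      rw [← Nat.card_eq_fintype_card]; exact GaloisField.card 2 _ (by omega)
    obtain ⟨e'⟩ := GK_iso m K hk1 hk2 (GaloisField 2 (2 * k' + 1)) hL
    haveI : Hyp (GaloisField 2 (2 * k' + 1)) k' := ⟨hk1, hL⟩
    have h1 : Nat.card S = (2 ^ (2 * k' + 1)) ^ 2 * ((2 ^ (2 * k' + 1)) ^ 2 + 1) * (2 ^ (2 * k' + 1) - 1) := by
      rw [hx, card_cj, Nat.card_congr e'.toEquiv, card_G]
    rw [hcard] at h1
    rw [hk2]
    have mono : ∀ a b : ℕ, 1 ≤ a → a < b → a ^ 2 * (a ^ 2 + 1) * (a - 1) < b ^ 2 * (b ^ 2 + 1) * (b - 1) := by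
      intro a b ha hab
      have h2 : a ^ 2 ≤ b ^ 2 := Nat.pow_le_pow_left hab.le 2
      have h3 : a ^ 2 * (a ^ 2 + 1) ≤ b ^ 2 * (b ^ 2 + 1) := Nat.mul_le_mul h2 (by omega)
      have hb : 0 < b := by omega
      have h4 : 0 < b ^ 2 * (b ^ 2 + 1) := by positivity
      calc a ^ 2 * (a ^ 2 + 1) * (a - 1) ≤ b ^ 2 * (b ^ 2 + 1) * (a - 1) := Nat.mul_le_mul_right _ h3
        _ < b ^ 2 * (b ^ 2 + 1) * (b - 1) := Nat.mul_lt_mul_of_pos_left (by omega) h4
    rcases lt_trichotomy (2 ^ (2 * k' + 1)) (2 ^ (2 * k + 1)) with h | h | h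
    · have := mono _ _ Nat.one_le_two_pow h; omega
    · exact h
    · have := mono _ _ Nat.one_le_two_pow h; omega

end Cfsg.Agent.H8.Suz
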