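import Mathlib
import Cfsg.Agent.H8.SzS9

set_option autoImplicit false

namespace Cfsg.Agent.H8.Suz

open Matrix Cfsg.Agent.H8.TI
open scoped Pointwise

/-- double counting -/
theorem card_double {α β : Type*} [Finite α] [Finite β] (R : α → β → Prop) (p q : ℕ) (h1 : ∀ a, Nat.card {b // R a b} = p) (h2 : ∀ b, Nat.card {a // R a b} = q) :
    Nat.card α * p = Nat.card β * q := by
  classical
  haveI : Fintype α := Fintype.ofFinite α
  haveI : Fintype β := Fintype.ofFinite β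
  have e1 : Nat.card (Σ a : α, {b // R a b}) = Nat.card α * p := by
    rw [Nat.card_sigma, Finset.sum_congr rfl (fun a _ => h1 a), Finset.sum_const, smul_eq_mul, Finset.card_univ, Nat.card_eq_fintype_card]
  have e2 : Nat.card (Σ b : β, {a // R a b}) = Nat.card β * q := by
    rw [Nat.card_sigma, Finset.sum_congr rfl (fun a _ => h2 a), Finset.sum_const, smul_eq_mul, Finset.card_univ, Nat.card_eq_fintype_card]
  rw [← e1, ← e2]
  exact Nat.card_congr ⟨fun x => ⟨x.2.1, ⟨x.1, x.2.2⟩⟩, fun x => ⟨x.2.1, ⟨x.1, x.2.2⟩⟩, fun _ => rfl, fun _ => rfl⟩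

section general

variable {G : Type*} [Group G] [Finite G]

/-- the elements conjugating `x` to a given conjugate -/
theorem card_conj_eq (x : G) {h : G} (hh : ∃ g, h = g⁻¹ * x * g) : Nat.card {g : G // h = g⁻¹ * x * g} = Nat.card (Subgroup.centralizer {x}) := by
  obtain ⟨g₀, rfl⟩ := hh
  symm
  refine Nat.card_congr (Equiv.ofBijective (fun c : Subgroup.centralizer {x} => (⟨c * g₀, ?_⟩ : {g : G // g₀⁻¹ * x * g₀ = g⁻¹ * x * g})) ⟨?_, ?_⟩)
  · have h1 := Subgroup.mem_centralizer_singleton_iff.1 c.2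
    have h2 : (c : G)⁻¹ * x * c = x := by
      rw [mul_assoc, ← h1]; group
    calc g₀⁻¹ * x * g₀ = g₀⁻¹ * ((c : G)⁻¹ * x * c) * g₀ := by rw [h2]
      _ = _ := by group
  · intro c d h
    have h1 : (c : G) * g₀ = d * g₀ := congrArg Subtype.val h
    exact Subtype.ext (mul_right_cancel h1)
  · rintro ⟨g, hg⟩
    refine ⟨⟨g * g₀⁻¹, ?_⟩, ?_⟩
    · rw [Subgroup.mem_centralizer_singleton_iff]
      have h2 : x = g₀ * (g⁻¹ * x * g) * g₀⁻¹ := by rw [← hg]; group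
      calc g * g₀⁻¹ * x = g * g₀⁻¹ * (g₀ * (g⁻¹ * x * g) * g₀⁻¹) := by rw [← h2]
        _ = x * (g * g₀⁻¹) := by group
    · apply Subtype.ext
      show g * g₀⁻¹ * g₀ = g
      group

theorem card_conj_into (N : Subgroup G) (x : G) :
    Nat.card {g : G // g⁻¹ * x * g ∈ N} = Nat.card (Subgroup.centralizer {x}) * Nat.card {h : G // h ∈ N ∧ ∃ g, h = g⁻¹ * x * g} := by
  have h := card_double (α := {g : G // g⁻¹ * x * g ∈ N}) (β := {h : G // h ∈ N ∧ ∃ g, h = g⁻¹ * x * g}) (fun g h => (h : G) = g.1⁻¹ * x * g.1) 1 (Nat.card (Subgroup.centralizer {x})) ?_ ?_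
  · rw [mul_one] at h
    rw [h, mul_comm]
  · rintro ⟨g, hg⟩
    rw [Nat.card_eq_one_iff_unique]
    refine ⟨⟨?_⟩, ⟨⟨⟨g⁻¹ * x * g, hg, g, rfl⟩, rfl⟩⟩⟩
    rintro ⟨⟨a, ha⟩, ha'⟩ ⟨⟨b, hb⟩, hb'⟩
    have h1 : a = g⁻¹ * x * g := ha'
    have h2 : b = g⁻¹ * x * g := hb'
    apply Subtype.ext
    apply Subtype.ext
    exact h1.trans h2.symm
  · rintro ⟨h, hN, hh⟩
    rw [← card_conj_eq x hh]
    refine Nat.card_congr ⟨fun a => ⟨a.1.1, a.2⟩, fun a => ⟨⟨a.1, ?_⟩, a.2⟩, fun _ => rfl, fun _ => rfl⟩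
    have h1 : h = a.1⁻¹ * x * a.1 := a.2
    rw [← h1]; exact hN

theorem card_fixed_coset (N : Subgroup G) (x : G) : Nat.card {c : G ⧸ N // x • c = c} * Nat.card N = Nat.card {g : G // g⁻¹ * x * g ∈ N} := by
  have hfix : ∀ g : G, x • (QuotientGroup.mk g : G ⧸ N) = QuotientGroup.mk g ↔ g⁻¹ * x * g ∈ N := by
    intro g
    have h1 : x • (QuotientGroup.mk g : G ⧸ N) = QuotientGroup.mk (x * g) := rfl
    rw [h1, eq_comm, QuotientGroup.eq, ← mul_assoc]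
  rw [← Nat.card_prod]
  refine Nat.card_congr (Equiv.ofBijective (fun p : {c : G ⧸ N // x • c = c} × N => (⟨Quotient.out p.1.1 * p.2, ?_⟩ : {g : G // g⁻¹ * x * g ∈ N})) ⟨?_, ?_⟩)
  · rw [← hfix]
    have h1 : (QuotientGroup.mk (Quotient.out p.1.1 * p.2.1) : G ⧸ N) = p.1.1 := by
      rw [QuotientGroup.mk_mul_of_mem _ p.2.2]
      exact QuotientGroup.out_eq' p.1.1
    rw [h1]; exact p.1.2
  · rintro ⟨⟨c, hc⟩, n⟩ ⟨⟨d, hd⟩, k⟩ h
    have h1 : Quotient.out c * (n : G) = Quotient.out d * (k : G) := congrArg Subtype.val h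
    have h2 : c = d := by
      have e1 : (QuotientGroup.mk (Quotient.out c * (n : G)) : G ⧸ N) = c := by
        rw [QuotientGroup.mk_mul_of_mem _ n.2]; exact QuotientGroup.out_eq' c
      have e2 : (QuotientGroup.mk (Quotient.out d * (k : G)) : G ⧸ N) = d := by
        rw [QuotientGroup.mk_mul_of_mem _ k.2]; exact QuotientGroup.out_eq' d
      rw [← e1, ← e2, h1]
    subst h2
    have h3 : n = k := Subtype.ext (mul_left_cancel h1)
    rw [h3]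
  · rintro ⟨g, hg⟩
    refine ⟨⟨⟨QuotientGroup.mk g, (hfix g).2 hg⟩, ⟨(Quotient.out (QuotientGroup.mk g : G ⧸ N))⁻¹ * g, ?_⟩⟩, ?_⟩
    · rw [← QuotientGroup.eq]
      exact QuotientGroup.out_eq' _
    · apply Subtype.ext
      show Quotient.out (QuotientGroup.mk g : G ⧸ N) * ((Quotient.out (QuotientGroup.mk g : G ⧸ N))⁻¹ * g) = g
      group

end general

variable {F : Type*} [Field F] [Fintype F] (m : ℕ) [H : Hyp F m]

/-! ### structure of the normalizers of tori -/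

theorem cent_of_commute {X : Subgroup ↥(Cfsg.Sz F m)} (hX : Comp2 m X) {s t : ↥(Cfsg.Sz F m)} (hs : ∀ a ∈ X, s * a * s⁻¹ = a⁻¹) (ht : ∀ a ∈ X, t * a * t⁻¹ = a⁻¹) : s * t⁻¹ ∈ X := by
  obtain ⟨a, ha, ha1⟩ := comp_ne_bot m (Or.inr hX)
  rw [comp2_cent m hX ha ha1, Subgroup.mem_centralizer_singleton_iff]
  have h1 := hs a⁻¹ (X.inv_mem ha)
  have h2 := ht a⁻¹ (X.inv_mem ha)
  rw [inv_inv] at h1 h2
  -- t⁻¹ a t = a⁻¹
  have h3 : t⁻¹ * a * t = a⁻¹ := by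
    calc t⁻¹ * a * t = t⁻¹ * (t * a⁻¹ * t⁻¹) * t := by rw [h2]
      _ = a⁻¹ := by group
  calc s * t⁻¹ * a = s * (t⁻¹ * a * t) * t⁻¹ := by group
    _ = s * a⁻¹ * t⁻¹ := by rw [h3]
    _ = (s * a⁻¹ * s⁻¹) * (s * t⁻¹) := by group
    _ = a * (s * t⁻¹) := by rw [h1]

theorem conj_invol {G : Type*} [Group G] {t y : G} (t2 : t * t = 1) (t1 : t ≠ 1) : (y * t * y⁻¹) * (y * t * y⁻¹) = 1 ∧ y * t * y⁻¹ ≠ 1 := by
  constructor
  · calc (y * t * y⁻¹) * (y * t * y⁻¹) = y * (t * t) * y⁻¹ := by group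
      _ = 1 := by rw [t2]; group
  · intro h
    apply t1
    have : t = y⁻¹ * (y * t * y⁻¹) * y := by group
    rw [this, h]; group

theorem norm_comm {X : Subgroup ↥(Cfsg.Sz F m)} (hX : Comp2 m X) {t : ↥(Cfsg.Sz F m)} (ht : t ∈ Subgroup.normalizer (X : Set ↥(Cfsg.Sz F m))) (t2 : t * t = 1) (t1 : t ≠ 1)
    {y : ↥(Cfsg.Sz F m)} (hy : y ∈ Subgroup.normalizer (X : Set ↥(Cfsg.Sz F m))) : y * t * y⁻¹ * t⁻¹ ∈ X := by
  obtain ⟨s2, s1⟩ := conj_invol (y := y) t2 t1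
  apply cent_of_commute m hX
  · intro a ha
    exact invol_inverts m hX (Subgroup.mul_mem _ (Subgroup.mul_mem _ hy ht) (Subgroup.inv_mem _ hy)) s2 s1 ha
  · intro a ha
    exact invol_inverts m hX ht t2 t1 ha

theorem odd_root {X : Subgroup ↥(Cfsg.Sz F m)} (hX : Comp2 m X) {v : ↥(Cfsg.Sz F m)} (hv : v ∈ X) : ∃ u ∈ X, u * u = v := by
  obtain ⟨n, hn⟩ := S3_odd (F := F) m (comp2_card m hX)
  have h5 : v ^ Nat.card X = 1 := congrArg Subtype.val (pow_card_eq_one' (G := X) (x := ⟨v, hv⟩))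
  refine ⟨v ^ (n + 1), X.pow_mem hv _, ?_⟩
  rw [← pow_add]
  have : n + 1 + (n + 1) = (2 * n + 1) + 1 := by ring
  rw [this, ← hn, pow_succ, h5, one_mul]

theorem norm_split {X : Subgroup ↥(Cfsg.Sz F m)} (hX : Comp2 m X) {t : ↥(Cfsg.Sz F m)} (ht : t ∈ Subgroup.normalizer (X : Set ↥(Cfsg.Sz F m))) (t2 : t * t = 1) (t1 : t ≠ 1)
    {y : ↥(Cfsg.Sz F m)} (hy : y ∈ Subgroup.normalizer (X : Set ↥(Cfsg.Sz F m))) : ∃ u ∈ X, u * t * u⁻¹ = y * t * y⁻¹ := by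
  obtain ⟨u, hu, huv⟩ := odd_root m hX (norm_comm m hX ht t2 t1 hy)
  refine ⟨u, hu, ?_⟩
  have h1 := invol_inverts m hX ht t2 t1 (X.inv_mem hu)
  rw [inv_inv] at h1
  calc u * t * u⁻¹ = u * (t * u⁻¹ * t⁻¹) * t := by group
    _ = u * u * t := by rw [h1]
    _ = y * t * y⁻¹ := by rw [huv]; group

theorem cap_cent {X : Subgroup ↥(Cfsg.Sz F m)} (hX : Comp2 m X) {t : ↥(Cfsg.Sz F m)} (ht : t ∈ Subgroup.normalizer (X : Set ↥(Cfsg.Sz F m))) (t2 : t * t = 1) (t1 : t ≠ 1)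
    {u : ↥(Cfsg.Sz F m)} (hu : u ∈ X) (hc : u * t = t * u) : u = 1 := by
  have h1 := invol_inverts m hX ht t2 t1 hu
  rw [← hc] at h1
  apply odd_card_elt m hX hu
  have h2 : u * t * t⁻¹ = u := by group
  rw [h2] at h1
  nth_rewrite 2 [h1]
  exact mul_inv_cancel u

/-- the complement -/
theorem card_compl {X : Subgroup ↥(Cfsg.Sz F m)} (hX : Comp2 m X) {t : ↥(Cfsg.Sz F m)} (ht : t ∈ Subgroup.normalizer (X : Set ↥(Cfsg.Sz F m))) (t2 : t * t = 1) (t1 : t ≠ 1) :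
    Nat.card (Subgroup.normalizer (X : Set ↥(Cfsg.Sz F m)) ⊓ Subgroup.centralizer {t} : Subgroup ↥(Cfsg.Sz F m)) * Nat.card X = Nat.card (Subgroup.normalizer (X : Set ↥(Cfsg.Sz F m))) := by
  rw [← Nat.card_prod]
  refine Nat.card_congr (Equiv.ofBijective (fun p : (Subgroup.normalizer (X : Set ↥(Cfsg.Sz F m)) ⊓ Subgroup.centralizer {t} : Subgroup ↥(Cfsg.Sz F m)) × X =>
    (⟨p.2.1 * p.1.1, Subgroup.mul_mem _ (Subgroup.le_normalizer p.2.2) p.1.2.1⟩ : Subgroup.normalizer (X : Set ↥(Cfsg.Sz F m)))) ⟨?_, ?_⟩)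
  · rintro ⟨⟨w, hw⟩, ⟨u, hu⟩⟩ ⟨⟨w', hw'⟩, ⟨u', hu'⟩⟩ h
    have h1 : u * w = u' * w' := congrArg Subtype.val h
    have h2 : u'⁻¹ * u = w' * w⁻¹ := by
      calc u'⁻¹ * u = u'⁻¹ * (u * w) * w⁻¹ := by group
        _ = u'⁻¹ * (u' * w') * w⁻¹ := by rw [h1]
        _ = w' * w⁻¹ := by group
    have h3 : w' * w⁻¹ ∈ Subgroup.centralizer {t} := Subgroup.mul_mem _ hw'.2 (Subgroup.inv_mem _ hw.2)
    rw [← h2] at h3
    have h4 := cap_cent m hX ht t2 t1 (X.mul_mem (X.inv_mem hu') hu) (Subgroup.mem_centralizer_singleton_iff.1 h3)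
    have h5 : u = u' := by
      have : u = u' * (u'⁻¹ * u) := by group
      rw [this, h4, mul_one]
    subst h5
    have h6 : w = w' := mul_left_cancel h1
    subst h6
    rfl
  · rintro ⟨y, hy⟩
    obtain ⟨u, hu, huy⟩ := norm_split m hX ht t2 t1 hy
    refine ⟨⟨⟨u⁻¹ * y, Subgroup.mul_mem _ (Subgroup.inv_mem _ (Subgroup.le_normalizer hu)) hy, ?_⟩, ⟨u, hu⟩⟩, ?_⟩
    · have h1 : u⁻¹ * y * t = t * (u⁻¹ * y) := by
        calc u⁻¹ * y * t = u⁻¹ * (y * t * y⁻¹) * y := by group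
          _ = u⁻¹ * (u * t * u⁻¹) * y := by rw [huy]
          _ = t * (u⁻¹ * y) := by group
      exact Subgroup.mem_centralizer_singleton_iff.2 h1
    · apply Subtype.ext
      show u * (u⁻¹ * y) = y
      group

/-- number of involutions of the normalizer -/
theorem card_norm_invol {X : Subgroup ↥(Cfsg.Sz F m)} (hX : Comp2 m X) {t : ↥(Cfsg.Sz F m)} (ht : t ∈ Subgroup.normalizer (X : Set ↥(Cfsg.Sz F m))) (t2 : t * t = 1) (t1 : t ≠ 1) :
    Nat.card {h : ↥(Cfsg.Sz F m) // h ∈ Subgroup.normalizer (X : Set ↥(Cfsg.Sz F m)) ∧ h * h = 1 ∧ h ≠ 1} = Nat.card X := by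
  symm
  have hinv : ∀ u ∈ X, (u * t) * (u * t) = 1 := by
    intro u hu
    have h1 := invol_inverts m hX ht t2 t1 hu
    have hi : t⁻¹ = t := inv_eq_of_mul_eq_one_left t2
    rw [hi] at h1
    calc u * t * (u * t) = u * (t * u * t) := by group
      _ = 1 := by rw [h1]; group
  refine Nat.card_congr (Equiv.ofBijective (fun u : X => (⟨u.1 * t, Subgroup.mul_mem _ (Subgroup.le_normalizer u.2) ht, hinv u.1 u.2, ?_⟩ :
    {h : ↥(Cfsg.Sz F m) // h ∈ Subgroup.normalizer (X : Set ↥(Cfsg.Sz F m)) ∧ h * h = 1 ∧ h ≠ 1})) ⟨?_, ?_⟩)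
  · intro h
    have h1 : t ∈ X := by
      have : t = (u : ↥(Cfsg.Sz F m))⁻¹ := by
        rw [eq_comm, inv_eq_iff_mul_eq_one]; exact h
      rw [this]; exact X.inv_mem u.2
    exact t1 (odd_card_elt m hX h1 t2)
  · intro u v h
    have h1 : (u : ↥(Cfsg.Sz F m)) * t = v * t := congrArg Subtype.val h
    exact Subtype.ext (mul_right_cancel h1)
  · rintro ⟨h, hN, h2, h1⟩
    refine ⟨⟨h * t⁻¹, ?_⟩, ?_⟩
    · exact cent_of_commute m hX (fun a ha => invol_inverts m hX hN h2 h1 ha) (fun a ha => invol_inverts m hX ht t2 t1 ha)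
    · apply Subtype.ext
      show h * t⁻¹ * t = h
      group

theorem cent_eq {g : ↥(Cfsg.Sz F m)} (hg : g ∈ Z F m) (h1 : g ≠ 1) : Subgroup.centralizer {g} = Q F m := by
  apply le_antisymm (cent_Q m (Z_le_Q m hg) h1)
  rintro _ ⟨a, b, rfl⟩
  obtain ⟨c, rfl⟩ := hg
  rw [Subgroup.mem_centralizer_singleton_iff, U_mul, U_mul, mul_zero, add_zero, zero_add, th_zero, zero_mul, add_zero, add_zero, add_comm]

theorem norm_cap_B {X : Subgroup ↥(Cfsg.Sz F m)} (hX : Comp2 m X) {t : ↥(Cfsg.Sz F m)} (ht : t ∈ Subgroup.normalizer (X : Set ↥(Cfsg.Sz F m))) (t1 : t ≠ 1) (htZ : t ∈ Z F m) :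
    Subgroup.normalizer (X : Set ↥(Cfsg.Sz F m)) ⊓ B F m = Subgroup.normalizer (X : Set ↥(Cfsg.Sz F m)) ⊓ Subgroup.centralizer {t} := by
  have t2 : t * t = 1 := by
    obtain ⟨c, rfl⟩ := htZ
    exact U0_sq' m c
  apply le_antisymm
  · rintro y ⟨hy, hyB⟩
    refine ⟨hy, ?_⟩
    have h1 := norm_comm m hX ht t2 t1 hy
    have h2 : y * t * y⁻¹ * t⁻¹ ∈ Q F m := (Q F m).mul_mem (conj_Q m hyB (Z_le_Q m htZ)) ((Q F m).inv_mem (Z_le_Q m htZ))
    have h3 : y * t * y⁻¹ * t⁻¹ = 1 := by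
      by_contra hne
      exact comp2_not_unip m hX h1 hne ⟨1, by simpa using h2⟩
    have h4 : y * t = t * y := by
      calc y * t = (y * t * y⁻¹ * t⁻¹) * t * y := by group
        _ = t * y := by rw [h3, one_mul]
    exact Subgroup.mem_centralizer_singleton_iff.2 h4
  · rintro y ⟨hy, hyC⟩
    refine ⟨hy, ?_⟩
    rw [cent_eq m htZ t1] at hyC
    exact Q_le_B m hyC

/-- uniqueness of the torus normalized by an involution and a non-commuting element -/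
theorem norm_uniq {X Y : Subgroup ↥(Cfsg.Sz F m)} (hX : Comp2 m X) (hY : Comp2 m Y) {t y : ↥(Cfsg.Sz F m)} (t2 : t * t = 1) (t1 : t ≠ 1)
    (htX : t ∈ Subgroup.normalizer (X : Set ↥(Cfsg.Sz F m))) (htY : t ∈ Subgroup.normalizer (Y : Set ↥(Cfsg.Sz F m)))
    (hyX : y ∈ Subgroup.normalizer (X : Set ↥(Cfsg.Sz F m))) (hyY : y ∈ Subgroup.normalizer (Y : Set ↥(Cfsg.Sz F m))) (hne : y * t ≠ t * y) : X = Y := by
  have h1 := norm_comm m hX htX t2 t1 hyX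
  have h2 := norm_comm m hY htY t2 t1 hyY
  apply comp_uniq m (Or.inr hX) (Or.inr hY) h1 h2
  intro h3
  apply hne
  calc y * t = (y * t * y⁻¹ * t⁻¹) * t * y := by group
    _ = t * y := by rw [h3, one_mul]

/-- all involutions are conjugate -/
theorem invol_conj {t s : ↥(Cfsg.Sz F m)} (t2 : t * t = 1) (t1 : t ≠ 1) (s2 : s * s = 1) (s1 : s ≠ 1) : ∃ g, s = g⁻¹ * t * g := by
  obtain ⟨x, b, hx⟩ := invol_unip m t2 t1
  obtain ⟨y, c, hy⟩ := invol_unip m s2 s1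
  have hb : b ≠ 0 := by
    rintro rfl
    rw [U_zero] at hx
    exact conj_ne t1 hx
  have hc : c ≠ 0 := by
    rintro rfl
    rw [U_zero] at hy
    exact conj_ne s1 hy
  obtain ⟨k, hk⟩ := exists_kth m (Units.mk0 (c * b⁻¹) (mul_ne_zero hc (inv_ne_zero hb)))
  rw [Units.val_mk0] at hk
  have h1 : T m k * U m 0 b * (T m k)⁻¹ = U m 0 c := by
    rw [T_conj_U, mul_zero, hk]
    congr 1
    field_simp
  refine ⟨x * (T m k)⁻¹ * y⁻¹, ?_⟩
  have e1 : s = y * U m 0 c * y⁻¹ := by rw [← hy]; group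
  rw [e1, ← h1, ← hx]; group

end Cfsg.Agent.H8.Suz
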