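import Mathlib
import Cfsg.Agent.H8.SzT1

set_option autoImplicit false

namespace Cfsg.Agent.H8.Suz

open Matrix Cfsg.Agent.H8.TI
open scoped Pointwise

variable {F : Type*} [Field F] [Fintype F] (m : ℕ) [H : Hyp F m]

/-! ### solvability -/

theorem sol_of_le {G : Type*} [Group G] {A C : Subgroup G} (h : A ≤ C) (hC : Group.IsSolvable C) : Group.IsSolvable A :=
  solvable_of_solvable_injective (Subgroup.inclusion_injective h)

theorem sol_pgroup {G : Type*} [Group G] [Finite G] {p : ℕ} [Fact p.Prime] (h : IsPGroup p G) : Group.IsSolvable G := by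
  haveI := h.isNilpotent
  infer_instance

theorem sol_ext {G : Type*} [Group G] (N : Subgroup G) [N.Normal] (h1 : Group.IsSolvable N) (h2 : Group.IsSolvable (G ⧸ N)) : Group.IsSolvable G := by
  haveI := h1
  haveI := h2
  exact solvable_of_ker_le_range N.subtype (QuotientGroup.mk' N) (by rw [QuotientGroup.ker_mk', Subgroup.range_subtype])

theorem sol_B : Group.IsSolvable (B F m) := by
  haveI := Fact.mk Nat.prime_two
  have hn : (( Q F m).subgroupOf (B F m)).Normal := by
    constructor
    rintro ⟨n, hn⟩ hnQ ⟨g, hg⟩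
    rw [Subgroup.mem_subgroupOf] at hnQ ⊢
    exact conj_Q m hg hnQ
  have h1 : Group.IsSolvable (Q F m) := sol_pgroup (isPGroup_Q (F := F) m)
  haveI := h1
  have h2 : Group.IsSolvable ((Q F m).subgroupOf (B F m)) :=
    solvable_of_solvable_injective (f := ((Subgroup.subgroupOfEquivOfLe (Q_le_B (F := F) m)).toMonoidHom)) (MulEquiv.injective _)
  apply sol_ext _ h2
  apply isSolvable_of_comm
  intro x' y'
  obtain ⟨⟨x, hx⟩, rfl⟩ := QuotientGroup.mk_surjective x'
  obtain ⟨⟨y, hy⟩, rfl⟩ := QuotientGroup.mk_surjective y'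
  rw [← QuotientGroup.mk_mul, ← QuotientGroup.mk_mul, QuotientGroup.eq, Subgroup.mem_subgroupOf]
  have h3 := B_comm m ((B F m).inv_mem hy) ((B F m).inv_mem hx)
  have e : y⁻¹ * x⁻¹ * y⁻¹⁻¹ * x⁻¹⁻¹ = (x * y)⁻¹ * (y * x) := by group
  rw [e] at h3
  exact h3

theorem sol_norm {X : Subgroup ↥(Cfsg.Sz F m)} (hX : Comp2 m X) : Group.IsSolvable (Subgroup.normalizer (X : Set ↥(Cfsg.Sz F m))) := by
  haveI := Fact.mk Nat.prime_two
  have hn : (X.subgroupOf (Subgroup.normalizer (X : Set ↥(Cfsg.Sz F m)))).Normal := (Subgroup.normal_subgroupOf_iff_le_normalizer Subgroup.le_normalizer).2 le_rfl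
  haveI := comp2_cyclic m hX
  letI := IsCyclic.commGroup (α := X)
  have h1 : Group.IsSolvable X := isSolvable_of_comm (fun a b => mul_comm a b)
  haveI := h1
  have h2 : Group.IsSolvable (X.subgroupOf (Subgroup.normalizer (X : Set ↥(Cfsg.Sz F m)))) :=
    solvable_of_solvable_injective (f := ((Subgroup.subgroupOfEquivOfLe (Subgroup.le_normalizer (H := X))).toMonoidHom)) (MulEquiv.injective _)
  apply sol_ext _ h2
  obtain ⟨c, hc, hc2⟩ := comp2_norm m hX
  have h3 := Subgroup.card_eq_card_quotient_mul_card_subgroup (X.subgroupOf (Subgroup.normalizer (X : Set ↥(Cfsg.Sz F m))))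
  rw [Nat.card_congr (Subgroup.subgroupOfEquivOfLe (Subgroup.le_normalizer (H := X))).toEquiv, hc2] at h3
  have h4 := Nat.eq_of_mul_eq_mul_right Nat.card_pos h3
  have hc3 : c ∣ 2 ^ 2 := hc
  obtain ⟨k, -, hk⟩ := (Nat.dvd_prime_pow Nat.prime_two).1 hc3
  apply sol_pgroup (p := 2)
  apply IsPGroup.of_card (n := k)
  rw [← h4, hk]

theorem sol_cj {G : Type*} [Group G] (g : G) {A : Subgroup G} (hA : Group.IsSolvable A) : Group.IsSolvable (cj g A) := by
  haveI := hA
  exact solvable_of_solvable_injective (f := ((A.equivMapOfInjective _ (MulAut.conj g).injective).symm.toMonoidHom)) (MulEquiv.injective _)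

theorem G_not_sol : ¬ Group.IsSolvable ↥(Cfsg.Sz F m) := by
  intro h
  haveI := simple (F := F) m
  haveI := h
  have := Group.IsSolvable.commutator_lt_top_of_nontrivial ↥(Cfsg.Sz F m)
  rw [perfect] at this
  exact lt_irrefl _ this

theorem solv_iff (hp : (2 * m + 1).Prime) (x y : ↥(Cfsg.Sz F m)) : Group.IsSolvable ↥(Subgroup.closure ({x, y} : Set ↥(Cfsg.Sz F m))) ↔
    (∃ g, x ∈ cj g (B F m) ∧ y ∈ cj g (B F m)) ∨ (∃ X : Subgroup ↥(Cfsg.Sz F m), Comp2 m X ∧ x ∈ Subgroup.normalizer (X : Set ↥(Cfsg.Sz F m)) ∧ y ∈ Subgroup.normalizer (X : Set ↥(Cfsg.Sz F m))) := by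
  have hx : x ∈ Subgroup.closure ({x, y} : Set ↥(Cfsg.Sz F m)) := Subgroup.subset_closure (by simp)
  have hy : y ∈ Subgroup.closure ({x, y} : Set ↥(Cfsg.Sz F m)) := Subgroup.subset_closure (by simp)
  constructor
  · intro h
    rcases subgroups m (Subgroup.closure ({x, y} : Set ↥(Cfsg.Sz F m))) with ⟨g, hg⟩ | ⟨X, hX, hle⟩ | ⟨g, K, hK, hg⟩
    · exact Or.inl ⟨g, hg hx, hg hy⟩
    · exact Or.inr ⟨X, hX, hle hx, hle hy⟩
    · exfalso
      obtain ⟨k, hk, hk1, hk2⟩ := card_odd_exp m K hK
      have hk3 : 2 * k + 1 = 2 * m + 1 := by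
        rcases (Nat.dvd_prime hp).1 hk2 with h | h
        · omega
        · exact h
      have h1 : GK m K = ⊤ := by
        by_contra hne
        have := GK_ne_top m hne
        rw [hk1, hk3, H.hF] at this
        exact lt_irrefl _ this
      rw [hg, h1] at h
      have h2 : cj g (⊤ : Subgroup ↥(Cfsg.Sz F m)) = ⊤ := by
        rw [eq_top_iff]
        intro z _
        rw [mem_cj]; trivial
      rw [h2] at h
      haveI := h
      exact G_not_sol (F := F) m (solvable_of_solvable_injective (f := (Subgroup.topEquiv (G := ↥(Cfsg.Sz F m))).symm.toMonoidHom) (MulEquiv.injective _))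
  · have key : ∀ P : Subgroup ↥(Cfsg.Sz F m), x ∈ P → y ∈ P → Group.IsSolvable P → Group.IsSolvable ↥(Subgroup.closure ({x, y} : Set ↥(Cfsg.Sz F m))) := by
      intro P hx hy hP
      apply sol_of_le _ hP
      rw [Subgroup.closure_le]
      rintro z (rfl | hz)
      · exact hx
      · rw [Set.mem_singleton_iff] at hz; rw [hz]; exact hy
    rintro (⟨g, h1, h2⟩ | ⟨X, hX, h1, h2⟩)
    · exact key _ h1 h2 (sol_cj g (sol_B m))
    · exact key _ h1 h2 (sol_norm m hX)

/-! ### elements of order four -/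

theorem U_order {a b : F} (h : U m a b ≠ 1) : orderOf (U m a b) = 2 ↔ a = 0 := by
  constructor
  · intro h1
    have h2 : U m a b * U m a b = 1 := by rw [← sq, ← h1, pow_orderOf_eq_one]
    rw [U_sq, ← U_zero m] at h2
    have h3 := (U_inj m h2).2
    rcases mul_eq_zero.1 h3 with h4 | h4
    · exact (th_eq_zero m).1 h4
    · exact h4
  · rintro rfl
    apply orderOf_eq_prime
    · rw [sq, U_sq, mul_zero, U_zero]
    · exact h

theorem not_real {a b : F} (ha : a ≠ 0) (x : ↥(Cfsg.Sz F m)) : x * U m a b * x⁻¹ ≠ (U m a b)⁻¹ := by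
  intro hx
  -- x fixes infinity
  have hxB : x • oi F m = oi F m := by
    apply U_fix m (a := a) (b := b) (fun h => ha h.1)
    have h2 : (U m a b)⁻¹ • (x • oi F m) = x • oi F m := by
      rw [← hx, mul_smul, mul_smul, inv_smul_smul, U_oi]
    rw [inv_smul_eq_iff] at h2
    exact h2.symm
  obtain ⟨c, d, k, rfl⟩ := fix_oi m hxB
  have e : U m c d * T m k * U m a b * (U m c d * T m k)⁻¹ = U m c d * (T m k * U m a b * (T m k)⁻¹) * (U m c d)⁻¹ := by group
  rw [e, T_conj_U, U_inv, U_inv, U_mul, U_mul] at hx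
  obtain ⟨h3, h4⟩ := U_inj m hx
  have h2 := (two0 m : (2 : F) = 0)
  have hk : (k : F) = 1 := by
    have h5 : (k : F) * a = a := by linear_combination h3 - c * h2
    exact mul_right_cancel₀ ha (h5.trans (one_mul a).symm)
  rw [hk, th_one, one_mul, one_mul, one_mul, th_add] at h4
  have h6 : th m c * a + th m a * c = th m a * a := by
    linear_combination h4 - (d + th m c * c) * h2
  have ha : th m a ≠ 0 := fun h => ha ((th_eq_zero m).1 h)
  apply no_sol m (c * a⁻¹)
  rw [th_mul, th_inv]
  field_simp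
  linear_combination h6 - (th m a * c) * h2

include H in
/-- image of `s + s^σ` -/
theorem img_half (z : F) : (∃ s : F, s + th m s = z) ∨ (∃ s : F, s + th m s = z + 1) := by
  have h2 := (two0 m : (2 : F) = 0)
  let f : F →+ F := { toFun := fun s => s + th m s, map_zero' := by rw [th_zero, add_zero], map_add' := fun a b => by rw [th_add m]; ring }
  have hf : ∀ s, f s = s + th m s := fun _ => rfl
  have hker : ∀ s, s ∈ f.ker ↔ s = 0 ∨ s = 1 := by
    intro s
    rw [AddMonoidHom.mem_ker, hf]
    constructor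
    · intro h
      have h1 : th m s = s := (eq_of_add_zero m h).symm
      have h3 : th m (th m s) = s := by rw [h1, h1]
      rw [th_th] at h3
      have h5 : s * (s - 1) = 0 := by linear_combination h3
      rcases mul_eq_zero.1 h5 with h | h
      · exact Or.inl h
      · exact Or.inr (sub_eq_zero.1 h)
    · rintro (rfl | rfl)
      · rw [th_zero, add_zero]
      · rw [th_one]; linear_combination h2
  have hkc : Nat.card f.ker = 2 := by
    have h3 : (f.ker : Set F) = {0, 1} := by
      ext s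
      rw [SetLike.mem_coe, hker]; simp
    have h4 : Nat.card f.ker = (f.ker : Set F).ncard := rfl
    rw [h4, h3, Set.ncard_pair zero_ne_one]
  have hidx : f.range.index = 2 := by
    have h3 := f.range.card_mul_index
    have h4 := f.ker.card_mul_index
    rw [AddSubgroup.index_ker] at h4
    rw [hkc] at h4
    have h5 : Nat.card f.range * f.range.index = Nat.card f.range * 2 := by rw [h3, ← h4]; ring
    exact Nat.eq_of_mul_eq_mul_left Nat.card_pos h5
  have h1 : (1 : F) ∉ f.range := by
    rintro ⟨s, hs⟩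
    rw [hf] at hs
    apply no_sol m s
    linear_combination hs - s * h2
  have h3 := AddSubgroup.add_mem_iff_of_index_two hidx (a := z) (b := 1)
  by_cases hz : z ∈ f.range
  · exact Or.inl hz
  · right
    have : z + 1 ∈ f.range := by
      rw [h3]
      exact ⟨fun h => absurd h hz, fun h => absurd h h1⟩
    exact this

/-- elements of order four are conjugate up to inversion -/
theorem four_conj {a b c d : F} (ha : a ≠ 0) (hc : c ≠ 0) : (∃ g, U m c d = g⁻¹ * U m a b * g) ∨ (∃ g, (U m c d)⁻¹ = g⁻¹ * U m a b * g) := by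
  have h2 := (two0 m : (2 : F) = 0)
  have hθc : th m c ≠ 0 := fun h => hc ((th_eq_zero m).1 h)
  obtain ⟨k, hk⟩ : ∃ k : Fˣ, (k : F) * a = c := ⟨Units.mk0 (c * a⁻¹) (mul_ne_zero hc (inv_ne_zero ha)), by rw [Units.val_mk0]; field_simp⟩
  obtain ⟨b', hb'⟩ : ∃ b', b' = (k : F) * th m (k : F) * b := ⟨_, rfl⟩
  have h1 : T m k * U m a b * (T m k)⁻¹ = U m c b' := by rw [T_conj_U, hk, hb']
  have h3 : ∀ s : F, U m (c * s) 0 * U m c b' * (U m (c * s) 0)⁻¹ = U m c (b' + c * th m c * (s + th m s)) := by
    intro s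
    rw [U_inv, U_mul, U_mul]
    congr 1
    · linear_combination (c * s) * h2
    · simp only [th_mul, th_add]
      linear_combination (th m c * th m s * c * s) * h2
  have h4 : ∀ s : F, U m c (b' + c * th m c * (s + th m s)) = (U m (c * s) 0 * T m k)⁻¹⁻¹ * U m a b * (U m (c * s) 0 * T m k)⁻¹ := by
    intro s
    rw [← h3, ← h1]; group
  rcases img_half m ((b' + d) * (c * th m c)⁻¹) with ⟨s, hs⟩ | ⟨s, hs⟩
  · left
    refine ⟨_, (?_ : _ = _).trans (h4 s)⟩
    congr 1
    rw [hs]
    field_simp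
    linear_combination (-b') * h2
  · right
    refine ⟨_, (?_ : _ = _).trans (h4 s)⟩
    rw [U_inv]
    congr 1
    rw [hs]
    field_simp
    linear_combination (-b') * h2

theorem card_cent4 {a b : F} (ha : a ≠ 0) : Nat.card (Subgroup.centralizer {U m a b}) = 2 * 2 ^ (2 * m + 1) := by
  have h2 := (two0 m : (2 : F) = 0)
  have hθa : th m a ≠ 0 := fun h => ha ((th_eq_zero m).1 h)
  have h1 : U m a b ≠ 1 := by
    rw [← U_zero m]
    exact fun h => ha (U_inj m h).1
  have e : 2 * 2 ^ (2 * m + 1) = Nat.card (Bool × F) := by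
    rw [Nat.card_prod, Nat.card_eq_fintype_card, Nat.card_eq_fintype_card, H.hF]; rfl
  rw [e]
  symm
  refine Nat.card_congr (Equiv.ofBijective (fun p : Bool × F => (⟨U m (if p.1 then a else 0) p.2, ?_⟩ : Subgroup.centralizer {U m a b})) ⟨?_, ?_⟩)
  · rw [Subgroup.mem_centralizer_singleton_iff, U_mul, U_mul]
    congr 1
    · ring
    · cases p.1
      · simp only [Bool.false_eq_true, if_false, th_zero, zero_mul, add_zero, mul_zero]; ring
      · simp only [if_true]; ring
  · rintro ⟨x, y⟩ ⟨x', y'⟩ h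
    obtain ⟨h3, h4⟩ := U_inj m (congrArg Subtype.val h)
    have h4' : y = y' := h4
    subst h4'
    cases x <;> cases x'
    · rfl
    · simp only [Bool.false_eq_true, if_false, if_true] at h3; exact absurd h3.symm ha
    · simp only [Bool.false_eq_true, if_false, if_true] at h3; exact absurd h3 ha
    · rfl
  · rintro ⟨g, hg⟩
    have hgQ := cent_Q m (U_mem_Q m a b) h1 hg
    obtain ⟨c, d, hcd⟩ := hgQ
    subst hcd
    rw [Subgroup.mem_centralizer_singleton_iff, U_mul, U_mul] at hg
    have h3 := (U_inj m hg).2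
    have h4 : th m c * a = th m a * c := by linear_combination h3
    have h5 : th m (c * a⁻¹) = c * a⁻¹ := by
      rw [th_mul, th_inv]; field_simp; linear_combination h4
    have h6 : th m (th m (c * a⁻¹)) = c * a⁻¹ := by rw [h5, h5]
    rw [th_th] at h6
    have h7 : (c * a⁻¹) * (c * a⁻¹ - 1) = 0 := by linear_combination h6
    rcases mul_eq_zero.1 h7 with h | h
    · have hc : c = 0 := by
        rcases mul_eq_zero.1 h with h | h
        · exact h
        · exact absurd (inv_eq_zero.1 h) ha
      refine ⟨(false, d), ?_⟩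
      apply Subtype.ext
      show U m (if false then a else 0) d = U m c d
      rw [hc]; rfl
    · have hc : c = a := by
        have : c * a⁻¹ = 1 := sub_eq_zero.1 h
        field_simp at this; exact this
      refine ⟨(true, d), ?_⟩
      apply Subtype.ext
      show U m (if true then a else 0) d = U m c d
      rw [hc]; rfl

end Cfsg.Agent.H8.Suz
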