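import Mathlib
import Cfsg.Agent.H8.SzT2

set_option autoImplicit false

namespace Cfsg.Agent.H8.Suz

open Matrix Cfsg.Agent.H8.TI
open scoped Pointwise

variable {F : Type*} [Field F] [Fintype F] (m : ℕ) [H : Hyp F m]

/-- the normalizer -/
abbrev NN (X : Subgroup ↥(Cfsg.Sz F m)) : Subgroup ↥(Cfsg.Sz F m) := Subgroup.normalizer (X : Set ↥(Cfsg.Sz F m))

theorem mem_NN_cj {X : Subgroup ↥(Cfsg.Sz F m)} {g y : ↥(Cfsg.Sz F m)} : y ∈ NN m (cj g X) ↔ g⁻¹ * y * g ∈ NN m X := by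
  show y ∈ Subgroup.normalizer ((cj g X : Subgroup ↥(Cfsg.Sz F m)) : Set ↥(Cfsg.Sz F m)) ↔ _
  rw [norm_cj, mem_cj]

theorem norm_split' {X : Subgroup ↥(Cfsg.Sz F m)} (hX : Comp2 m X) {t s : ↥(Cfsg.Sz F m)} (ht : t ∈ NN m X) (t2 : t * t = 1) (t1 : t ≠ 1)
    (hs : s ∈ NN m X) (s2 : s * s = 1) (s1 : s ≠ 1) : ∃ u ∈ X, u * t * u⁻¹ = s := by
  have h0 : s * t⁻¹ ∈ X := cent_of_commute m hX (fun a ha => invol_inverts m hX hs s2 s1 ha) (fun a ha => invol_inverts m hX ht t2 t1 ha)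
  obtain ⟨u, hu, huv⟩ := odd_root m hX h0
  refine ⟨u, hu, ?_⟩
  have h1 := invol_inverts m hX ht t2 t1 (X.inv_mem hu)
  rw [inv_inv] at h1
  calc u * t * u⁻¹ = u * (t * u⁻¹ * t⁻¹) * t := by group
    _ = u * u * t := by rw [h1]
    _ = s := by rw [huv]; group

/-- an involution of the normalizer -/
theorem exists_invol {X : Subgroup ↥(Cfsg.Sz F m)} {c : ℕ} (hc : Nat.card (NN m X) = c * Nat.card X) (h2 : 2 ∣ c) : ∃ t ∈ NN m X, t * t = 1 ∧ t ≠ 1 := by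
  haveI := Fact.mk Nat.prime_two
  obtain ⟨t, ht⟩ := exists_prime_orderOf_dvd_card' (G := NN m X) 2 (by rw [hc]; exact Dvd.dvd.mul_right h2 _)
  refine ⟨t, t.2, ?_, ?_⟩
  · have : t * t = 1 := by rw [← sq, ← ht, pow_orderOf_eq_one]
    exact congrArg Subtype.val this
  · intro h
    have : t = 1 := Subtype.ext h
    rw [this, orderOf_one] at ht
    norm_num at ht

/-- an element of order four of the normalizer -/
theorem exists_four {X : Subgroup ↥(Cfsg.Sz F m)} (hX : Comp2 m X) (hc : Nat.card (NN m X) = 4 * Nat.card X) : ∃ w ∈ NN m X, w * w ≠ 1 ∧ (w * w) * (w * w) = 1 := by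
  classical
  obtain ⟨t, ht, t2, t1⟩ := exists_invol m hc (by norm_num)
  have hK : Nat.card (NN m X ⊓ Subgroup.centralizer {t} : Subgroup ↥(Cfsg.Sz F m)) = 4 := by
    have := card_compl m hX ht t2 t1
    rw [hc] at this
    exact Nat.eq_of_mul_eq_mul_right Nat.card_pos this
  have huniq : ∀ s ∈ (NN m X ⊓ Subgroup.centralizer {t} : Subgroup ↥(Cfsg.Sz F m)), s * s = 1 → s = 1 ∨ s = t := by
    intro s hs s2
    by_cases s1 : s = 1
    · exact Or.inl s1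
    · right
      have h0 : s * t⁻¹ ∈ X := cent_of_commute m hX (fun a ha => invol_inverts m hX hs.1 s2 s1 ha) (fun a ha => invol_inverts m hX ht t2 t1 ha)
      have h1 := cap_cent m hX ht t2 t1 h0 (by
        have := Subgroup.mem_centralizer_singleton_iff.1 hs.2
        calc s * t⁻¹ * t = s := by group
          _ = s * t * t⁻¹ := by group
          _ = t * s * t⁻¹ := by rw [this]
          _ = t * (s * t⁻¹) := by group)
      calc s = s * t⁻¹ * t := by group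
        _ = t := by rw [h1, one_mul]
  by_contra hcon
  push Not at hcon
  have hsq : ∀ w ∈ (NN m X ⊓ Subgroup.centralizer {t} : Subgroup ↥(Cfsg.Sz F m)), w * w = 1 := by
    intro w hw
    by_contra hne
    apply hcon w hw.1 hne
    have h4 : w ^ 4 = 1 := by
      have h5 : w ^ (Nat.card (NN m X ⊓ Subgroup.centralizer {t} : Subgroup ↥(Cfsg.Sz F m))) = 1 :=
        congrArg Subtype.val (pow_card_eq_one' (G := (NN m X ⊓ Subgroup.centralizer {t} : Subgroup ↥(Cfsg.Sz F m))) (x := ⟨w, hw⟩))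
      rwa [hK] at h5
    rw [← h4]
    simp only [pow_succ, pow_zero, one_mul, mul_assoc]
  have hle : Nat.card (NN m X ⊓ Subgroup.centralizer {t} : Subgroup ↥(Cfsg.Sz F m)) ≤ 2 := by
    have h3 : ((NN m X ⊓ Subgroup.centralizer {t} : Subgroup ↥(Cfsg.Sz F m)) : Set ↥(Cfsg.Sz F m)) ⊆ {1, t} := by
      intro w hw
      rcases huniq w hw (hsq w hw) with h | h
      · exact Or.inl h
      · exact Or.inr h
    have h4 := Set.ncard_le_ncard h3 (Set.toFinite _)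
    rw [Set.ncard_pair (Ne.symm t1)] at h4
    exact h4
  omega

/-- the number of conjugates of an involution in the normalizer -/
theorem count_invol {X : Subgroup ↥(Cfsg.Sz F m)} (hX : Comp2 m X) {c : ℕ} (hc : Nat.card (NN m X) = c * Nat.card X) (h2 : 2 ∣ c) {x : ↥(Cfsg.Sz F m)} (x2 : x * x = 1) (x1 : x ≠ 1) :
    Nat.card {h : ↥(Cfsg.Sz F m) // h ∈ NN m X ∧ ∃ g, h = g⁻¹ * x * g} = Nat.card X := by
  obtain ⟨t, ht, t2, t1⟩ := exists_invol m hc h2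
  rw [← card_norm_invol m hX ht t2 t1]
  apply Nat.card_congr
  apply Equiv.subtypeEquivRight
  intro h
  constructor
  · rintro ⟨h1, g, rfl⟩
    refine ⟨h1, ?_, conj_ne x1⟩
    calc g⁻¹ * x * g * (g⁻¹ * x * g) = g⁻¹ * (x * x) * g := by group
      _ = 1 := by rw [x2]; group
  · rintro ⟨h1, h2, h3⟩
    exact ⟨h1, invol_conj m x2 x1 h2 h3⟩

/-- the number of conjugates of an element of order four in the normalizer -/
theorem count_four {X : Subgroup ↥(Cfsg.Sz F m)} (hX : Comp2 m X) (hc : Nat.card (NN m X) = 4 * Nat.card X) {a b : F} (ha : a ≠ 0) :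
    Nat.card {h : ↥(Cfsg.Sz F m) // h ∈ NN m X ∧ ∃ g, h = g⁻¹ * U m a b * g} = Nat.card X := by
  obtain ⟨w, hw, hw2, hw4⟩ := exists_four m hX hc
  obtain ⟨y, hy⟩ : ∃ y, y⁻¹ * w * y ∈ Q F m := by
    by_contra hcon
    obtain ⟨-, h3⟩ := cent_tor m hcon
    obtain ⟨n, hn⟩ := S3_odd (F := F) m h3
    have h5 : w ^ Nat.card (Subgroup.centralizer {w}) = 1 := congrArg Subtype.val (pow_card_eq_one' (G := Subgroup.centralizer {w}) (x := ⟨w, mem_cent_self w⟩))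
    have h4 : w ^ 4 = 1 := by
      rw [← hw4]; simp only [pow_succ, pow_zero, one_mul, mul_assoc]
    apply hw2
    rw [hn] at h5
    rw [← sq]
    rcases Nat.even_or_odd n with ⟨k, hk⟩ | ⟨k, hk⟩
    · have e : 2 * n + 1 = 4 * k + 1 := by omega
      rw [e, pow_add, pow_mul, h4, one_pow, one_mul, pow_one] at h5
      rw [h5, one_pow]
    · have e : 2 * n + 1 = 4 * k + 3 := by omega
      rw [e, pow_add, pow_mul, h4, one_pow, one_mul] at h5
      have : w = 1 := by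
        calc w = w ^ 3 * w := by rw [h5, one_mul]
          _ = w ^ 4 := by rw [← pow_succ]
          _ = 1 := h4
      rw [this, one_pow]
  obtain ⟨c, d, hcd⟩ := hy
  have hc0 : c ≠ 0 := by
    rintro rfl
    apply hw2
    have h3 : (y⁻¹ * w * y) * (y⁻¹ * w * y) = 1 := by rw [hcd, U0_sq']
    have h4 : w * w = y * ((y⁻¹ * w * y) * (y⁻¹ * w * y)) * y⁻¹ := by group
    rw [h4, h3]; group
  -- a conjugate of `U m a b` in the normalizer
  obtain ⟨x₀, hx₀, g₀, hg₀⟩ : ∃ x₀ ∈ NN m X, ∃ g, x₀ = g⁻¹ * U m a b * g := by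
    rcases four_conj m (a := a) (b := b) (c := c) (d := d) ha hc0 with ⟨g, hg⟩ | ⟨g, hg⟩
    · refine ⟨w, hw, g * y⁻¹, ?_⟩
      rw [← hcd] at hg
      calc w = y * (y⁻¹ * w * y) * y⁻¹ := by group
        _ = y * (g⁻¹ * U m a b * g) * y⁻¹ := by rw [hg]
        _ = _ := by group
    · refine ⟨w⁻¹, Subgroup.inv_mem _ hw, g * y⁻¹, ?_⟩
      rw [← hcd] at hg
      calc w⁻¹ = y * (y⁻¹ * w * y)⁻¹ * y⁻¹ := by group
        _ = y * (g⁻¹ * U m a b * g) * y⁻¹ := by rw [hg]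
        _ = _ := by group
  obtain ⟨t, ht⟩ : ∃ t, t = x₀ * x₀ := ⟨_, rfl⟩
  have hsqne : U m a b * U m a b ≠ 1 := by
    rw [U_sq, ← U_zero m]
    intro h
    rcases mul_eq_zero.1 (U_inj m h).2 with h | h
    · exact ha ((th_eq_zero m).1 h)
    · exact ha h
  have conj_sq : ∀ g : ↥(Cfsg.Sz F m), (g⁻¹ * U m a b * g) * (g⁻¹ * U m a b * g) ≠ 1 ∧
      ((g⁻¹ * U m a b * g) * (g⁻¹ * U m a b * g)) * ((g⁻¹ * U m a b * g) * (g⁻¹ * U m a b * g)) = 1 := by
    intro g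
    have e1 : (g⁻¹ * U m a b * g) * (g⁻¹ * U m a b * g) = g⁻¹ * (U m a b * U m a b) * g := by group
    rw [e1]
    refine ⟨conj_ne hsqne, ?_⟩
    have e2 : g⁻¹ * (U m a b * U m a b) * g * (g⁻¹ * (U m a b * U m a b) * g) = g⁻¹ * (U m a b ^ 4) * g := by
      simp only [pow_succ, pow_zero, one_mul]; group
    rw [e2, U_pow4]; group
  have t1 : t ≠ 1 := by rw [ht, hg₀]; exact (conj_sq g₀).1
  have t2 : t * t = 1 := by rw [ht, hg₀]; exact (conj_sq g₀).2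
  have htN : t ∈ NN m X := by rw [ht]; exact Subgroup.mul_mem _ hx₀ hx₀
  have hK : Nat.card (NN m X ⊓ Subgroup.centralizer {t} : Subgroup ↥(Cfsg.Sz F m)) = 4 := by
    have := card_compl m hX htN t2 t1
    rw [hc] at this
    exact Nat.eq_of_mul_eq_mul_right Nat.card_pos this
  have hxK : x₀ ∈ (NN m X ⊓ Subgroup.centralizer {t} : Subgroup ↥(Cfsg.Sz F m)) := by
    refine ⟨hx₀, ?_⟩
    have : x₀ * t = t * x₀ := by rw [ht, mul_assoc]
    exact Subgroup.mem_centralizer_singleton_iff.2 this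
  symm
  refine Nat.card_congr (Equiv.ofBijective (fun u : X => (⟨u.1 * x₀ * u.1⁻¹, Subgroup.mul_mem _ (Subgroup.mul_mem _ (Subgroup.le_normalizer u.2) hx₀) (Subgroup.inv_mem _ (Subgroup.le_normalizer u.2)),
    g₀ * u.1⁻¹, by rw [hg₀]; group⟩ : {h : ↥(Cfsg.Sz F m) // h ∈ NN m X ∧ ∃ g, h = g⁻¹ * U m a b * g})) ⟨?_, ?_⟩)
  · rintro ⟨u, hu⟩ ⟨v, hv⟩ h
    have h1 : u * x₀ * u⁻¹ = v * x₀ * v⁻¹ := congrArg Subtype.val h
    have h2 : (v⁻¹ * u) * x₀ = x₀ * (v⁻¹ * u) := by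
      calc (v⁻¹ * u) * x₀ = v⁻¹ * (u * x₀ * u⁻¹) * u := by group
        _ = v⁻¹ * (v * x₀ * v⁻¹) * u := by rw [h1]
        _ = x₀ * (v⁻¹ * u) := by group
    have h3 : (v⁻¹ * u) * t = t * (v⁻¹ * u) := by
      rw [ht]
      calc (v⁻¹ * u) * (x₀ * x₀) = ((v⁻¹ * u) * x₀) * x₀ := by group
        _ = (x₀ * (v⁻¹ * u)) * x₀ := by rw [h2]
        _ = x₀ * ((v⁻¹ * u) * x₀) := by group
        _ = x₀ * (x₀ * (v⁻¹ * u)) := by rw [h2]
        _ = _ := by group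
    have h4 := cap_cent m hX htN t2 t1 (X.mul_mem (X.inv_mem hv) hu) h3
    apply Subtype.ext
    show u = v
    calc u = v * (v⁻¹ * u) := by group
      _ = v := by rw [h4, mul_one]
  · rintro ⟨h, hN, g, hg⟩
    have hh := conj_sq g
    rw [← hg] at hh
    obtain ⟨u, hu, hut⟩ := norm_split' m hX htN t2 t1 (Subgroup.mul_mem _ hN hN) hh.2 hh.1
    have hu' : u ∈ NN m X := Subgroup.le_normalizer hu
    obtain ⟨h', hh'⟩ : ∃ h', h' = u⁻¹ * h * u := ⟨_, rfl⟩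
    have e1 : h' * h' = t := by
      calc h' * h' = u⁻¹ * (h * h) * u := by rw [hh']; group
        _ = u⁻¹ * (u * t * u⁻¹) * u := by rw [hut]
        _ = t := by group
    have hh'K : h' ∈ (NN m X ⊓ Subgroup.centralizer {t} : Subgroup ↥(Cfsg.Sz F m)) := by
      refine ⟨?_, ?_⟩
      · rw [hh']; exact Subgroup.mul_mem _ (Subgroup.mul_mem _ (Subgroup.inv_mem _ hu') hN) hu'
      · have : h' * t = t * h' := by rw [← e1, mul_assoc]
        exact Subgroup.mem_centralizer_singleton_iff.2 this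
    -- the group of order four
    have hcomm : h' * x₀ = x₀ * h' := by
      haveI := Fact.mk Nat.prime_two
      letI := IsPGroup.commGroupOfCardEqPrimeSq (p := 2) (G := (NN m X ⊓ Subgroup.centralizer {t} : Subgroup ↥(Cfsg.Sz F m))) (by rw [hK]; norm_num)
      exact congrArg Subtype.val (mul_comm (⟨h', hh'K⟩ : (NN m X ⊓ Subgroup.centralizer {t} : Subgroup ↥(Cfsg.Sz F m))) ⟨x₀, hxK⟩)
    have e2 : (h' * x₀⁻¹) * (h' * x₀⁻¹) = 1 := by
      have h5 : x₀⁻¹ * h' = h' * x₀⁻¹ := by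
        calc x₀⁻¹ * h' = x₀⁻¹ * (h' * x₀) * x₀⁻¹ := by group
          _ = x₀⁻¹ * (x₀ * h') * x₀⁻¹ := by rw [hcomm]
          _ = _ := by group
      calc (h' * x₀⁻¹) * (h' * x₀⁻¹) = h' * (x₀⁻¹ * h') * x₀⁻¹ := by group
        _ = (h' * h') * (x₀ * x₀)⁻¹ := by rw [h5]; group
        _ = 1 := by rw [e1, ← ht]; group
    have e3 : h' = x₀ := by
      by_contra hne
      have s1 : h' * x₀⁻¹ ≠ 1 := fun h => hne (mul_inv_eq_one.1 h)
      have sN : h' * x₀⁻¹ ∈ NN m X := Subgroup.mul_mem _ hh'K.1 (Subgroup.inv_mem _ hx₀)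
      have sC : h' * x₀⁻¹ ∈ Subgroup.centralizer {t} := Subgroup.mul_mem _ hh'K.2 (Subgroup.inv_mem _ hxK.2)
      have h0 : (h' * x₀⁻¹) * t⁻¹ ∈ X := cent_of_commute m hX (fun a ha => invol_inverts m hX sN e2 s1 ha) (fun a ha => invol_inverts m hX htN t2 t1 ha)
      have h1 := cap_cent m hX htN t2 t1 h0 (by
        have := Subgroup.mem_centralizer_singleton_iff.1 sC
        calc h' * x₀⁻¹ * t⁻¹ * t = h' * x₀⁻¹ := by group
          _ = h' * x₀⁻¹ * t * t⁻¹ := by group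
          _ = t * (h' * x₀⁻¹) * t⁻¹ := by rw [this]
          _ = t * (h' * x₀⁻¹ * t⁻¹) := by group)
      have h2 : h' = x₀⁻¹ := by
        have h3 : h' * x₀⁻¹ = t := mul_inv_eq_one.1 h1
        have h4 : x₀ * (x₀ * (x₀ * x₀)) = 1 := by
          have : (x₀ * x₀) * (x₀ * x₀) = 1 := by rw [← ht]; exact t2
          rw [← this]; group
        calc h' = (h' * x₀⁻¹) * x₀ := by group
          _ = x₀⁻¹ * (x₀ * (x₀ * (x₀ * x₀))) := by rw [h3, ht]; group
          _ = x₀⁻¹ := by rw [h4, mul_one]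
      -- non-reality
      apply not_real m (a := a) (b := b) ha (g₀ * (u⁻¹ * g⁻¹))
      have h5 : (U m a b)⁻¹ = g₀ * x₀⁻¹ * g₀⁻¹ := by rw [hg₀]; group
      rw [h5, ← h2, hh', hg]; group
    refine ⟨⟨u, hu⟩, ?_⟩
    apply Subtype.ext
    show u * x₀ * u⁻¹ = h
    rw [← e3, hh']; group

/-- elements outside the Borel subgroup normalizing a conjugate of `A` together with `x` -/
def SA (x : ↥(Cfsg.Sz F m)) (A : Subgroup ↥(Cfsg.Sz F m)) : Set ↥(Cfsg.Sz F m) := {y | y ∉ B F m ∧ ∃ g, g⁻¹ * x * g ∈ NN m A ∧ g⁻¹ * y * g ∈ NN m A}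

theorem card_diff {G : Type*} [Group G] [Finite G] (P R : Subgroup G) : Nat.card {y : G // y ∉ R ∧ y ∈ P} + Nat.card (P ⊓ R : Subgroup G) = Nat.card P := by
  have h := Set.ncard_inter_add_ncard_diff_eq_ncard (P : Set G) (R : Set G) (Set.toFinite _)
  have e1 : Nat.card P = (P : Set G).ncard := rfl
  have e2 : Nat.card (P ⊓ R : Subgroup G) = ((P : Set G) ∩ (R : Set G)).ncard := rfl
  have e3 : Nat.card {y : G // y ∉ R ∧ y ∈ P} = ((P : Set G) \ (R : Set G)).ncard := by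
    apply Nat.card_congr
    apply Equiv.subtypeEquivRight
    intro y
    simp only [SetLike.mem_coe, Set.mem_diff]
    exact and_comm
  rw [e1, e2, e3, ← h, add_comm]

theorem card_SA {A : Subgroup ↥(Cfsg.Sz F m)} (hA : Comp2 m A) {c : ℕ} (hc : Nat.card (NN m A) = c * Nat.card A) {x t : ↥(Cfsg.Sz F m)} (hxt : t = x ∨ t = x * x) (htZ : t ∈ Z F m) (t1 : t ≠ 1) :
    Nat.card (SA m x A) * (c * Nat.card A) = Nat.card {g : ↥(Cfsg.Sz F m) // g⁻¹ * x * g ∈ NN m A} * (c * Nat.card A - c) := by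
  have t2 : t * t = 1 := by
    obtain ⟨c, rfl⟩ := htZ
    exact U0_sq' m c
  have hxt' : ∀ P : Subgroup ↥(Cfsg.Sz F m), x ∈ P → t ∈ P := by
    intro P hP
    rcases hxt with h | h
    · rw [h]; exact hP
    · rw [h]; exact P.mul_mem hP hP
  rw [← hc]
  apply card_double (α := SA m x A) (β := {g : ↥(Cfsg.Sz F m) // g⁻¹ * x * g ∈ NN m A}) (fun y g => (g.1)⁻¹ * y.1 * g.1 ∈ NN m A)
  · rintro ⟨y, hyB, g₀, hx₀, hy₀⟩
    symm
    refine Nat.card_congr (Equiv.ofBijective (fun n : NN m A => (⟨⟨g₀ * n, ?_⟩, ?_⟩ : {g : {g : ↥(Cfsg.Sz F m) // g⁻¹ * x * g ∈ NN m A} // (g.1)⁻¹ * y * g.1 ∈ NN m A})) ⟨?_, ?_⟩)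
    · have e : (g₀ * (n : ↥(Cfsg.Sz F m)))⁻¹ * x * (g₀ * n) = (n : ↥(Cfsg.Sz F m))⁻¹ * (g₀⁻¹ * x * g₀) * n := by group
      rw [e]
      exact Subgroup.mul_mem _ (Subgroup.mul_mem _ (Subgroup.inv_mem _ n.2) hx₀) n.2
    · have e : (g₀ * (n : ↥(Cfsg.Sz F m)))⁻¹ * y * (g₀ * n) = (n : ↥(Cfsg.Sz F m))⁻¹ * (g₀⁻¹ * y * g₀) * n := by group
      show (g₀ * (n : ↥(Cfsg.Sz F m)))⁻¹ * y * (g₀ * n) ∈ NN m A
      rw [e]
      exact Subgroup.mul_mem _ (Subgroup.mul_mem _ (Subgroup.inv_mem _ n.2) hy₀) n.2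
    · intro n k h
      have h1 : g₀ * (n : ↥(Cfsg.Sz F m)) = g₀ * k := congrArg (fun z => z.1.1) h
      exact Subtype.ext (mul_left_cancel h1)
    · rintro ⟨⟨g, hgx⟩, hgy⟩
      have hgy : g⁻¹ * y * g ∈ NN m A := hgy
      have hne : y * t ≠ t * y := by
        intro h
        apply hyB
        have h1 : y ∈ Subgroup.centralizer {t} := Subgroup.mem_centralizer_singleton_iff.2 h
        rw [cent_eq m htZ t1] at h1
        exact Q_le_B m h1
      have h1 := norm_uniq m (comp2_cj m hA g₀) (comp2_cj m hA g) t2 t1 (hxt' _ ((mem_NN_cj m).2 hx₀)) (hxt' _ ((mem_NN_cj m).2 hgx)) ((mem_NN_cj m).2 hy₀) ((mem_NN_cj m).2 hgy) hne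
      refine ⟨⟨g₀⁻¹ * g, ?_⟩, ?_⟩
      · rw [Subgroup.mem_normalizer_iff]
        intro a
        have h2 := SetLike.ext_iff.1 h1 (g * a * g⁻¹)
        rw [mem_cj, mem_cj] at h2
        have e1 : g⁻¹ * (g * a * g⁻¹) * g = a := by group
        have e2 : g₀⁻¹ * (g * a * g⁻¹) * g₀ = g₀⁻¹ * g * a * (g₀⁻¹ * g)⁻¹ := by group
        rw [e1, e2] at h2
        exact h2.symm
      · apply Subtype.ext
        apply Subtype.ext
        show g₀ * (g₀⁻¹ * g) = g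
        group
  · rintro ⟨g, hg⟩
    have hxg := (mem_NN_cj m).2 hg
    have htg := hxt' _ hxg
    have h1 := card_compl m (comp2_cj m hA g) htg t2 t1
    rw [← norm_cap_B m (comp2_cj m hA g) htg t1 htZ, norm_cj, card_cj, card_cj] at h1
    have h2 := card_diff (cj g (NN m A)) (B F m)
    rw [card_cj] at h2
    have hc2 : Nat.card (cj g (NN m A) ⊓ B F m : Subgroup ↥(Cfsg.Sz F m)) = c := by
      have h3 : Nat.card (cj g (NN m A) ⊓ B F m : Subgroup ↥(Cfsg.Sz F m)) * Nat.card A = Nat.card (NN m A) := h1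
      rw [hc] at h3
      exact Nat.eq_of_mul_eq_mul_right Nat.card_pos h3
    rw [hc2] at h2
    have h3 : Nat.card {y : SA m x A // g⁻¹ * y.1 * g ∈ NN m A} = Nat.card {y : ↥(Cfsg.Sz F m) // y ∉ B F m ∧ y ∈ cj g (NN m A)} := by
      refine Nat.card_congr ⟨fun y => ⟨y.1.1, y.1.2.1, mem_cj.2 y.2⟩, fun y => ⟨⟨y.1, y.2.1, g, hg, mem_cj.1 y.2.2⟩, mem_cj.1 y.2.2⟩, fun _ => rfl, fun _ => rfl⟩
    show Nat.card {y : SA m x A // g⁻¹ * y.1 * g ∈ NN m A} = _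
    rw [h3]
    omega

end Cfsg.Agent.H8.Suz
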