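import Mathlib
import Cfsg.Agent.H8.SzT3

set_option autoImplicit false

namespace Cfsg.Agent.H8.Suz

open Matrix Cfsg.Agent.H8.TI
open scoped Pointwise

/-- solubilizer -/
def Slv {G : Type*} [Group G] (x y : G) : Prop := Group.IsSolvable ↥(Subgroup.closure ({x, y} : Set G))

theorem slv_equiv {G G' : Type*} [Group G] [Group G'] (e : G ≃* G') (x y : G) (h : Slv x y) : Slv (e x) (e y) := by
  have h1 : Group.IsSolvable ↥(Subgroup.closure ({x, y} : Set G)) := h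
  haveI := h1
  have h2 : Subgroup.closure ({e x, e y} : Set G') = (Subgroup.closure ({x, y} : Set G)).map e.toMonoidHom := by
    rw [MonoidHom.map_closure, Set.image_pair]; rfl
  show Group.IsSolvable ↥(Subgroup.closure ({e x, e y} : Set G'))
  rw [h2]
  exact solvable_of_solvable_injective (f := ((Subgroup.closure ({x, y} : Set G)).equivMapOfInjective e.toMonoidHom e.injective).symm.toMonoidHom) (MulEquiv.injective _)

theorem card_slv {G G' : Type*} [Group G] [Group G'] (e : G ≃* G') (x : G) : Nat.card {y : G' // Slv (e x) y} = Nat.card {y : G // Slv x y} := by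
  symm
  refine Nat.card_congr ⟨fun y => ⟨e y.1, slv_equiv e x y.1 y.2⟩, fun y => ⟨e.symm y.1, ?_⟩, fun y => ?_, fun y => ?_⟩
  · have := slv_equiv e.symm (e x) y.1 y.2
    rwa [MulEquiv.symm_apply_apply] at this
  · apply Subtype.ext; exact e.symm_apply_apply _
  · apply Subtype.ext; exact e.apply_symm_apply _

theorem card_slv_conj {G : Type*} [Group G] (g x : G) : Nat.card {y : G // Slv (g * x * g⁻¹) y} = Nat.card {y : G // Slv x y} :=
  card_slv (MulAut.conj g) x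

variable {F : Type*} [Field F] [Fintype F] (m : ℕ) [H : Hyp F m]

theorem reps : ∃ C D : Subgroup ↥(Cfsg.Sz F m), Comp2 m C ∧ Comp2 m D ∧ Nat.card C = 2 ^ (2 * m + 1) + 2 ^ (m + 1) + 1 ∧
    Nat.card D = 2 ^ (2 * m + 1) - 2 ^ (m + 1) + 1 ∧ Nat.card (NN m C) = 4 * Nat.card C ∧ Nat.card (NN m D) = 4 * Nat.card D ∧
    (∀ x, Fpf m x → ∃ g, Subgroup.centralizer {x} = cj g C ∨ Subgroup.centralizer {x} = cj g D) := by
  obtain ⟨C, D, hC, hD, h1, h2, -, h4⟩ := tori (F := F) m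
  refine ⟨C, D, Or.inr hC, Or.inr hD, h1, h2, (tor_four m hC).1, (tor_four m hD).1, ?_⟩
  intro x hx
  have h5 : x ∈ FS F m := hx
  rw [h4] at h5
  have hX : Comp m (Subgroup.centralizer {x}) := Or.inr (Or.inr ⟨x, hx, rfl⟩)
  rcases h5 with ⟨hx1, g, hg⟩ | ⟨hx1, g, hg⟩
  · exact ⟨g, Or.inl (comp_uniq m hX (Or.inr (comp2_cj m (Or.inr hC) g)) (mem_cent_self x) (mem_cj.2 hg) hx1)⟩
  · exact ⟨g, Or.inr (comp_uniq m hX (Or.inr (comp2_cj m (Or.inr hD) g)) (mem_cent_self x) (mem_cj.2 hg) hx1)⟩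

theorem comp2_reps {C D : Subgroup ↥(Cfsg.Sz F m)} (h : ∀ x, Fpf m x → ∃ g, Subgroup.centralizer {x} = cj g C ∨ Subgroup.centralizer {x} = cj g D)
    {X : Subgroup ↥(Cfsg.Sz F m)} (hX : Comp2 m X) : ∃ g, X = cj g (TT F m) ∨ X = cj g C ∨ X = cj g D := by
  rcases hX with ⟨g, rfl⟩ | ⟨x, hx, rfl⟩
  · exact ⟨g, Or.inl rfl⟩
  · obtain ⟨g, hg⟩ := h x hx
    exact ⟨g, Or.inr hg⟩

theorem borel_uniq {x g : ↥(Cfsg.Sz F m)} (hx : x ∈ Q F m) (h1 : x ≠ 1) (hg : x ∈ cj g (B F m)) : g ∈ B F m := by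
  rw [mem_cj, mem_B, mul_smul, mul_smul, inv_smul_eq_iff] at hg
  rw [mem_B]
  exact Q_fix m hx h1 hg

theorem cj_self {G : Type*} [Group G] {g : G} {A : Subgroup G} (hg : g ∈ A) : cj g A = A := by
  ext z
  rw [mem_cj]
  constructor
  · intro h
    have : z = g * (g⁻¹ * z * g) * g⁻¹ := by group
    rw [this]
    exact A.mul_mem (A.mul_mem hg h) (A.inv_mem hg)
  · intro h
    exact A.mul_mem (A.mul_mem (A.inv_mem hg) h) hg

theorem sol_unip (hp : (2 * m + 1).Prime) {x t : ↥(Cfsg.Sz F m)} (hxQ : x ∈ Q F m) (hxt : t = x ∨ t = x * x) (htZ : t ∈ Z F m) (t1 : t ≠ 1)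
    {C D : Subgroup ↥(Cfsg.Sz F m)} (hC : Comp2 m C) (hD : Comp2 m D) (hcC : Nat.card C = 2 ^ (2 * m + 1) + 2 ^ (m + 1) + 1)
    (hcD : Nat.card D = 2 ^ (2 * m + 1) - 2 ^ (m + 1) + 1) (hrep : ∀ x, Fpf m x → ∃ g, Subgroup.centralizer {x} = cj g C ∨ Subgroup.centralizer {x} = cj g D) :
    Nat.card {y : ↥(Cfsg.Sz F m) // Slv x y} = Nat.card (B F m) + Nat.card (SA m x (TT F m)) + Nat.card (SA m x C) + Nat.card (SA m x D) := by
  obtain ⟨q1, q2, q3, q4⟩ := q_facts (F := F) m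
  have hx1 : x ≠ 1 := by
    rintro rfl
    rcases hxt with h | h
    · exact t1 h
    · exact t1 (by rw [h, mul_one])
  have t2 : t * t = 1 := by
    obtain ⟨c, rfl⟩ := htZ
    exact U0_sq' m c
  have hxt' : ∀ P : Subgroup ↥(Cfsg.Sz F m), x ∈ P → t ∈ P := by
    intro P hP
    rcases hxt with h | h
    · rw [h]; exact hP
    · rw [h]; exact P.mul_mem hP hP
  have hdis : ∀ A A' : Subgroup ↥(Cfsg.Sz F m), Comp2 m A → Comp2 m A' → Nat.card A ≠ Nat.card A' → Disjoint (SA m x A) (SA m x A') := by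
    intro A A' hA hA' hne
    rw [Set.disjoint_left]
    rintro y ⟨hyB, g, hgx, hgy⟩ ⟨-, g', hgx', hgy'⟩
    apply hne
    have hyt : y * t ≠ t * y := by
      intro h
      apply hyB
      have h1 : y ∈ Subgroup.centralizer {t} := Subgroup.mem_centralizer_singleton_iff.2 h
      rw [cent_eq m htZ t1] at h1
      exact Q_le_B m h1
    have h1 := norm_uniq m (comp2_cj m hA g) (comp2_cj m hA' g') t2 t1 (hxt' _ ((mem_NN_cj m).2 hgx)) (hxt' _ ((mem_NN_cj m).2 hgx')) ((mem_NN_cj m).2 hgy) ((mem_NN_cj m).2 hgy') hyt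
    rw [← card_cj g A, h1, card_cj]
  have hdB : ∀ A : Subgroup ↥(Cfsg.Sz F m), Disjoint (B F m : Set ↥(Cfsg.Sz F m)) (SA m x A) := by
    intro A
    rw [Set.disjoint_left]
    rintro y hy ⟨h, -⟩
    exact h hy
  have hset : {y : ↥(Cfsg.Sz F m) | Slv x y} = (((B F m : Set ↥(Cfsg.Sz F m)) ∪ SA m x (TT F m)) ∪ SA m x C) ∪ SA m x D := by
    ext y
    simp only [Set.mem_setOf_eq, Set.mem_union, SetLike.mem_coe]
    have hiff : Slv x y ↔ _ := solv_iff m hp x y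
    rw [hiff]
    constructor
    · rintro (⟨g, hg, hgy⟩ | ⟨X, hX, hXx, hXy⟩)
      · have h1 := borel_uniq m hxQ hx1 hg
        rw [cj_self h1] at hgy
        exact Or.inl (Or.inl (Or.inl hgy))
      · by_cases hyB : y ∈ B F m
        · exact Or.inl (Or.inl (Or.inl hyB))
        · obtain ⟨g, rfl | rfl | rfl⟩ := comp2_reps m hrep hX
          · exact Or.inl (Or.inl (Or.inr ⟨hyB, g, (mem_NN_cj m).1 hXx, (mem_NN_cj m).1 hXy⟩))
          · exact Or.inl (Or.inr ⟨hyB, g, (mem_NN_cj m).1 hXx, (mem_NN_cj m).1 hXy⟩)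
          · exact Or.inr ⟨hyB, g, (mem_NN_cj m).1 hXx, (mem_NN_cj m).1 hXy⟩
    · have key : ∀ A : Subgroup ↥(Cfsg.Sz F m), Comp2 m A → y ∈ SA m x A → ∃ X : Subgroup ↥(Cfsg.Sz F m), Comp2 m X ∧ x ∈ Subgroup.normalizer (X : Set ↥(Cfsg.Sz F m)) ∧ y ∈ Subgroup.normalizer (X : Set ↥(Cfsg.Sz F m)) := by
        rintro A hA ⟨-, g, h1, h2⟩
        exact ⟨cj g A, comp2_cj m hA g, (mem_NN_cj m).2 h1, (mem_NN_cj m).2 h2⟩
      rintro (((h | h) | h) | h)
      · left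
        refine ⟨1, ?_, ?_⟩
        · rw [cj_one]; exact Q_le_B m hxQ
        · rw [cj_one]; exact h
      · exact Or.inr (key _ (comp2_TT m) h)
      · exact Or.inr (key _ hC h)
      · exact Or.inr (key _ hD h)
  have e0 : Nat.card {y : ↥(Cfsg.Sz F m) // Slv x y} = ({y : ↥(Cfsg.Sz F m) | Slv x y}).ncard := rfl
  have hcT : Nat.card (TT F m) = 2 ^ (2 * m + 1) - 1 := card_TT m
  rw [e0, hset, Set.ncard_union_eq _ (Set.toFinite _) (Set.toFinite _), Set.ncard_union_eq _ (Set.toFinite _) (Set.toFinite _), Set.ncard_union_eq (hdB _) (Set.toFinite _) (Set.toFinite _)]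
  · rfl
  · rw [Set.disjoint_union_left]
    exact ⟨hdB _, hdis _ _ (comp2_TT m) hC (by rw [hcT, hcC]; omega)⟩
  · rw [Set.disjoint_union_left, Set.disjoint_union_left]
    refine ⟨⟨hdB _, hdis _ _ (comp2_TT m) hD ?_⟩, hdis _ _ hC hD ?_⟩
    · rw [hcT, hcD, q3]
      have : 2 ^ (2 * m + 1) = 2 ^ m * (2 * 2 ^ m) := by rw [q2]; ring
      have h6 : 4 * 2 ^ m ≤ 2 ^ m * (2 * 2 ^ m) := by nlinarith
      rw [this]
      omega
    · rw [hcC, hcD, q3]
      omega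

/-- the solubilizer of an involution -/
theorem sol_two (hp : (2 * m + 1).Prime) {x : ↥(Cfsg.Sz F m)} (x2 : x * x = 1) (x1 : x ≠ 1) :
    Nat.card {y : ↥(Cfsg.Sz F m) // Slv x y} = (2 ^ (2 * m + 1)) ^ 2 * (4 * 2 ^ (2 * m + 1) - 3) := by
  obtain ⟨g, b, hg⟩ := invol_unip m x2 x1
  have hx : x = g * U m 0 b * g⁻¹ := by rw [← hg]; group
  rw [hx, card_slv_conj]
  have hb1 : U m 0 b ≠ 1 := by rw [← hg]; exact conj_ne x1
  have hbZ : U m 0 b ∈ Z F m := U_mem_Z m b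
  have hb2 : U m 0 b * U m 0 b = 1 := U0_sq' m b
  obtain ⟨C, D, hC, hD, hcC, hcD, hNC, hND, hrep⟩ := reps (F := F) m
  rw [sol_unip m hp (Z_le_Q m hbZ) (Or.inl rfl) hbZ hb1 hC hD hcC hcD hrep]
  have key : ∀ A : Subgroup ↥(Cfsg.Sz F m), ∀ c, Comp2 m A → Nat.card (NN m A) = c * Nat.card A → 2 ∣ c → 0 < c → Nat.card (SA m (U m 0 b) A) = (2 ^ (2 * m + 1)) ^ 2 * (Nat.card A - 1) := by
    intro A c hA hc h2 hc0
    have h1 := card_SA m hA hc (x := U m 0 b) (Or.inl rfl) hbZ hb1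
    rw [card_conj_into, count_invol m hA hc h2 hb2 hb1, cent_eq m hbZ hb1, card_Q] at h1
    have hA0 : 0 < Nat.card A := Nat.card_pos
    have h3 : c * Nat.card A - c = c * (Nat.card A - 1) := by rw [Nat.mul_sub, mul_one]
    rw [h3] at h1
    apply Nat.eq_of_mul_eq_mul_right (mul_pos hc0 hA0)
    rw [h1]; ring
  have hNT : Nat.card (NN m (TT F m)) = 2 * Nat.card (TT F m) := by rw [card_TT]; exact card_norm_TT m
  rw [key _ 2 (comp2_TT m) hNT (by norm_num) (by norm_num), key _ 4 hC hNC (by norm_num) (by norm_num), key _ 4 hD hND (by norm_num) (by norm_num), card_B, card_TT, hcC, hcD]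
  obtain ⟨q1, q2, q3, q4⟩ := q_facts (F := F) m
  have hr : 2 ^ (m + 1) ≤ 2 ^ (2 * m + 1) := Nat.pow_le_pow_right (by norm_num) (by omega)
  generalize 2 ^ (2 * m + 1) = q at *
  generalize 2 ^ (m + 1) = r at *
  have e1 : q + r + 1 - 1 = q + r := by omega
  have e2 : q - r + 1 - 1 = q - r := by omega
  rw [e1, e2, ← Nat.mul_add, ← Nat.mul_add, ← Nat.mul_add]
  congr 1
  omega

/-- the solubilizer of an element of order four -/
theorem sol_four (hp : (2 * m + 1).Prime) {x : ↥(Cfsg.Sz F m)} (hx4 : orderOf x = 4) :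
    Nat.card {y : ↥(Cfsg.Sz F m) // Slv x y} = (2 ^ (2 * m + 1)) ^ 2 * (2 ^ (2 * m + 1) + 3) := by
  obtain ⟨g, hgQ⟩ : ∃ g, g⁻¹ * x * g ∈ Q F m := by
    by_contra hcon
    obtain ⟨-, h3⟩ := cent_tor m hcon
    have h4 := S3_odd (F := F) m h3
    have h5 : orderOf (⟨x, mem_cent_self x⟩ : Subgroup.centralizer {x}) ∣ Nat.card (Subgroup.centralizer {x}) := orderOf_dvd_natCard _
    rw [Subgroup.orderOf_mk, hx4] at h5
    have : ¬ 2 ∣ Nat.card (Subgroup.centralizer {x}) := h4.not_two_dvd_nat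
    exact this ((by norm_num : (2 : ℕ) ∣ 4).trans h5)
  obtain ⟨a, b, hab⟩ := hgQ
  have hx : x = g * U m a b * g⁻¹ := by rw [← hab]; group
  have ha : a ≠ 0 := by
    rintro rfl
    have h1 : x * x = 1 := by
      rw [hx]
      calc g * U m 0 b * g⁻¹ * (g * U m 0 b * g⁻¹) = g * (U m 0 b * U m 0 b) * g⁻¹ := by group
        _ = 1 := by rw [U0_sq']; group
    have h2 : orderOf x ∣ 2 := orderOf_dvd_of_pow_eq_one (by rw [sq, h1])
    rw [hx4] at h2
    norm_num at h2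
  rw [hx, card_slv_conj]
  have hsq : U m a b * U m a b = U m 0 (th m a * a) := U_sq m a b
  have hbZ : U m a b * U m a b ∈ Z F m := by rw [hsq]; exact U_mem_Z m _
  have hb1 : U m a b * U m a b ≠ 1 := by
    rw [U_sq, ← U_zero m]
    intro h
    rcases mul_eq_zero.1 (U_inj m h).2 with h | h
    · exact ha ((th_eq_zero m).1 h)
    · exact ha h
  obtain ⟨C, D, hC, hD, hcC, hcD, hNC, hND, hrep⟩ := reps (F := F) m
  rw [sol_unip m hp (U_mem_Q m a b) (Or.inr rfl) hbZ hb1 hC hD hcC hcD hrep]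
  have key : ∀ A : Subgroup ↥(Cfsg.Sz F m), Comp2 m A → Nat.card (NN m A) = 4 * Nat.card A → Nat.card (SA m (U m a b) A) = 2 * 2 ^ (2 * m + 1) * (Nat.card A - 1) := by
    intro A hA hc
    have h1 := card_SA m hA hc (x := U m a b) (Or.inr rfl) hbZ hb1
    rw [card_conj_into, count_four m hA hc ha, card_cent4 m ha] at h1
    have hA0 : 0 < Nat.card A := Nat.card_pos
    have h3 : 4 * Nat.card A - 4 = 4 * (Nat.card A - 1) := by rw [Nat.mul_sub, mul_one]
    rw [h3] at h1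
    apply Nat.eq_of_mul_eq_mul_right (mul_pos (by norm_num : 0 < 4) hA0)
    rw [h1]; ring
  have hNT : Nat.card (NN m (TT F m)) = 2 * Nat.card (TT F m) := by rw [card_TT]; exact card_norm_TT m
  obtain ⟨q1, q2, q3, q4⟩ := q_facts (F := F) m
  have hT0 : Nat.card (SA m (U m a b) (TT F m)) = 0 := by
    have hTT := card_TT (F := F) m
    rw [Nat.card_eq_zero]
    left
    constructor
    rintro ⟨y, -, h, hh, -⟩
    -- an element of order four in a group of order `2 (q-1)`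
    have h5 : orderOf (⟨h⁻¹ * U m a b * h, hh⟩ : NN m (TT F m)) ∣ Nat.card (NN m (TT F m)) := orderOf_dvd_natCard _
    rw [Subgroup.orderOf_mk, hNT, hTT] at h5
    have h6 : orderOf (h⁻¹ * U m a b * h) = 4 := by
      have h7 := (MulAut.conj h⁻¹).orderOf_eq (U m a b)
      have h8 := (MulAut.conj g).orderOf_eq (U m a b)
      have e7 : (MulAut.conj h⁻¹) (U m a b) = h⁻¹ * U m a b * h := by
        show h⁻¹ * U m a b * h⁻¹⁻¹ = _
        rw [inv_inv]
      have e8 : (MulAut.conj g) (U m a b) = x := hx.symm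
      rw [e7] at h7
      rw [e8, hx4] at h8
      rw [h7, ← h8]
    rw [h6] at h5
    have hev : Even (2 ^ (2 * m + 1)) := by rw [q2]; exact even_two_mul _
    obtain ⟨j, hj⟩ := hev
    omega
  rw [hT0, key _ hC hNC, key _ hD hND, card_B, hcC, hcD]
  have hr : 2 ^ (m + 1) ≤ 2 ^ (2 * m + 1) := Nat.pow_le_pow_right (by norm_num) (by omega)
  generalize 2 ^ (2 * m + 1) = q at *
  generalize 2 ^ (m + 1) = r at *
  have e1 : q + r + 1 - 1 = q + r := by omega
  have e2 : q - r + 1 - 1 = q - r := by omega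
  obtain ⟨s, rfl⟩ : ∃ s, q = r + s := ⟨q - r, by omega⟩
  obtain ⟨p, hp'⟩ : ∃ p, r + s = p + 1 := ⟨r + s - 1, by omega⟩
  have e3 : r + s - r = s := by omega
  rw [e1, e2, e3]
  have e4 : r + s - 1 = p := by omega
  rw [e4]
  have e5 : p + 1 = r + s := hp'.symm
  have e6 : (r + s) ^ 2 * p + (r + s) ^ 2 = (r + s) ^ 2 * (r + s) := by rw [← e5]; ring
  nlinarith [e6]

end Cfsg.Agent.H8.Suz
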