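import Mathlib
import Cfsg.Agent.H8.SzT4

set_option autoImplicit false

namespace Cfsg.Agent.H8.Suz

open Matrix Cfsg.Agent.H8.TI
open scoped Pointwise

variable {F : Type*} [Field F] [Fintype F] (m : ℕ) [H : Hyp F m]

theorem pow4_mem {Y : Subgroup ↥(Cfsg.Sz F m)} (hY : Comp2 m Y) {x : ↥(Cfsg.Sz F m)} (hn : x ∈ NN m Y) : x ^ 4 ∈ Y := by
  obtain ⟨c, hc4, hc⟩ := comp2_norm m hY
  have hN : (Y.subgroupOf (NN m Y)).Normal := (Subgroup.normal_subgroupOf_iff_le_normalizer Subgroup.le_normalizer).2 le_rfl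
  have h1 := Subgroup.pow_index_mem (Y.subgroupOf (NN m Y)) ⟨x, hn⟩
  have h2 : (Y.subgroupOf (NN m Y)).index = c := by
    have h3 := (Y.subgroupOf (NN m Y)).card_mul_index
    rw [Nat.card_congr (Subgroup.subgroupOfEquivOfLe (Subgroup.le_normalizer (H := Y))).toEquiv, hc, mul_comm c] at h3
    exact Nat.eq_of_mul_eq_mul_left Nat.card_pos h3
  rw [h2, Subgroup.mem_subgroupOf] at h1
  have h4 : x ^ c ∈ Y := h1
  obtain ⟨d, hd⟩ := hc4
  have h5 : x ^ 4 = (x ^ c) ^ d := by rw [← pow_mul, ← hd]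
  rw [h5]
  exact Y.pow_mem h4 d

theorem norm_odd {X Y : Subgroup ↥(Cfsg.Sz F m)} (hX : Comp2 m X) (hY : Comp2 m Y) {x : ↥(Cfsg.Sz F m)} (hx : x ∈ X) (x1 : x ≠ 1) (hn : x ∈ NN m Y) : X = Y := by
  have h1 := pow4_mem m hY hn
  apply comp_uniq m (Or.inr hX) (Or.inr hY) (X.pow_mem hx 4) h1
  intro h
  apply x1
  apply odd_card_elt m hX hx
  apply odd_card_elt m hX (X.mul_mem hx hx)
  rw [← h]
  simp only [pow_succ, pow_zero, one_mul, mul_assoc]

theorem sol_T (hp : (2 * m + 1).Prime) {k : Fˣ} (hk : (k : F) ≠ 1) :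
    Nat.card {y : ↥(Cfsg.Sz F m) // Slv (T m k) y} = 2 * (2 ^ (2 * m + 1)) ^ 2 * (2 ^ (2 * m + 1) - 1) := by
  have hT1 : T m k ≠ 1 := by
    intro h
    apply hk
    rw [← map_one (T m)] at h
    rw [T_inj m h, Units.val_one]
  have hWB : ∀ y, y ∈ cj (W F m) (B F m) ↔ y • op m (0 : F) 0 = op m 0 0 := by
    intro y
    rw [mem_cj, mem_B, mul_smul, mul_smul, W_oi, inv_smul_eq_iff, W_oi]
  have hset : {y : ↥(Cfsg.Sz F m) | Slv (T m k) y} = ((B F m : Set ↥(Cfsg.Sz F m)) ∪ (cj (W F m) (B F m) : Set ↥(Cfsg.Sz F m))) ∪ (NN m (TT F m) : Set ↥(Cfsg.Sz F m)) := by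
    ext y
    simp only [Set.mem_setOf_eq, Set.mem_union, SetLike.mem_coe]
    have hiff : Slv (T m k) y ↔ _ := solv_iff m hp (T m k) y
    rw [hiff]
    constructor
    · rintro (⟨g, hg, hgy⟩ | ⟨X, hX, hXx, hXy⟩)
      · left
        rw [mem_cj, mem_B, mul_smul, mul_smul, inv_smul_eq_iff] at hg hgy
        rcases T_fix m hk hg with h | h
        · left
          rw [mem_B]; rwa [h] at hgy
        · right
          rw [hWB]; rwa [h] at hgy
      · right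
        have h1 := norm_odd m (comp2_TT m) hX (x := T m k) ⟨k, rfl⟩ hT1 hXx
        rw [← h1] at hXy
        exact hXy
    · rintro ((h | h) | h)
      · exact Or.inl ⟨1, by rw [cj_one]; exact T_mem_B m k, by rw [cj_one]; exact h⟩
      · exact Or.inl ⟨W F m, by rw [hWB]; exact T_op0 m k, h⟩
      · exact Or.inr ⟨TT F m, comp2_TT m, Subgroup.le_normalizer ⟨k, rfl⟩, h⟩
  have e0 : Nat.card {y : ↥(Cfsg.Sz F m) // Slv (T m k) y} = ({y : ↥(Cfsg.Sz F m) | Slv (T m k) y}).ncard := rfl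
  have i1 : (B F m : Set ↥(Cfsg.Sz F m)) ∩ (cj (W F m) (B F m) : Set ↥(Cfsg.Sz F m)) = (TT F m : Set ↥(Cfsg.Sz F m)) := by
    ext y
    simp only [Set.mem_inter_iff, SetLike.mem_coe]
    rw [hWB, mem_B]
    constructor
    · rintro ⟨h1, h2⟩
      obtain ⟨l, hl⟩ := two_op m h1 h2
      exact ⟨l, hl.symm⟩
    · rintro ⟨l, rfl⟩
      exact ⟨T_oi m l, T_op0 m l⟩
  have i2 : ((B F m : Set ↥(Cfsg.Sz F m)) ∪ (cj (W F m) (B F m) : Set ↥(Cfsg.Sz F m))) ∩ (NN m (TT F m) : Set ↥(Cfsg.Sz F m)) = (TT F m : Set ↥(Cfsg.Sz F m)) := by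
    ext y
    simp only [Set.mem_inter_iff, Set.mem_union, SetLike.mem_coe]
    rw [hWB, mem_B, mem_norm_TT]
    constructor
    · rintro ⟨h1, ⟨l, rfl⟩ | ⟨l, rfl⟩⟩
      · exact ⟨l, rfl⟩
      · exfalso
        rw [mul_smul, mul_smul, W_oi, W_op0, T_oi, T_op0] at h1
        rcases h1 with h | h
        · exact op_ne_oi m 0 0 h
        · exact op_ne_oi m 0 0 h.symm
    · rintro ⟨l, rfl⟩
      exact ⟨Or.inl (T_oi m l), Or.inl ⟨l, rfl⟩⟩
  have c1 := Set.ncard_union_add_ncard_inter (B F m : Set ↥(Cfsg.Sz F m)) (cj (W F m) (B F m) : Set ↥(Cfsg.Sz F m)) (Set.toFinite _) (Set.toFinite _)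
  have c2 := Set.ncard_union_add_ncard_inter ((B F m : Set ↥(Cfsg.Sz F m)) ∪ (cj (W F m) (B F m) : Set ↥(Cfsg.Sz F m))) (NN m (TT F m) : Set ↥(Cfsg.Sz F m)) (Set.toFinite _) (Set.toFinite _)
  rw [i1] at c1
  rw [i2] at c2
  have b1 : (B F m : Set ↥(Cfsg.Sz F m)).ncard = Nat.card (B F m) := rfl
  have b2 : (cj (W F m) (B F m) : Set ↥(Cfsg.Sz F m)).ncard = Nat.card (cj (W F m) (B F m)) := rfl
  have b3 : (TT F m : Set ↥(Cfsg.Sz F m)).ncard = Nat.card (TT F m) := rfl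
  have b4 : (NN m (TT F m) : Set ↥(Cfsg.Sz F m)).ncard = Nat.card (NN m (TT F m)) := rfl
  have hNT : Nat.card (NN m (TT F m)) = 2 * Nat.card (TT F m) := by rw [card_TT]; exact card_norm_TT m
  rw [b1, b2, b3, card_cj, card_B] at c1
  rw [b3, b4, hNT] at c2
  rw [e0, hset]
  rw [mul_assoc]
  omega

theorem sol_fpf (hp : (2 * m + 1).Prime) {x : ↥(Cfsg.Sz F m)} (hx : Fpf m x) :
    Nat.card {y : ↥(Cfsg.Sz F m) // Slv x y} = 4 * Nat.card (Subgroup.centralizer {x}) := by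
  have hC : IsTor m (Subgroup.centralizer {x}) := ⟨x, hx, rfl⟩
  rw [← (tor_four m hC).1]
  apply Nat.card_congr
  apply Equiv.subtypeEquivRight
  intro y
  have hiff : Slv x y ↔ _ := solv_iff m hp x y
  rw [hiff]
  constructor
  · rintro (⟨g, hg, hgy⟩ | ⟨X, hX, hXx, hXy⟩)
    · exfalso
      rw [mem_cj, mem_B, mul_smul, mul_smul, inv_smul_eq_iff] at hg
      exact hx _ hg
    · have h1 := norm_odd m (Or.inr hC) hX (mem_cent_self x) (fpf_ne_one m hx) hXx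
      rw [h1]
      exact hXy
  · intro h
    exact Or.inr ⟨_, Or.inr hC, Subgroup.le_normalizer (mem_cent_self x), h⟩

end Cfsg.Agent.H8.Suz
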